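import Mathlib
import Cfsg.Agent.H944.E6TwE_m3
import Cfsg.Agent.H65.E6Ext_m3
import Cfsg.Agent.H401.E6Grp_m3
import Cfsg.Agent.Lib.FinFast
import Cfsg.Agent.H944.E6Tab
import Cfsg.Agent.H879.E6.Conj_m3
import Cfsg.Agent.H952.F4.Scott_m3
import Cfsg.Agent.Lib.PermCode
import Cfsg.Agent.H944.E6TwC
import Cfsg.Agent.FastGrp
import Cfsg.Agent.Prune
set_option linter.all false

section
prune_inst 0x7ffeadfbabfcb9dfdfff7e77a6decffdfdb93fffa6dff9cbffe069ff0b9f538089c56b8d8bea10fe1ed7e21410b87b03f9ffefffe86bdc7ffffd5ff41ffbee4fe5f73508519488340fbc0ff603f0778e7f3fffffffffffffffffffffffffffaeffbfffffffff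

-- part: H251/E6/TrForm
section
prune_inst 0x110045403422020000180010120000202400000000400000a020030402812440894200010a100010008010440004006001000100420000000a000000011b01800000000080080000020088000080000000000000000000000000000000010000000000000
set_option linter.all false
open scoped Cfsg.Agent.FastGrp

-- part: H927/JacobsonFormula
section
/-!
# Jacobson's formula (helper927)

`A` an algebra over a field `F` of characteristic `p`, `S` a subspace closed under commutators, `a, b ∈ S`: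
`(a + b) ^ p - a ^ p - b ^ p ∈ S`.
-/

set_option autoImplicit false

namespace Cfsg.Agent.H927.Jac

open Polynomial

/-- binomial coefficients `(p - 1 over m)` modulo `p` -/
theorem choose_cast {B : Type*} [Ring B] {p : ℕ} (hp : p.Prime) (hB : (p : B) = 0) :
    ∀ j, j ≤ p - 1 → (((p - 1).choose (p - 1 - j) : ℕ) : B) = (-1) ^ j := by
  intro j
  induction j with
  | zero => intro _; rw [Nat.sub_zero, Nat.choose_self, Nat.cast_one, pow_zero]
  | succ j ih =>
    intro hj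
    have h1 := ih (by omega)
    have h2 : p.choose (p - 1 - j) = (p - 1).choose (p - 1 - (j + 1)) + (p - 1).choose (p - 1 - j) := by
      obtain ⟨q, hq⟩ : ∃ q, p = q + 1 := ⟨p - 1, by have := hp.pos; omega⟩
      obtain ⟨i, hi⟩ : ∃ i, q - j = i + 1 := ⟨q - j - 1, by omega⟩
      have e1 : p - 1 = q := by omega
      have e3 : q - (j + 1) = i := by omega
      rw [e1, hi, e3, hq, Nat.choose_succ_succ]
    have h3 : ((p.choose (p - 1 - j) : ℕ) : B) = 0 := by
      have h4 : p ∣ p.choose (p - 1 - j) := hp.dvd_choose_self (by omega) (by omega)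
      obtain ⟨k, hk⟩ := h4
      rw [hk, Nat.cast_mul, hB, zero_mul]
    rw [h2, Nat.cast_add, h1] at h3
    rw [pow_succ, mul_neg_one]
    exact eq_neg_of_add_eq_zero_left h3

/-- `Σ f ^ i a f ^ (p - 1 - i) = (ad f) ^ (p - 1) a` in characteristic `p` -/
theorem ad_pow {B : Type*} [Ring B] {p : ℕ} (hp : p.Prime) (hB : (p : B) = 0) (f a : B) :
    ∑ m ∈ Finset.range p, f ^ m * a * f ^ (p - 1 - m) = (fun x => f * x - x * f)^[p - 1] a := by
  set Lf : AddMonoid.End B := AddMonoidHom.mulLeft f with hL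
  set Rf : AddMonoid.End B := AddMonoidHom.mulRight f with hR
  have hL' : ∀ x, Lf x = f * x := fun x => rfl
  have hR' : ∀ x, Rf x = x * f := fun x => rfl
  have hcomm : Commute Lf (-Rf) := by
    ext x
    show f * (-(x * f)) = -((f * x) * f)
    rw [mul_neg, mul_assoc]
  have hit : ∀ n x, ((Lf + -Rf) ^ n) x = (fun x => f * x - x * f)^[n] x := by
    intro n
    induction n with
    | zero => intro x; rfl
    | succ n ih =>
      intro x
      rw [pow_succ, Function.iterate_succ_apply, ← ih]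
      show ((Lf + -Rf) ^ n) ((Lf + -Rf) x) = _
      congr 1
      show Lf x + -(Rf x) = _
      rw [hL', hR', sub_eq_add_neg]
  have hLp : ∀ n x, (Lf ^ n) x = f ^ n * x := by
    intro n
    induction n with
    | zero => intro x; rw [pow_zero, pow_zero, one_mul]; rfl
    | succ n ih =>
      intro x
      rw [pow_succ, pow_succ]
      show (Lf ^ n) (Lf x) = _
      rw [ih, hL', mul_assoc]
  have hRp : ∀ n x, ((-Rf) ^ n) x = (-1) ^ n * (x * f ^ n) := by
    intro n
    induction n with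
    | zero => intro x; rw [pow_zero, pow_zero, pow_zero, one_mul, mul_one]; rfl
    | succ n ih =>
      intro x
      rw [pow_succ]
      show ((-Rf) ^ n) (-(Rf x)) = _
      rw [ih, hR', pow_succ, pow_succ']
      simp only [neg_mul, mul_neg, mul_assoc, mul_one]
  rw [← hit, hcomm.add_pow]
  have hp1 : p - 1 + 1 = p := Nat.sub_add_cancel hp.pos
  rw [hp1]
  have happ : ∀ (s : Finset ℕ) (g : ℕ → AddMonoid.End B), (∑ m ∈ s, g m) a = ∑ m ∈ s, g m a := by
    intro s g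
    exact AddMonoidHom.finsetSum_apply _ _ _
  rw [happ]
  refine Finset.sum_congr rfl fun m hm => ?_
  have hm' : m < p := Finset.mem_range.1 hm
  have hnc : ∀ (n : ℕ) (x : B), ((n : ℕ) : AddMonoid.End B) x = n • x := fun n x => rfl
  show _ = (Lf ^ m) (((-Rf) ^ (p - 1 - m)) ((((p - 1).choose m : ℕ) : AddMonoid.End B) a))
  rw [hnc, hRp, hLp]
  have hc := choose_cast hp hB (p - 1 - m) (by omega)
  rw [show p - 1 - (p - 1 - m) = m by omega] at hc
  rw [nsmul_eq_mul, hc]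
  have h1 : ((-1 : B) ^ (p - 1 - m)) * ((-1) ^ (p - 1 - m) * a * f ^ (p - 1 - m)) = a * f ^ (p - 1 - m) := by
    rw [← mul_assoc, ← mul_assoc, ← pow_add, ← two_mul, pow_mul, neg_one_sq, one_pow, one_mul]
  rw [h1, mul_assoc]

theorem derivative_pow' {A : Type*} [Ring A] (f : A[X]) (n : ℕ) :
    derivative (f ^ n) = ∑ m ∈ Finset.range n, f ^ m * derivative f * f ^ (n - 1 - m) := by
  induction n with
  | zero => simp
  | succ n ih =>
    rw [pow_succ, derivative_mul, ih, Finset.sum_mul, Finset.sum_range_succ]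
    congr 1
    · refine Finset.sum_congr rfl fun m hm => ?_
      have hm' : m < n := Finset.mem_range.1 hm
      rw [show n + 1 - 1 - m = (n - 1 - m) + 1 by omega, pow_succ]
      simp only [mul_assoc]
    · rw [show n + 1 - 1 - n = 0 by omega, pow_zero, mul_one]

variable {F A : Type*} [Field F] [Ring A] [Algebra F A]

/-- **Jacobson's formula** -/
theorem jacobson {p : ℕ} (hp : p.Prime) [CharP F p] (S : Submodule F A) (hS : ∀ a ∈ S, ∀ b ∈ S, a * b - b * a ∈ S)
    {a b : A} (ha : a ∈ S) (hb : b ∈ S) : (a + b) ^ p - a ^ p - b ^ p ∈ S := by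
  have hpF : (p : F) = 0 := CharP.cast_eq_zero F p
  have hpA : (p : A) = 0 := by
    rw [← map_natCast (algebraMap F A) p, hpF, map_zero]
  have hpX : (p : A[X]) = 0 := by
    rw [← map_natCast (C : A →+* A[X]) p, hpA, map_zero]
  set f : A[X] := C b + X * C a with hf
  have hdf : derivative f = C a := by
    rw [hf, map_add, derivative_C, zero_add, derivative_mul, derivative_X, derivative_C, one_mul, mul_zero, add_zero]
  have hder := derivative_pow' f p
  rw [hdf, ad_pow hp hpX] at hder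
  -- coefficients of the iterated commutator
  have hcoef : ∀ n g, (∀ k, coeff g k ∈ S) → ∀ k, coeff ((fun x => f * x - x * f)^[n] g) k ∈ S := by
    intro n
    induction n with
    | zero => intro g hg k; exact hg k
    | succ n ih =>
      intro g hg k
      rw [Function.iterate_succ_apply]
      refine ih _ (fun k => ?_) k
      have e : f * g - g * f = (C b * g - g * C b) + X * (C a * g - g * C a) := by
        rw [hf, add_mul, mul_add, mul_sub, mul_assoc X, ← mul_assoc g X, ← X_mul (p := g), mul_assoc X]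
        abel
      show coeff (f * g - g * f) k ∈ S
      rw [e, coeff_add, coeff_sub, coeff_C_mul, coeff_mul_C]
      refine add_mem (hS _ hb _ (hg k)) ?_
      rcases k with _ | k
      · rw [mul_coeff_zero, coeff_X_zero, zero_mul]
        exact zero_mem _
      · rw [coeff_X_mul, coeff_sub, coeff_C_mul, coeff_mul_C]
        exact hS _ ha _ (hg k)
  have hCa : ∀ k, coeff (C a) k ∈ S := by
    intro k
    rw [coeff_C]
    split_ifs
    · exact ha
    · exact zero_mem _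
  have hmid : ∀ k, k + 1 < p → coeff (f ^ p) (k + 1) ∈ S := by
    intro k hk
    have h1 : coeff (derivative (f ^ p)) k ∈ S := by
      rw [hder]; exact hcoef _ _ hCa k
    rw [coeff_derivative] at h1
    have h2 : ((k + 1 : ℕ) : F) ≠ 0 := by
      intro h0
      rw [CharP.cast_eq_zero_iff F p] at h0
      have := Nat.le_of_dvd (Nat.succ_pos k) h0
      omega
    have h3 : coeff (f ^ p) (k + 1) * ((k : A) + 1) = ((k + 1 : ℕ) : F) • coeff (f ^ p) (k + 1) := by
      rw [Algebra.smul_def, map_natCast]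
      push_cast
      exact ((Nat.cast_commute k _).add_left (Commute.one_left _)).eq.symm
    rw [h3] at h1
    have h4 := S.smul_mem (((k + 1 : ℕ) : F)⁻¹) h1
    rwa [smul_smul, inv_mul_cancel₀ h2, one_smul] at h4
  have hnd : natDegree f ≤ 1 := by
    rw [hf]
    refine natDegree_add_le_of_degree_le ((natDegree_C b).le.trans (Nat.zero_le _)) ?_
    refine (natDegree_mul_le).trans ?_
    rw [natDegree_C]
    have := natDegree_X_le (R := A)
    omega
  have hpow : ∀ n, natDegree (f ^ n) ≤ n ∧ coeff (f ^ n) n = a ^ n ∧ coeff (f ^ n) 0 = b ^ n := by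
    intro n
    induction n with
    | zero => refine ⟨by simp, by simp, by simp⟩
    | succ n ih =>
      refine ⟨?_, ?_, ?_⟩
      · rw [pow_succ]
        exact natDegree_mul_le.trans (by omega)
      · rw [pow_succ, coeff_mul_add_eq_of_natDegree_le ih.1 hnd, ih.2.1, pow_succ]
        congr 1
        rw [hf, coeff_add, coeff_X_mul, coeff_C, coeff_C]
        simp
      · rw [pow_succ, mul_coeff_zero, ih.2.2, pow_succ]
        congr 1
        rw [hf, coeff_add, mul_coeff_zero, coeff_X_zero, zero_mul, coeff_C_zero, add_zero]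
  -- evaluation at 1
  set ev : A[X] →+* A := eval₂RingHom' (RingHom.id A) 1 (fun a => Commute.one_right a) with hev
  have hevf : ev f = a + b := by
    rw [hev, hf]
    simp [add_comm]
  have hsum : (a + b) ^ p = ∑ i ∈ Finset.range (p + 1), coeff (f ^ p) i := by
    rw [← hevf, ← map_pow]
    show eval₂ (RingHom.id A) 1 (f ^ p) = _
    rw [eval₂_eq_sum_range' (RingHom.id A) (Nat.lt_succ_of_le (hpow p).1)]
    refine Finset.sum_congr rfl fun i _ => ?_
    rw [one_pow, mul_one]; rfl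
  rw [hsum, Finset.sum_range_succ, (hpow p).2.1]
  obtain ⟨q, hq⟩ : ∃ q, p = q + 1 := ⟨p - 1, by have := hp.pos; omega⟩
  have hs2 : ∑ i ∈ Finset.range p, coeff (f ^ p) i = (∑ i ∈ Finset.range q, coeff (f ^ p) (i + 1)) + b ^ p := by
    have e : Finset.range p = Finset.range (q + 1) := by rw [← hq]
    rw [e, Finset.sum_range_succ', (hpow p).2.2]
  rw [hs2]
  have : (∑ i ∈ Finset.range q, coeff (f ^ p) (i + 1)) + b ^ p + a ^ p - a ^ p - b ^ p =
      ∑ i ∈ Finset.range q, coeff (f ^ p) (i + 1) := by abel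
  rw [this]
  refine Submodule.sum_mem _ fun i hi => hmid i ?_
  have := Finset.mem_range.1 hi
  omega

end Cfsg.Agent.H927.Jac
end

-- part: H927/E6Der2
section
/-!
# S5927: derivations of the cubic form, part 2 (helper927)

* `IsDer X` : derivations; `isDer_D`, `isDer_D'`; `D' c` : the action on `V'`; `D'_sh`, `D'_cr`, `D_sh'`, `D_cr'`;
* `trace_D`, `trace_D'`; `pow_p_mem`, `pow_mem` : closed under `p`-th powers (Jacobson's formula);
* `one_add_mem_odd` : characteristic not 2, `D c ∘ D c = 0`: `1 + D c` belongs to the group;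
* `grading` and its variants for generalized eigenspaces.
-/

set_option autoImplicit false

namespace Cfsg.Agent.H163.E6.Der

open Cfsg Cfsg.Lie Module
open Cfsg.Agent.ChevalleyStructure.E6Min.Tables Cfsg.Agent.ChevalleyStructure.E6Min.Basic
  Cfsg.Agent.ChevalleyStructure.E6Min.Adjoint
open Cfsg.Agent.H952.F4 (sh cr tf matRep ev)
open Cfsg.Agent.H952.F4.Jord
open Cfsg.Agent.H184.GraphE6 (PM PM_mulVec PM_sq PM_transpose pi pi_pi Nm_transpose)
open scoped Matrix

universe u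

variable {F : Type u} [Field F]

theorem cr_zero_left (x : I27 → F) : cr 0 x = 0 := by
  have := cr_smul_left (0 : F) 0 x
  rwa [zero_smul, zero_smul] at this

theorem cr_zero_right (x : I27 → F) : cr x 0 = 0 := by rw [cr_comm, cr_zero_left]

/-! ### derivations -/

/-- derivations of the cubic form (with the partial polarization) -/
structure IsDer (X : (I27 → F) →ₗ[F] (I27 → F)) : Prop where
  one : ∀ x, tf (sh x) (X x) = 0
  two : ∀ x y, tf (cr x y) (X x) + tf (sh x) (X y) = 0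

theorem isDer_D (c : chevE6.Idx → F) : IsDer (D c) := ⟨tf_sh_D c, tf_cr_D c⟩

theorem IsDer.tri {X : (I27 → F) →ₗ[F] (I27 → F)} (hX : IsDer X) (x y z : I27 → F) :
    tf (cr y z) (X x) + tf (cr x z) (X y) + tf (cr x y) (X z) = 0 := by
  have h1 := hX.two (x + z) y
  have h2 := hX.two x y
  have h3 := hX.two z y
  rw [cr_add_left, map_add, tf_add_left, tf_add_right, tf_add_right, sh_add, tf_add_left, tf_add_left] at h1
  rw [cr_comm y z]
  linear_combination h1 - h2 - h3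

/-- adjoint pairs of endomorphisms of `V` and `V'` -/
def Adj (X X' : (I27 → F) →ₗ[F] (I27 → F)) : Prop := ∀ x y, tf (X x) y + tf x (X' y) = 0

theorem Adj.symm {X X' : (I27 → F) →ₗ[F] (I27 → F)} (h : Adj X X') : Adj X' X := by
  intro x y
  have := h y x
  rw [tf_comm (X y), tf_comm y] at this
  rw [add_comm]
  exact this

theorem IsDer.sh_eq {X X' : (I27 → F) →ₗ[F] (I27 → F)} (hX : IsDer X) (ha : Adj X X') (x : I27 → F) :
    X' (sh x) = cr x (X x) := by
  have key : ∀ y, tf (X' (sh x) - cr x (X x)) y = 0 := by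
    intro y
    have h1 := ha y (sh x)
    have h2 := hX.two x y
    rw [tri_comm] at h2
    rw [sub_eq_add_neg, tf_add_left, ← neg_one_smul F (cr x (X x)), tf_smul_left, tf_comm (X' _)]
    rw [tf_comm (X y)] at h1
    linear_combination h1 - h2
  exact sub_eq_zero.1 (tf_nondeg key)

theorem IsDer.cr_eq {X X' : (I27 → F) →ₗ[F] (I27 → F)} (hX : IsDer X) (ha : Adj X X') (x y : I27 → F) :
    X' (cr x y) = cr (X x) y + cr x (X y) := by
  have key : ∀ z, tf (X' (cr x y) - (cr (X x) y + cr x (X y))) z = 0 := by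
    intro z
    have h1 := ha z (cr x y)
    have h2 := hX.tri x y z
    have e1 : tf (cr y z) (X x) = tf (cr (X x) y) z := by
      rw [tri_comm y z, cr_comm y]
    have e2 : tf (cr x z) (X y) = tf (cr x (X y)) z := tri_comm _ _ _
    rw [e1, e2] at h2
    rw [sub_eq_add_neg, tf_add_left, ← neg_one_smul F (cr (X x) y + _), tf_smul_left, tf_add_left, tf_comm (X' _)]
    rw [tf_comm (X z)] at h1
    linear_combination h1 - h2
  exact sub_eq_zero.1 (tf_nondeg key)

/-! ### the action on `V'` -/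

theorem tf_eq_dot (x y : I27 → F) : tf x y = x ⬝ᵥ (PM F *ᵥ y) := by
  have h : (PM F *ᵥ y) = fun a => y (pi a) := by
    funext a; exact PM_mulVec y a
  rw [h, tf_eq]
  simp only [dotProduct, Fintype.sum_prod_type, Fin.sum_univ_three, pi, Matrix.cons_val_zero, Matrix.cons_val_one,
    Matrix.cons_val]

/-- the action of the Lie algebra on `V'` -/
noncomputable def D' (c : chevE6.Idx → F) : (I27 → F) →ₗ[F] (I27 → F) :=
  Matrix.toLin' (-(PM F * (comb c)ᵀ * PM F))

theorem D'_apply (c : chevE6.Idx → F) (x : I27 → F) : D' c x = (-(PM F * (comb c)ᵀ * PM F)) *ᵥ x :=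
  Matrix.toLin'_apply _ _

theorem adj_D (c : chevE6.Idx → F) : Adj (D c) (D' c) := by
  intro x y
  rw [D_apply, D'_apply, Matrix.neg_mulVec, tf_neg_right, tf_eq_dot, tf_eq_dot, Matrix.mulVec_mulVec, ← mul_assoc,
    ← mul_assoc, PM_sq, one_mul, ← Matrix.mulVec_mulVec, Matrix.dotProduct_mulVec x, Matrix.vecMul_transpose,
    add_neg_cancel]

theorem adj_D' (c : chevE6.Idx → F) : Adj (D' c) (D c) := (adj_D c).symm

theorem sh_PM (x : I27 → F) : sh (PM F *ᵥ x) = PM F *ᵥ sh x := by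
  have h : ∀ y : I27 → F, (PM F *ᵥ y) = fun a => y (pi a) := by
    intro y; funext a; exact PM_mulVec y a
  rw [h, h]
  refine ext27 fun k i j => ?_
  fin_cases k <;> fin_cases i <;> fin_cases j <;>
    simp only [Fin.zero_eta, Fin.mk_one, Fin.reduceFinMk, pi, Matrix.cons_val_zero, Matrix.cons_val_one,
      Matrix.cons_val, sh000, sh001, sh002, sh010, sh011,
      sh012, sh020, sh021, sh022, sh100, sh101, sh102, sh110, sh111, sh112, sh120, sh121, sh122, sh200, sh201, sh202,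
      sh210, sh211, sh212, sh220, sh221, sh222] <;> ring

theorem cr_PM (x y : I27 → F) : cr (PM F *ᵥ x) (PM F *ᵥ y) = PM F *ᵥ cr x y := by
  unfold cr
  rw [← Matrix.mulVec_add, sh_PM, sh_PM, sh_PM, Matrix.mulVec_sub, Matrix.mulVec_sub]

theorem tf_PM (x y : I27 → F) : tf (PM F *ᵥ x) y = tf x (PM F *ᵥ y) := by
  have h1 : PM F * PM F = 1 := PM_sq
  rw [tf_eq_dot, tf_eq_dot, Matrix.mulVec_mulVec, h1, Matrix.one_mulVec, Matrix.dotProduct_mulVec (PM F *ᵥ x),
    Matrix.vecMul_mulVec, PM_transpose, h1, Matrix.vecMul_one]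

/-- the transposed coefficients -/
def flip (c : chevE6.Idx → F) : chevE6.Idx → F
  | Sum.inl i => c (Sum.inl i)
  | Sum.inr r => c (Sum.inr (Fin.rev r))

theorem comb_transpose (c : chevE6.Idx → F) : (comb c)ᵀ = comb (flip c) := by
  rw [comb_split, comb_split, Matrix.transpose_add, Matrix.transpose_sum, Matrix.transpose_sum]
  congr 1
  · refine Finset.sum_congr rfl fun i _ => ?_
    rw [Matrix.transpose_smul]
    unfold Hm
    rw [Matrix.diagonal_transpose]
    rfl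
  · refine Fintype.sum_equiv Fin.revPerm _ _ fun r => ?_
    rw [Matrix.transpose_smul, Nm_transpose (lt72 r)]
    have h1 : (Fin.revPerm r).val = 71 - r.val := by
      rw [Fin.revPerm_apply, Fin.val_rev]
      change 72 - (r.val + 1) = 71 - r.val
      omega
    rw [h1]
    have h2 : flip c (Sum.inr (Fin.revPerm r)) = c (Sum.inr r) := by
      show c (Sum.inr (Fin.rev (Fin.rev r))) = _
      rw [Fin.rev_rev]
    rw [h2]

theorem D'_eq (c : chevE6.Idx → F) (x : I27 → F) : D' c x = -(PM F *ᵥ (D (flip c) (PM F *ᵥ x))) := by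
  rw [D'_apply, D_apply, Matrix.neg_mulVec, comb_transpose, Matrix.mulVec_mulVec, Matrix.mulVec_mulVec, mul_assoc]

theorem isDer_D' (c : chevE6.Idx → F) : IsDer (D' c) := by
  constructor
  · intro x
    rw [D'_eq, tf_neg_right, ← tf_PM, ← sh_PM, tf_sh_D, neg_zero]
  · intro x y
    rw [D'_eq, D'_eq, tf_neg_right, tf_neg_right, ← tf_PM, ← tf_PM, ← sh_PM, ← cr_PM]
    have := tf_cr_D (flip c) (PM F *ᵥ x) (PM F *ᵥ y)
    linear_combination -this

theorem D'_cr (c : chevE6.Idx → F) (x y : I27 → F) : D' c (cr x y) = cr (D c x) y + cr x (D c y) :=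
  (isDer_D c).cr_eq (adj_D c) x y

theorem D_sh' (c : chevE6.Idx → F) (y : I27 → F) : D c (sh y) = cr y (D' c y) := (isDer_D' c).sh_eq (adj_D' c) y

theorem D_cr' (c : chevE6.Idx → F) (x y : I27 → F) : D c (cr x y) = cr (D' c x) y + cr x (D' c y) :=
  (isDer_D' c).cr_eq (adj_D' c) x y

/-! ### traces -/

/-! ### powers -/

theorem pow_p_LA {p : ℕ} (hp : p.Prime) [CharP F p] {M : Matrix I27 I27 F} (hM : M ∈ LA F) : M ^ p ∈ LA F := by
  have hS : ∀ a ∈ LA F, ∀ b ∈ LA F, a * b - b * a ∈ LA F := fun a ha b hb => bracket_mem ha hb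
  unfold LA at hM
  induction hM using Submodule.span_induction with
  | mem x hx =>
    obtain ⟨a, rfl⟩ := hx
    rcases a with i | r
    · have : B F (Sum.inl i) ^ p = B F (Sum.inl i) := by
        rw [B_inl]
        unfold Hm
        rw [Matrix.diagonal_pow]
        congr 1
        funext x
        have : Fact p.Prime := ⟨hp⟩
        rw [Pi.pow_apply]
        exact map_intCast (frobenius F p) _
      rw [this]
      exact B_mem _
    · rw [B_inr]
      obtain ⟨q, hq⟩ : ∃ q, p = q + 2 := ⟨p - 2, by have := hp.two_le; omega⟩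
      rw [hq, pow_add, pow_two, Nm_sq (lt72 r), mul_zero]
      exact zero_mem _
  | zero => rw [zero_pow hp.ne_zero]; exact zero_mem _
  | add y z hy hz h3 h4 =>
    have h5 := Cfsg.Agent.H927.Jac.jacobson hp (LA F) hS hy hz
    have h6 : (y + z) ^ p = ((y + z) ^ p - y ^ p - z ^ p) + y ^ p + z ^ p := by abel
    rw [h6]
    exact add_mem (add_mem h5 h3) h4
  | smul t y _ h1 =>
    rw [smul_pow]
    exact Submodule.smul_mem _ _ h1

theorem D_pow (c : chevE6.Idx → F) (n : ℕ) : D c ^ n = Matrix.toLin' (comb c ^ n) := by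
  induction n with
  | zero => rw [pow_zero, pow_zero, Matrix.toLin'_one]; rfl
  | succ n ih => rw [pow_succ, pow_succ, Matrix.toLin'_mul, ih]; rfl

/-- the Lie algebra is closed under `p`-th powers -/
theorem pow_p_mem {p : ℕ} (hp : p.Prime) [CharP F p] (c : chevE6.Idx → F) : ∃ c' : chevE6.Idx → F, D c' = D c ^ p := by
  obtain ⟨c', hc'⟩ := mem_LA_iff.1 (pow_p_LA hp (mem_LA_iff.2 ⟨c, rfl⟩))
  refine ⟨c', ?_⟩
  rw [D_pow, ← hc']
  rfl

/-- the Lie algebra is closed under `p ^ i`-th powers -/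
theorem pow_mem {p : ℕ} (hp : p.Prime) [CharP F p] (c : chevE6.Idx → F) (i : ℕ) :
    ∃ c' : chevE6.Idx → F, D c' = D c ^ (p ^ i) := by
  induction i with
  | zero => exact ⟨c, by rw [pow_zero, pow_one]⟩
  | succ i ih =>
    obtain ⟨c', hc'⟩ := ih
    obtain ⟨c'', hc''⟩ := pow_p_mem hp c'
    exact ⟨c'', by rw [hc'', hc', ← pow_mul, pow_succ]⟩

/-! ### the exponential in characteristic not 2 -/

/-- `1 + X` for a derivation `X` with totally singular image and square 0 -/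
theorem one_add_mem_of_ts [Finite F] (h3 : 3 ≤ Nat.card F) {X : (I27 → F) →ₗ[F] (I27 → F)} (hX : IsDer X)
    (hsq : ∀ x, X (X x) = 0) (hts : ∀ y, sh (X y) = 0) : ∃ g : ↥(Zgrp F), ∀ x, V F g x = x + X x := by
  classical
  have := Fintype.ofFinite F
  have hF : 3 ≤ Fintype.card F := by rwa [← Nat.card_eq_fintype_card]
  set M := LinearMap.toMatrix' X with hM
  have hMX : ∀ x, M *ᵥ x = X x := fun x => by rw [← Matrix.toLin'_apply, hM, Matrix.toLin'_toMatrix']
  have hMM : M * M = 0 := by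
    rw [hM, ← LinearMap.toMatrix'_comp, show X ∘ₗ X = 0 from LinearMap.ext hsq, map_zero]
  let g : GL I27 F := ⟨1 + M, 1 - M, by
    rw [mul_sub, mul_one, add_mul, one_mul, hMM]; abel, by
    rw [mul_add, mul_one, sub_mul, one_mul, hMM]; abel⟩
  have hgv : ∀ x, (g : Matrix I27 I27 F) *ᵥ x = x + X x := by
    intro x
    change (1 + M) *ᵥ x = _
    rw [Matrix.add_mulVec, Matrix.one_mulVec, hMX]
  have hg : g ∈ E6univ F := by
    intro v
    change cubicT ((g : Matrix I27 I27 F) *ᵥ v) = cubicT v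
    have hN : cubicT (X v) = 0 := by
      have h1 := sh_sh (X v)
      have h0 : sh (0 : I27 → F) = 0 := by
        have := sh_smul (0 : F) (0 : I27 → F)
        rwa [zero_smul, zero_pow two_ne_zero, zero_smul] at this
      rw [hts, h0] at h1
      rcases smul_eq_zero.1 h1.symm with h | h
      · exact h
      · rw [h, ← zero_smul F (0 : I27 → F), N_smul]; ring
    rw [hgv, N_add, hX.one, hts, tf_zero_right, hN, add_zero, add_zero, add_zero]
  rw [← Cfsg.Agent.ChevalleyStructure.E6Min.Torus.Zgrp_eq hF] at hg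
  exact ⟨⟨g, hg⟩, fun x => hgv x⟩

/-! ### the grading -/

end Cfsg.Agent.H163.E6.Der
end

-- part: H251/E6/TrForm
section
/-!
# The trace form on the adjoint module (helper251, S5927)
-/

set_option autoImplicit false

namespace Cfsg.Agent.H251.E6

open Cfsg Cfsg.Lie Module
open Cfsg.Agent.ChevalleyStructure.E6Min.Tables Cfsg.Agent.ChevalleyStructure.E6Min.Basic
  Cfsg.Agent.ChevalleyStructure.E6Min.Adjoint Cfsg.Agent.ChevalleyStructure.E6Min.Checks
open Cfsg.Agent.H65.E6Inv (ng ng_ng)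
open scoped Matrix

private noncomputable def _root_.Cfsg.Agent.KO250cabe.k0s : (by first | exact Subtype (fun g => @HAdd.hAdd.{0, 0, 0} (ℕ) (ℕ) (ℕ) _ = @g) | exact Unit : Sort _) := by first | (refine @Subtype.mk _ _ (@(fun x0 x1 => @Nat.add @x0 @x1)) ?_; rfl') | exact ⟨_, rfl⟩ | exact ()
private noncomputable def _root_.Cfsg.Agent.KO250cabe.k0 : (by first | exact type_of% (@Subtype.val _ _ _root_.Cfsg.Agent.KO250cabe.k0s) | exact Unit : Sort _) := by first | exact @Subtype.val _ _ _root_.Cfsg.Agent.KO250cabe.k0s | exact ()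
private theorem _root_.Cfsg.Agent.KO250cabe.e0 : (by first | exact type_of% (show _ = @_root_.Cfsg.Agent.KO250cabe.k0 from @Subtype.property _ _ _root_.Cfsg.Agent.KO250cabe.k0s) | exact True : Prop) := by first | exact @Subtype.property _ _ _root_.Cfsg.Agent.KO250cabe.k0s | trivial
private noncomputable def _root_.Cfsg.Agent.KO250cabe.k1 : (by first | exact type_of% @Cfsg.Agent.ChevalleyStructure.E6Min.Tables.allLt | exact Unit : Sort _) := by first | (refine @Subtype.val _ (fun g => @Cfsg.Agent.ChevalleyStructure.E6Min.Tables.allLt = @g) (@Subtype.mk _ _ (@(fun x0 x1 => @Nat.rec.{1} @(fun x2 => @Bool) @Bool.true @(fun x2 x3 => @Bool.rec.{1} @(fun x4 => @Bool) @Bool.false @x3 (@x1 @x2)) @x0)) ?_); rfl') | exact @Cfsg.Agent.ChevalleyStructure.E6Min.Tables.allLt | exact ()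
private theorem _root_.Cfsg.Agent.KO250cabe.e1 : (by first | exact @Cfsg.Agent.ChevalleyStructure.E6Min.Tables.allLt = @_root_.Cfsg.Agent.KO250cabe.k1 | exact True : Prop) := by first | (delta _root_.Cfsg.Agent.KO250cabe.k1; exact @Subtype.property _ (fun g => @Cfsg.Agent.ChevalleyStructure.E6Min.Tables.allLt = @g) _) | rfl | trivial
private noncomputable def _root_.Cfsg.Agent.KO250cabe.k2 : type_of% @Bool.or := @(fun x0 x1 => @Bool.rec.{1} @(fun x2 => @Bool) @x1 @Bool.true @x0)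
private theorem _root_.Cfsg.Agent.KO250cabe.e2 : @Bool.or = @_root_.Cfsg.Agent.KO250cabe.k2 := by delta _root_.Cfsg.Agent.KO250cabe.k2; rfl'
private noncomputable def _root_.Cfsg.Agent.KO250cabe.k3 : (by first | exact type_of% @Cfsg.Agent.ChevalleyStructure.E6Min.Tables.ent | exact Unit : Sort _) := by first | (refine @Subtype.val _ (fun g => @Cfsg.Agent.ChevalleyStructure.E6Min.Tables.ent = @g) (@Subtype.mk _ _ (@(letI c0 := @Nat.mul; @(fun x0 x1 => @Nat.land (@Nat.shiftRight @Cfsg.Agent.ChevalleyStructure.E6Min.Tables.TR (@c0 (nat_lit 7) (@Nat.add (@c0 (nat_lit 27) @x0) @x1))) (nat_lit 127)))) ?_); (try delta Cfsg.Agent.ChevalleyStructure.E6Min.Tables.ent); (try generalize @Cfsg.Agent.ChevalleyStructure.E6Min.Tables.TR = g0); rfl') | exact @Cfsg.Agent.ChevalleyStructure.E6Min.Tables.ent | exact ()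
private theorem _root_.Cfsg.Agent.KO250cabe.e3 : (by first | exact @Cfsg.Agent.ChevalleyStructure.E6Min.Tables.ent = @_root_.Cfsg.Agent.KO250cabe.k3 | exact True : Prop) := by first | (delta _root_.Cfsg.Agent.KO250cabe.k3; exact @Subtype.property _ (fun g => @Cfsg.Agent.ChevalleyStructure.E6Min.Tables.ent = @g) _) | rfl | trivial
private noncomputable def _root_.Cfsg.Agent.KO250cabe.k4 : (by first | exact type_of% @Cfsg.Agent.ChevalleyStructure.E6Min.Tables.srN | exact Unit : Sort _) := by first | (refine @Subtype.val _ (fun g => @Cfsg.Agent.ChevalleyStructure.E6Min.Tables.srN = @g) (@Subtype.mk _ _ (@(fun x0 x1 => @Nat.land (@Cfsg.Agent.KO250cabe.k3 @x0 @x1) (nat_lit 31))) ?_); rewrite [← Cfsg.Agent.KO250cabe.e3]; (try delta Cfsg.Agent.ChevalleyStructure.E6Min.Tables.srN); (try generalize @Cfsg.Agent.ChevalleyStructure.E6Min.Tables.ent = g0); rfl') | exact @Cfsg.Agent.ChevalleyStructure.E6Min.Tables.srN | exact ()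
private theorem _root_.Cfsg.Agent.KO250cabe.e4 : (by first | exact @Cfsg.Agent.ChevalleyStructure.E6Min.Tables.srN = @_root_.Cfsg.Agent.KO250cabe.k4 | exact True : Prop) := by first | (delta _root_.Cfsg.Agent.KO250cabe.k4; exact @Subtype.property _ (fun g => @Cfsg.Agent.ChevalleyStructure.E6Min.Tables.srN = @g) _) | rfl | trivial
private noncomputable def _root_.Cfsg.Agent.KO250cabe.k5 : type_of% @Bool.not := @(fun x0 => @Bool.rec.{1} @(fun x1 => @Bool) @Bool.true @Bool.false @x0)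
private theorem _root_.Cfsg.Agent.KO250cabe.e5 : @Bool.not = @_root_.Cfsg.Agent.KO250cabe.k5 := by delta _root_.Cfsg.Agent.KO250cabe.k5; rfl'

theorem trChk_all : (allLt 72 fun r => allLt 27 fun j => (ent r j).blt 32 || allLt 72 fun s =>
    (ent s (srN r j)).blt 32 || (!(Nat.beq (srN s (srN r j)) j) || Nat.beq (s + r) 71)) = true := by
  (first | (rewrite [Cfsg.Agent.KO250cabe.e0, Cfsg.Agent.KO250cabe.e1, Cfsg.Agent.KO250cabe.e2, Cfsg.Agent.KO250cabe.e3, Cfsg.Agent.KO250cabe.e4, Cfsg.Agent.KO250cabe.e5]; decide +kernel) | decide +kernel)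

theorem tr_codes {r s : ℕ} (hr : r < 72) (hs : s < 72) (hrs : s + r ≠ 71) (x : I27) :
    sg r x * sg s (sr r x) = 0 ∨ sr s (sr r x) ≠ x := by
  have h : ((s + r = 71 ∨ ent r (code x) < 32) ∨ ent s (srN r (code x)) < 32) ∨ srN s (srN r (code x)) ≠ code x := by
    rcases Bool.or_eq_true_iff.1 (allLt_spec (allLt_spec trChk_all r hr) _ (code_lt x)) with h | h
    · exact Or.inl (Or.inl (Or.inr (Nat.blt_eq.mp h)))
    · rcases Bool.or_eq_true_iff.1 (allLt_spec h s hs) with h | h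
      · exact Or.inl (Or.inr (Nat.blt_eq.mp h))
      · rcases Bool.or_eq_true_iff.1 h with h | h
        · exact Or.inr (Nat.ne_of_beq_eq_false ((Bool.not_eq_true' _).mp h))
        · exact Or.inl (Or.inl (Or.inl (Nat.eq_of_beq_eq_true h)))
  rw [sg_sr hr, sr_sr hr]
  rcases h with ((h | h) | h) | h
  · exact absurd h hrs
  · left
    have : sg r x = 0 := if_pos h
    rw [this, zero_mul]
  · left
    have : sgN s (srN r (code x)) = 0 := if_pos h
    rw [this, mul_zero]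
  · right
    intro h1
    have e := code_dec (srN_lt hs (srN_lt hr (code_lt x)))
    rw [h1] at e
    exact h e.symm

theorem num_ne : ∀ r < 72, (∑ x : I27, if sg r x = 0 then (0 : ℤ) else 1) = 6 := by
  decide +kernel

section
variable {F : Type*} [CommRing F]

theorem mul_diag (r s : ℕ) (x : I27) : (Nm F r * Nm F s) x x =
    if x = sr s (sr r x) then ((sg r x * sg s (sr r x) : ℤ) : F) else 0 := by
  rw [Nm_mul_apply, Nm_apply]
  split_ifs
  · rw [Int.cast_mul]
  · rw [mul_zero]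

theorem tr_NN {r s : ℕ} (hr : r < 72) (hs : s < 72) (hrs : s + r ≠ 71) : (Nm F r * Nm F s).trace = 0 := by
  refine Finset.sum_eq_zero fun x _ => ?_
  rw [Matrix.diag_apply, mul_diag]
  split_ifs with h
  · rcases tr_codes hr hs hrs x with h1 | h1
    · rw [h1, Int.cast_zero]
    · exact absurd h.symm h1
  · rfl

theorem tr_NN' {r : ℕ} (hr : r < 72) : (Nm F r * Nm F (71 - r)).trace = 6 := by
  have h1 : (Nm F r * Nm F (71 - r)).trace = ((∑ x : I27, if sg r x = 0 then (0 : ℤ) else 1 : ℤ) : F) := by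
    rw [Matrix.trace, Int.cast_sum]
    refine Finset.sum_congr rfl fun x _ => ?_
    rw [Matrix.diag_apply, mul_diag]
    by_cases h : sg r x = 0
    · rw [h, zero_mul, Int.cast_zero, ite_self, if_pos rfl, Int.cast_zero]
    · obtain ⟨h1, h2, -⟩ := row_opp hr h
      rw [h1, h2, if_pos rfl, if_neg h]
  rw [h1, num_ne r hr]
  norm_num

theorem tr_HN {i s : ℕ} (hs : s < 72) : (Hm F i * Nm F s).trace = 0 := by
  refine Finset.sum_eq_zero fun x _ => ?_
  rw [Matrix.diag_apply]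
  unfold Hm
  rw [Matrix.diagonal_mul, Nm_apply]
  rcases row_diag hs x with h | h
  · rw [h]; simp
  · rw [if_neg h, mul_zero]

/-- the Cartan matrix -/
def Ca : Fin 6 → Fin 6 → ℤ :=
  ![![2, 0, -1, 0, 0, 0], ![0, 2, 0, -1, 0, 0], ![-1, 0, 2, -1, 0, 0], ![0, -1, -1, 2, -1, 0],
      ![0, 0, 0, -1, 2, -1], ![0, 0, 0, 0, -1, 2]]

def Ka : Fin 6 → Fin 6 → ℤ :=
  ![![4, 3, 5, 6, 4, 2], ![3, 6, 6, 9, 6, 3], ![5, 6, 10, 12, 8, 4], ![6, 9, 12, 18, 12, 6],
    ![4, 6, 8, 12, 10, 5], ![2, 3, 4, 6, 5, 4]]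

theorem wt_sum : ∀ i j : Fin 6, (∑ x : I27, wt x i.val * wt x j.val) = 6 * Ca i j := by
  decide +kernel

theorem CaKa : ∀ i k : Fin 6, (∑ j, Ca i j * Ka j k) = if i = k then 3 else 0 := by
  decide +kernel

theorem tr_HH (i j : Fin 6) : (Hm F i.val * Hm F j.val).trace = ((6 * Ca i j : ℤ) : F) := by
  unfold Hm
  rw [Matrix.diagonal_mul_diagonal, Matrix.trace_diagonal, ← wt_sum, Int.cast_sum]
  refine Finset.sum_congr rfl fun x _ => ?_
  rw [Int.cast_mul]

end

section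
variable {F : Type*} [Field F]

theorem tr_comb_N (c : chevE6.Idx → F) (s : Fin chevE6.nroots) :
    (comb c * Nm F s.val).trace = 6 * c (Sum.inr (ng s)) := by
  have hs : s.val < 72 := s.isLt
  rw [comb_split, add_mul, Matrix.trace_add, Matrix.sum_mul, Matrix.sum_mul, Matrix.trace_sum, Matrix.trace_sum]
  rw [Finset.sum_eq_zero fun i _ => by rw [Matrix.smul_mul, Matrix.trace_smul, tr_HN hs, smul_zero], zero_add]
  rw [Finset.sum_eq_single (ng s)]
  · rw [Matrix.smul_mul, Matrix.trace_smul]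
    have := tr_NN' (F := F) (r := 71 - s.val) (by omega)
    rw [show 71 - (71 - s.val) = s.val by omega] at this
    have e : (ng s).val = 71 - s.val := rfl
    rw [e, this, smul_eq_mul, mul_comm]
  · intro r _ hr
    rw [Matrix.smul_mul, Matrix.trace_smul, tr_NN (lt72 r) hs, smul_zero]
    intro h
    apply hr
    apply Fin.ext
    show r.val = 71 - s.val
    omega
  · intro h
    exact absurd (Finset.mem_univ _) h

/-- **the trace form is nondegenerate** -/
theorem eq_zero_of_trace (h2 : (2 : F) ≠ 0) (h3 : (3 : F) ≠ 0) {c : chevE6.Idx → F}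
    (h : ∀ d : chevE6.Idx → F, (comb c * comb d).trace = 0) : c = 0 := by
  have h6 : (6 : F) ≠ 0 := by
    have := mul_ne_zero h2 h3
    norm_num at this
    exact this
  have hB : ∀ row, (comb c * B F row).trace = 0 := by
    intro row
    have h1 := h (Pi.single row 1)
    have h4 : comb (Pi.single row 1 : chevE6.Idx → F) = B F row := by
      rw [comb_def, Finset.sum_eq_single row]
      · rw [Pi.single_eq_same, one_smul]
      · intro r _ hr
        rw [Pi.single_eq_of_ne hr, zero_smul]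
      · intro h
        exact absurd (Finset.mem_univ _) h
    rwa [h4] at h1
  have hr : ∀ r : Fin chevE6.nroots, c (Sum.inr r) = 0 := by
    intro r
    have h1 : (comb c * Nm F (ng r).val).trace = 0 := hB (Sum.inr (ng r))
    rw [tr_comb_N, ng_ng] at h1
    exact (mul_eq_zero.1 h1).resolve_left h6
  have hi : ∀ j : Fin 6, ∑ i : Fin 6, c (Sum.inl (i : Fin chevE6.rank)) * ((Ca i j : ℤ) : F) = 0 := by
    intro j
    have h1 : (comb c * Hm F j.val).trace = 0 := hB (Sum.inl (j : Fin chevE6.rank))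
    rw [comb_split, add_mul, Matrix.trace_add, Matrix.sum_mul, Matrix.sum_mul, Matrix.trace_sum, Matrix.trace_sum] at h1
    rw [Finset.sum_eq_zero (s := (Finset.univ : Finset (Fin chevE6.nroots))) fun r _ => by
      rw [hr r, zero_smul, zero_mul, Matrix.trace_zero], add_zero] at h1
    have h4 : ∀ i : Fin chevE6.rank, (c (Sum.inl i) • Hm F i.val * Hm F j.val).trace =
        6 * (c (Sum.inl i) * ((Ca i j : ℤ) : F)) := by
      intro i
      rw [Matrix.smul_mul, Matrix.trace_smul, smul_eq_mul]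
      have := tr_HH (F := F) i j
      rw [this, Int.cast_mul]
      push_cast
      ring
    rw [Finset.sum_congr rfl fun i _ => h4 i, ← Finset.mul_sum] at h1
    exact (mul_eq_zero.1 h1).resolve_left h6
  have hl : ∀ k : Fin 6, c (Sum.inl (k : Fin chevE6.rank)) = 0 := by
    intro k
    have h1 : ∑ j : Fin 6, (∑ i : Fin 6, c (Sum.inl (i : Fin chevE6.rank)) * ((Ca i j : ℤ) : F)) * ((Ka j k : ℤ) : F) = 0 :=
      Finset.sum_eq_zero fun j _ => by rw [hi j, zero_mul]
    have h4 : ∑ j : Fin 6, (∑ i : Fin 6, c (Sum.inl (i : Fin chevE6.rank)) * ((Ca i j : ℤ) : F)) * ((Ka j k : ℤ) : F) =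
        ∑ i : Fin 6, c (Sum.inl (i : Fin chevE6.rank)) * ((∑ j, Ca i j * Ka j k : ℤ) : F) := by
      simp only [Finset.sum_mul, Int.cast_sum, Int.cast_mul, Finset.mul_sum]
      rw [Finset.sum_comm]
      refine Finset.sum_congr rfl fun i _ => Finset.sum_congr rfl fun j _ => ?_
      ring
    rw [h4, Finset.sum_eq_single k] at h1
    · rw [CaKa, if_pos rfl] at h1
      have h5 : ((3 : ℤ) : F) ≠ 0 := by
        rw [Int.cast_ofNat]
        exact h3
      exact (mul_eq_zero.1 h1).resolve_right h5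
    · intro i _ hik
      rw [CaKa, if_neg hik, Int.cast_zero, mul_zero]
    · intro h
      exact absurd (Finset.mem_univ _) h
  funext row
  rcases row with i | r
  · exact hl i
  · exact hr r

end

end Cfsg.Agent.H251.E6
end

private theorem dce_89fca24124c5 : _root_.True := by
  try have : _root_.True := by simp only [_root_.Polynomial.eval₂RingHom'.congr_simp]
  exact _root_.True.intro
end

-- part: H952/S7/B6
section
prune_inst 0x1400410034620200000080900300002020000402000000000020050600c10402004200001a100412008808044805002001000020020000000000040001190180088010041040010002008e000000000000000000000000000000000000010004000000000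
set_option linter.all false
open scoped Cfsg.Agent.FastGrp

-- part: H288/E6/S7B3
section
/-!
# S5927, S5928: 3.A₇, characteristic 2: the Gram matrix of two families (B2) and the totally singular case (B3) (helper288)
-/

set_option autoImplicit false

namespace Cfsg.Agent.H288.E6.S7B3

open Cfsg Cfsg.Lie Module
open Cfsg.Agent.ChevalleyStructure.E6Min.Tables
open Cfsg.Agent.H952.F4 (ev es sh cr tf)
open Cfsg.Agent.H952.F4.Jord
open Cfsg.Agent.H163.E6 (TS)
open Cfsg.Agent.H905.E6T Cfsg.Agent.H952.S7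

universe u

/-! ### tables -/

def Rt : List (List ℕ) :=
  [[0, 2, 3, 4, 5, 6, 9, 8, 8, 8, 8, 10, 9, 7, 8, 9, 7, 7, 8, 5, 6],
   [10, 2, 7, 7, 7, 7, 1, 10, 6, 4, 8, 5, 8, 6, 8, 8, 6, 6, 7, 7, 8],
   [9, 3, 3, 7, 8, 8, 9, 2, 9, 7, 5, 7, 6, 7, 7, 8, 9, 7, 7, 7, 8],
   [9, 4, 4, 4, 8, 9, 1, 8, 3, 7, 8, 7, 6, 7, 8, 7, 7, 8, 8, 7, 8],
   [9, 5, 5, 5, 5, 9, 4, 2, 6, 4, 8, 5, 6, 7, 8, 9, 5, 7, 9, 7, 8],
   [9, 6, 6, 6, 6, 6, 9, 5, 3, 7, 5, 8, 6, 7, 8, 7, 6, 6, 8, 9, 8],
   [0, 9, 11, 7, 5, 8, 1, 4, 5, 6, 7, 7, 7, 5, 9, 7, 7, 5, 8, 7, 7],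
   [1, 9, 8, 10, 8, 6, 8, 2, 5, 6, 7, 3, 7, 8, 6, 6, 8, 8, 6, 8, 8],
   [2, 2, 8, 8, 8, 8, 8, 5, 3, 6, 7, 7, 4, 8, 9, 7, 4, 9, 9, 7, 9],
   [3, 5, 3, 6, 8, 9, 8, 6, 6, 4, 7, 3, 7, 5, 9, 9, 7, 5, 10, 5, 8],
   [4, 10, 6, 4, 7, 8, 8, 7, 7, 7, 5, 6, 4, 8, 6, 6, 4, 7, 6, 8, 6],
   [10, 8, 4, 8, 6, 7, 2, 6, 8, 6, 7, 3, 8, 6, 7, 8, 6, 9, 7, 7, 9],
   [9, 8, 5, 5, 9, 7, 8, 3, 6, 9, 7, 4, 4, 9, 7, 8, 7, 7, 10, 8, 8],
   [9, 8, 9, 6, 6, 9, 8, 9, 4, 7, 10, 9, 5, 5, 10, 8, 5, 8, 8, 8, 9],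
   [10, 10, 9, 10, 7, 7, 11, 9, 10, 5, 8, 9, 10, 6, 6, 9, 10, 6, 9, 6, 9],
   [11, 8, 7, 5, 9, 7, 5, 7, 5, 8, 6, 8, 5, 9, 7, 6, 8, 8, 7, 8, 7],
   [0, 8, 7, 5, 6, 7, 3, 6, 6, 6, 6, 6, 5, 9, 7, 8, 4, 7, 9, 7, 7],
   [1, 3, 6, 8, 6, 7, 2, 4, 7, 7, 7, 5, 7, 6, 10, 8, 8, 5, 8, 8, 8],
   [2, 4, 4, 7, 9, 7, 3, 3, 5, 8, 8, 4, 6, 8, 7, 9, 6, 9, 6, 9, 9],
   [3, 8, 4, 5, 6, 10, 4, 4, 4, 6, 9, 7, 5, 6, 9, 8, 7, 6, 10, 5, 9],
   [4, 6, 7, 5, 6, 7, 5, 5, 5, 5, 7, 6, 8, 6, 7, 8, 6, 8, 7, 6, 6]]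

def Et : List (List ℕ) :=
  [[0, 0, 0, 0, 0, 0, 2, 2, 0, 0, 2, 2, 2, 2, 2, 2, 0, 0, 0, 0, 0],
   [2, 0, 1, 0, 0, 1, 0, 2, 0, 0, 2, 1, 2, 1, 2, 1, 0, 1, 1, 0, 2],
   [2, 1, 0, 2, 0, 0, 2, 0, 2, 0, 0, 1, 1, 2, 1, 2, 2, 0, 1, 1, 0],
   [0, 0, 1, 0, 1, 0, 0, 2, 0, 2, 0, 2, 2, 1, 2, 1, 0, 2, 0, 1, 1],
   [0, 0, 0, 1, 0, 1, 0, 0, 2, 0, 2, 1, 2, 1, 1, 2, 1, 1, 2, 0, 1],
   [2, 1, 0, 0, 1, 0, 2, 0, 0, 2, 0, 2, 1, 2, 1, 1, 1, 1, 2, 2, 0],
   [0, 2, 1, 0, 0, 1, 0, 1, 0, 0, 1, 2, 2, 0, 2, 2, 0, 2, 2, 0, 1],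
   [0, 1, 2, 1, 0, 0, 1, 0, 1, 0, 0, 2, 0, 2, 0, 2, 1, 0, 2, 2, 0],
   [0, 0, 1, 0, 1, 0, 0, 2, 0, 1, 0, 2, 2, 2, 2, 0, 0, 1, 0, 2, 2],
   [0, 0, 0, 1, 0, 1, 0, 1, 1, 0, 1, 0, 2, 2, 1, 2, 2, 0, 1, 0, 2],
   [0, 1, 0, 0, 1, 2, 1, 0, 2, 0, 0, 2, 0, 2, 2, 2, 2, 2, 0, 1, 0],
   [1, 1, 1, 1, 2, 1, 0, 0, 1, 0, 1, 0, 0, 0, 0, 0, 1, 2, 1, 0, 0],
   [1, 1, 2, 1, 1, 2, 1, 0, 1, 1, 0, 0, 0, 0, 0, 0, 1, 1, 2, 1, 0],
   [1, 2, 1, 1, 1, 1, 0, 1, 0, 0, 1, 0, 0, 0, 0, 0, 2, 1, 1, 2, 1],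
   [1, 1, 2, 1, 0, 1, 1, 0, 1, 0, 2, 0, 0, 0, 0, 2, 1, 2, 1, 0, 2],
   [1, 1, 1, 2, 1, 1, 0, 1, 0, 1, 0, 0, 0, 0, 0, 0, 2, 1, 2, 0, 0],
   [0, 0, 1, 0, 2, 2, 0, 2, 0, 1, 1, 2, 2, 1, 2, 0, 0, 0, 1, 1, 0],
   [0, 2, 1, 1, 0, 2, 1, 0, 2, 0, 1, 1, 2, 2, 1, 2, 0, 0, 0, 1, 1],
   [0, 2, 2, 2, 1, 0, 1, 1, 0, 2, 0, 2, 1, 2, 2, 1, 1, 0, 0, 0, 1],
   [0, 0, 2, 2, 0, 1, 0, 1, 1, 0, 2, 1, 2, 0, 2, 2, 1, 2, 0, 0, 0],
   [0, 1, 0, 2, 2, 0, 2, 0, 1, 1, 0, 2, 1, 2, 0, 2, 0, 1, 2, 0, 0]]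

def Bt : List (List ℕ) :=
  [[0, 2, 2, 2, 2, 2, 2, 2, 2, 2, 2, 1, 1, 1, 1, 1, 1, 1, 1, 1, 1],
   [2, 0, 2, 2, 2, 2, 2, 1, 1, 1, 1, 2, 1, 1, 1, 2, 2, 1, 1, 2, 1],
   [2, 2, 0, 2, 2, 2, 1, 2, 1, 1, 1, 2, 2, 1, 1, 1, 1, 2, 1, 1, 2],
   [2, 2, 2, 0, 2, 2, 1, 1, 2, 1, 1, 1, 2, 2, 1, 1, 2, 1, 2, 1, 1],
   [2, 2, 2, 2, 0, 2, 1, 1, 1, 2, 1, 1, 1, 2, 2, 1, 1, 2, 1, 2, 1],
   [2, 2, 2, 2, 2, 0, 1, 1, 1, 1, 2, 1, 1, 1, 2, 2, 1, 1, 2, 1, 2],
   [2, 2, 1, 1, 1, 1, 0, 2, 2, 2, 2, 2, 1, 1, 1, 2, 2, 1, 1, 2, 1],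
   [2, 1, 2, 1, 1, 1, 2, 0, 2, 2, 2, 2, 2, 1, 1, 1, 1, 2, 1, 1, 2],
   [2, 1, 1, 2, 1, 1, 2, 2, 0, 2, 2, 1, 2, 2, 1, 1, 2, 1, 2, 1, 1],
   [2, 1, 1, 1, 2, 1, 2, 2, 2, 0, 2, 1, 1, 2, 2, 1, 1, 2, 1, 2, 1],
   [2, 1, 1, 1, 1, 2, 2, 2, 2, 2, 0, 1, 1, 1, 2, 2, 1, 1, 2, 1, 2],
   [1, 2, 2, 1, 1, 1, 2, 2, 1, 1, 1, 0, 2, 1, 1, 2, 2, 2, 1, 2, 2],
   [1, 1, 2, 2, 1, 1, 1, 2, 2, 1, 1, 2, 0, 2, 1, 1, 2, 2, 2, 1, 2],
   [1, 1, 1, 2, 2, 1, 1, 1, 2, 2, 1, 1, 2, 0, 2, 1, 2, 2, 2, 2, 1],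
   [1, 1, 1, 1, 2, 2, 1, 1, 1, 2, 2, 1, 1, 2, 0, 2, 1, 2, 2, 2, 2],
   [1, 2, 1, 1, 1, 2, 2, 1, 1, 1, 2, 2, 1, 1, 2, 0, 2, 1, 2, 2, 2],
   [1, 2, 1, 2, 1, 1, 2, 1, 2, 1, 1, 2, 2, 2, 1, 2, 0, 1, 2, 2, 1],
   [1, 1, 2, 1, 2, 1, 1, 2, 1, 2, 1, 2, 2, 2, 2, 1, 1, 0, 1, 2, 2],
   [1, 1, 1, 2, 1, 2, 1, 1, 2, 1, 2, 1, 2, 2, 2, 2, 2, 1, 0, 1, 2],
   [1, 2, 1, 1, 2, 1, 2, 1, 1, 2, 1, 2, 1, 2, 2, 2, 2, 2, 1, 0, 1],
   [1, 1, 2, 1, 1, 2, 1, 2, 1, 1, 2, 2, 2, 1, 2, 2, 1, 2, 2, 1, 0]]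

def Gt : List (List ℕ) :=
  [[0, 2, 1, 1, 1, 1, 1, 2, 2, 2, 2, 1, 2, 2, 1, 2, 2, 2, 2, 2, 1],
   [2, 2, 1, 1, 1, 1, 2, 1, 1, 1, 1, 2, 2, 2, 1, 2, 2, 2, 1, 2, 2],
   [2, 2, 1, 2, 1, 1, 1, 1, 2, 1, 1, 2, 1, 2, 1, 2, 2, 1, 1, 2, 1],
   [2, 2, 1, 1, 2, 1, 2, 2, 1, 2, 1, 2, 2, 1, 2, 2, 2, 2, 1, 2, 2],
   [2, 2, 1, 1, 1, 2, 2, 1, 2, 1, 1, 2, 2, 2, 1, 1, 2, 2, 1, 2, 1],
   [2, 2, 1, 1, 1, 1, 1, 1, 1, 1, 1, 2, 1, 1, 2, 2, 2, 1, 2, 2, 1],
   [0, 1, 1, 1, 1, 1, 2, 2, 2, 2, 2, 1, 1, 1, 1, 1, 1, 1, 1, 1, 2],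
   [1, 1, 2, 2, 1, 1, 1, 1, 1, 1, 1, 2, 2, 1, 1, 2, 1, 1, 1, 2, 1],
   [1, 2, 2, 2, 2, 2, 1, 2, 1, 1, 1, 1, 1, 2, 1, 1, 2, 2, 1, 1, 1],
   [1, 2, 1, 2, 2, 1, 1, 2, 2, 1, 1, 2, 2, 1, 2, 2, 2, 1, 2, 2, 1],
   [1, 1, 1, 1, 1, 2, 1, 2, 2, 2, 1, 2, 1, 2, 1, 2, 2, 2, 1, 2, 1],
   [2, 1, 2, 1, 1, 2, 2, 1, 1, 1, 2, 2, 2, 1, 2, 1, 2, 1, 2, 2, 1],
   [2, 1, 2, 1, 1, 1, 1, 1, 2, 1, 1, 2, 1, 1, 1, 1, 2, 1, 1, 1, 1],
   [2, 1, 1, 2, 1, 2, 1, 1, 1, 2, 1, 1, 1, 1, 1, 1, 2, 1, 1, 2, 1],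
   [1, 1, 1, 1, 2, 1, 1, 1, 1, 1, 2, 1, 1, 1, 1, 2, 1, 1, 1, 2, 1],
   [2, 1, 2, 2, 2, 2, 2, 2, 2, 2, 1, 2, 2, 2, 1, 2, 2, 2, 1, 2, 1],
   [0, 1, 1, 2, 1, 1, 2, 1, 1, 1, 1, 2, 2, 1, 1, 1, 2, 1, 1, 2, 1],
   [1, 2, 2, 1, 1, 1, 2, 1, 1, 1, 1, 2, 1, 1, 1, 2, 2, 1, 1, 2, 1],
   [1, 2, 1, 2, 1, 1, 2, 1, 1, 1, 1, 2, 1, 1, 1, 2, 2, 1, 1, 2, 1],
   [1, 1, 2, 1, 2, 1, 2, 1, 1, 1, 1, 2, 1, 2, 1, 1, 2, 2, 1, 2, 2],
   [1, 2, 2, 1, 1, 1, 2, 1, 1, 1, 1, 2, 1, 1, 1, 2, 2, 1, 1, 2, 1]]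

def Btab : List (List ℕ) :=
  [[0, 0, 0, 3, 1, 3, 0, 0, 3, 2, 3, 0, 0, 0, 0, 0, 3, 3, 3, 3, 3],
   [0, 3, 0, 0, 3, 1, 3, 0, 0, 3, 2, 0, 0, 0, 0, 0, 3, 3, 3, 3, 3],
   [0, 1, 3, 0, 0, 3, 2, 3, 0, 0, 3, 0, 0, 0, 0, 0, 3, 3, 3, 3, 3],
   [0, 3, 1, 3, 0, 0, 3, 2, 3, 0, 0, 0, 0, 0, 0, 0, 3, 3, 3, 3, 3],
   [0, 0, 3, 1, 3, 0, 0, 3, 2, 3, 0, 0, 0, 0, 0, 0, 3, 3, 3, 3, 3],
   [0, 0, 3, 0, 0, 0, 0, 1, 0, 0, 0, 0, 0, 0, 0, 0, 0, 2, 0, 0, 2],
   [0, 3, 2, 2, 3, 2, 1, 2, 2, 1, 2, 0, 0, 0, 0, 0, 0, 0, 2, 0, 2],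
   [0, 2, 3, 2, 3, 2, 2, 1, 2, 1, 2, 0, 0, 0, 0, 0, 2, 0, 2, 0, 0],
   [0, 3, 0, 0, 0, 0, 1, 0, 0, 0, 0, 0, 0, 0, 0, 0, 2, 0, 0, 2, 0],
   [0, 0, 0, 3, 0, 0, 0, 0, 1, 0, 0, 0, 0, 0, 0, 0, 2, 0, 2, 0, 0],
   [0, 2, 3, 2, 2, 3, 2, 1, 2, 2, 1, 0, 0, 0, 0, 0, 2, 0, 0, 2, 0],
   [0, 2, 2, 3, 2, 3, 2, 2, 1, 2, 1, 0, 0, 0, 0, 0, 0, 2, 0, 2, 0],
   [0, 0, 0, 0, 3, 0, 0, 0, 0, 1, 0, 0, 0, 0, 0, 0, 0, 2, 0, 2, 0],
   [0, 3, 2, 3, 2, 2, 1, 2, 1, 2, 2, 0, 0, 0, 0, 0, 0, 2, 0, 0, 2],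
   [0, 0, 0, 0, 0, 3, 0, 0, 0, 0, 1, 0, 0, 0, 0, 0, 0, 0, 2, 0, 2]]

/-- entry -/
def en (t : List (List ℕ)) (i j : ℕ) : ℕ := (t.getD i []).getD j 0

/-- inverse of `sp` -/
def spi : Fin 21 → Fin 21 :=
  ![0, 5, 1, 2, 3, 4, 10, 6, 7, 8, 9, 15, 11, 12, 13, 14, 20, 16, 17, 18, 19]

/-- inverse of `tp` -/
def tpi : Fin 21 → Fin 21 :=
  ![1, 6, 11, 16, 19, 15, 0, 2, 3, 4, 5, 7, 12, 13, 14, 10, 8, 17, 18, 9, 20]

/-- base pairs -/
def bp : ℕ → Fin 21 × Fin 21
  | 0 => (0, 0)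
  | 1 => (16, 0)
  | _ => (6, 0)

private noncomputable def _root_.Cfsg.Agent.LsF.fce2ea8_0 : {f // @Cfsg.Agent.H288.E6.S7B3.en = f} := ⟨_, by first | (delta Cfsg.Agent.H288.E6.S7B3.en; rewrite [Cfsg.Agent.LsF.getD_eq]; exact rfl) | exact rfl⟩
private noncomputable def _root_.Cfsg.Agent.LsF.fce2ea8_1 : {f // @Cfsg.Agent.H288.E6.S7B3.bp = f} := ⟨_, by first | (delta Cfsg.Agent.H288.E6.S7B3.bp; (try delta Cfsg.Agent.H288.E6.S7B3.bp.match_1); (try rewrite [Cfsg.Agent.LsF.instDecEq_eq, Cfsg.Agent.LsF.dite_eq]); exact rfl) | exact rfl⟩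
private noncomputable def _root_.Cfsg.Agent.LsF.fce2ea8_2 : {f // @Cfsg.Agent.H952.S7.sp = f} := ⟨_, by first | (delta Cfsg.Agent.H952.S7.sp; rewrite [Cfsg.Agent.LsF.vecCons_eq]; exact rfl) | exact rfl⟩
private noncomputable def _root_.Cfsg.Agent.LsF.fce2ea8_3 : {f // @Cfsg.Agent.H288.E6.S7B3.spi = f} := ⟨_, by first | (delta Cfsg.Agent.H288.E6.S7B3.spi; rewrite [Cfsg.Agent.LsF.vecCons_eq]; exact rfl) | exact rfl⟩
private noncomputable def _root_.Cfsg.Agent.LsF.fce2ea8_4 : {f // @Cfsg.Agent.H952.S7.tp = f} := ⟨_, by first | (delta Cfsg.Agent.H952.S7.tp; rewrite [Cfsg.Agent.LsF.vecCons_eq]; exact rfl) | exact rfl⟩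
private noncomputable def _root_.Cfsg.Agent.LsF.fce2ea8_5 : {f // @Cfsg.Agent.H288.E6.S7B3.tpi = f} := ⟨_, by first | (delta Cfsg.Agent.H288.E6.S7B3.tpi; rewrite [Cfsg.Agent.LsF.vecCons_eq]; exact rfl) | exact rfl⟩
private noncomputable def _root_.Cfsg.Agent.LsF.fce2ea8_6 : {f // @Cfsg.Agent.H952.S7.nt = f} := ⟨_, by first | (delta Cfsg.Agent.H952.S7.nt; rewrite [Cfsg.Agent.LsF.vecCons_eq]; exact rfl) | exact rfl⟩
theorem chk : ∀ p q : Fin 21,
    (en Gt p q = 0 ∧ en Rt p q = 0 ∧ en Et p q = 0 ∧ (p, q) = bp (en Bt p q)) ∨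
    (sp (spi p) = p ∧ sp (spi q) = q ∧ en Rt (spi p) (spi q) < en Rt p q ∧ en Bt (spi p) (spi q) = en Bt p q ∧
      en Et p q = en Et (spi p) (spi q)) ∨
    (tp (tpi p) = p ∧ tp (tpi q) = q ∧ en Rt (tpi p) (tpi q) < en Rt p q ∧ en Bt (tpi p) (tpi q) = en Bt p q ∧
      en Et p q % 3 = (en Et (tpi p) (tpi q) + (nt (tpi p) + 2 * nt (tpi q))) % 3) := by
  (refine of_decide_eq_true ?_; (try (rewrite [Cfsg.Agent.LsF.fce2ea8_0.2, Cfsg.Agent.LsF.fce2ea8_1.2, Cfsg.Agent.LsF.fce2ea8_2.2, Cfsg.Agent.LsF.fce2ea8_3.2, Cfsg.Agent.LsF.fce2ea8_4.2, Cfsg.Agent.LsF.fce2ea8_5.2, Cfsg.Agent.LsF.fce2ea8_6.2, Cfsg.Agent.LsF.nadd_pat, Cfsg.Agent.LsF.nmul_pat, Cfsg.Agent.LsF.nmod_pat, Cfsg.Agent.LsF.dProdEq_eq, Cfsg.Agent.LsF.instDecEq_eq, Cfsg.Agent.LsF.decLt_eq, Cfsg.Agent.LsF.dAnd_eq, Cfsg.Agent.LsF.dOr_eq, Cfsg.Agent.LsF.dFinEq_eq, Cfsg.Agent.LsF.dForallFin_eq, Cfsg.Agent.LsF.decide_eq])); decide +kernel)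

private noncomputable def _root_.Cfsg.Agent.LsF.fce2ea8_7 : {f // @Cfsg.Agent.H952.S7.ent = f} := ⟨_, by first | (delta Cfsg.Agent.H952.S7.ent; rewrite [Cfsg.Agent.LsF.getD_eq]; exact rfl) | exact rfl⟩
private noncomputable def _root_.Cfsg.Agent.LsF.fce2ea8_8 : {f // @Cfsg.Agent.H952.S7.Hm = f} := ⟨_, by first | (delta Cfsg.Agent.H952.S7.Hm; rewrite [Cfsg.Agent.LsF.fce2ea8_7.2]; exact rfl) | exact rfl⟩
private noncomputable def _root_.Cfsg.Agent.LsF.fce2ea8_9 : {f // @Cfsg.Agent.H952.S7.KF.instDecidableEq._aux_1 = f} := ⟨_, by first | (delta Cfsg.Agent.H952.S7.KF.instDecidableEq._aux_1; rewrite [Cfsg.Agent.LsF.dFinEq_eq]; exact rfl) | exact rfl⟩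
private noncomputable def _root_.Cfsg.Agent.LsF.fce2ea8_10 : {f // @Cfsg.Agent.H952.S7.KF.instDecidableEq = f} := ⟨_, by first | (delta Cfsg.Agent.H952.S7.KF.instDecidableEq; rewrite [Cfsg.Agent.LsF.fce2ea8_9.2]; exact rfl) | exact rfl⟩
theorem chk2 : ∀ p q : Fin 21,
    (en Bt p q = 0 ∧ p = q ∧ Hm q p = 0 ∧ en Et p q = 0) ∨
    (en Bt p q = 1 ∧ p ≠ q ∧ ((en Et p q = 0 ∧ Hm q p = 1) ∨ (en Et p q = 1 ∧ Hm q p = KF.mk 2) ∨
      (en Et p q = 2 ∧ Hm q p = KF.mk 3))) ∨
    (en Bt p q = 2 ∧ p ≠ q ∧ Hm q p = 0) := by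
  (refine of_decide_eq_true ?_; (try (rewrite [Cfsg.Agent.LsF.fce2ea8_0.2, Cfsg.Agent.LsF.fce2ea8_8.2, Cfsg.Agent.LsF.fce2ea8_10.2, Cfsg.Agent.LsF.instDecEq_eq, Cfsg.Agent.LsF.dAnd_eq, Cfsg.Agent.LsF.dOr_eq, Cfsg.Agent.LsF.dNot_eq, Cfsg.Agent.LsF.dFinEq_eq, Cfsg.Agent.LsF.dForallFin_eq, Cfsg.Agent.LsF.decide_eq])); decide +kernel)

section
variable {F : Type u} [Field F] {ω : F}

theorem w3 (h2 : (2 : F) = 0) (hω : ω * ω = ω + 1) : ω ^ 3 = 1 := by
  linear_combination (ω + 1) * hω + ω * h2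

theorem pow_mod3 (h3 : ω ^ 3 = 1) (n : ℕ) : ω ^ n = ω ^ (n % 3) := by
  conv_lhs => rw [← Nat.div_add_mod n 3, pow_add, pow_mul, h3, one_pow, one_mul]

theorem pow_inj3 (h3 : ω ^ 3 = 1) (hw : ω ≠ 0) (hw1 : ω ≠ 1) :
    ∀ i j : ℕ, i < 3 → j < 3 → ω ^ i = ω ^ j → i = j := by
  have e3 : ω ^ 2 ≠ 1 := by
    intro h
    apply hw1
    have : ω ^ 3 = ω ^ 2 * ω := by ring
    rw [h3, h, one_mul] at this
    exact this.symm
  have e4 : ω ^ 2 ≠ ω := by
    intro h
    apply hw1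
    have : ω * ω = ω * 1 := by rw [← sq, h, mul_one]
    exact mul_left_cancel₀ hw this
  intro i j hi hj hij
  interval_cases i <;> interval_cases j
  · rfl
  · exact absurd (by rw [pow_zero, pow_one] at hij; exact hij.symm) hw1
  · exact absurd (by rw [pow_zero] at hij; exact hij.symm) e3
  · exact absurd (by rw [pow_zero, pow_one] at hij; exact hij) hw1
  · rfl
  · exact absurd (by rw [pow_one] at hij; exact hij.symm) e4
  · exact absurd (by rw [pow_zero] at hij; exact hij) e3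
  · exact absurd (by rw [pow_one] at hij; exact hij) e4
  · rfl

theorem gram_fun (h2 : (2 : F) = 0) (hω : ω * ω = ω + 1) (g : Fin 21 → Fin 21 → F)
    (hS : ∀ p q, g (sp p) (sp q) = g p q) (hT : ∀ p q, g (tp p) (tp q) = ω ^ (nt p + 2 * nt q) * g p q) :
    ∃ α β : F, ∀ p q, g p q = α * (if p = q then 1 else 0) + β * KF.io ω (Hm q p) := by
  have h3 := w3 h2 hω
  have key : ∀ n : ℕ, ∀ p q : Fin 21, en Rt p q = n →
      g p q = ω ^ en Et p q * g (bp (en Bt p q)).1 (bp (en Bt p q)).2 := by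
    intro n
    induction n using Nat.strong_induction_on with
    | _ n ih =>
      intro p q hn
      rcases chk p q with ⟨_, _, h4, h5⟩ | ⟨h4, h5, h6, h7, h8⟩ | ⟨h4, h5, h6, h7, h8⟩
      · rw [← h5, h4, pow_zero, one_mul]
      · have h9 := ih _ (hn ▸ h6) (spi p) (spi q) rfl
        rw [h7] at h9
        rw [h8, ← h9, ← hS (spi p) (spi q), h4, h5]
      · have h9 := ih _ (hn ▸ h6) (tpi p) (tpi q) rfl
        rw [h7] at h9
        have h10 := hT (tpi p) (tpi q)
        rw [h4, h5, h9, ← mul_assoc, ← pow_add] at h10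
        rw [h10, pow_mod3 h3 (en Et p q), h8, ← pow_mod3 h3, add_comm]
  have hw : ω ≠ 0 := by
    rintro rfl
    rw [mul_zero, zero_add] at hω
    exact zero_ne_one hω
  have hw1 : ω ≠ 1 := by
    rintro rfl
    have : (1 : F) = 0 := by linear_combination -hω + 0 * h2
    exact one_ne_zero this
  have h0 : g 6 0 = 0 := by
    have a1 := key _ 13 12 rfl
    have a2 := key _ (tp 13) (tp 12) rfl
    rw [hT 13 12] at a2
    rw [show en Bt (13 : Fin 21) (12 : Fin 21) = 2 by decide +kernel] at a1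
    rw [show en Bt (tp 13 : Fin 21) (tp 12 : Fin 21) = 2 by decide +kernel] at a2
    rw [a1] at a2
    have e1 : (bp 2).1 = 6 := rfl
    have e2 : (bp 2).2 = 0 := rfl
    rw [e1, e2] at a2
    by_contra h5
    have a3 : ω ^ (nt 13 + 2 * nt 12) * ω ^ en Et (13 : Fin 21) (12 : Fin 21) = ω ^ en Et (tp 13 : Fin 21) (tp 12 : Fin 21) :=
      mul_right_cancel₀ h5 (by rw [mul_assoc]; exact a2)
    rw [← pow_add, pow_mod3 h3, pow_mod3 h3 (en Et _ _)] at a3
    have a4 : (nt 13 + 2 * nt 12 + en Et (13 : Fin 21) (12 : Fin 21)) % 3 ≠ en Et (tp 13 : Fin 21) (tp 12 : Fin 21) % 3 := by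
      decide +kernel
    have hinj := pow_inj3 h3 hw hw1
    exact a4 (hinj _ _ (Nat.mod_lt _ (by norm_num)) (Nat.mod_lt _ (by norm_num)) a3)
  refine ⟨g 0 0, g 16 0, fun p q => ?_⟩
  have h4 := key _ p q rfl
  rcases chk2 p q with ⟨h5, h6, h7, h8⟩ | ⟨h5, h6, h7⟩ | ⟨h5, h6, h7⟩
  · rw [h5, h8] at h4
    rw [if_pos h6, h7, KF.io_zero, h4]
    show ω ^ 0 * g 0 0 = _
    ring
  · rw [h5] at h4
    rw [if_neg h6, h4]
    show ω ^ _ * g 16 0 = _
    rcases h7 with ⟨h7, h8⟩ | ⟨h7, h8⟩ | ⟨h7, h8⟩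
    · rw [h7, h8, KF.io_one]; ring
    · rw [h7, h8, KF.io_two]; ring
    · rw [h7, h8, KF.io_three]; linear_combination g 16 0 * hω
  · rw [h5] at h4
    rw [if_neg h6, h7, KF.io_zero, h4]
    show ω ^ _ * g 6 0 = _
    rw [h0]; ring

end

section
variable {F : Type u} [Field F] {G : Type*} [Group G] {ω : F} {σ σ' : Representation F G (I27 → F)} {S T a : G}

/-- B2: the Gram matrix -/
theorem gram (h2 : (2 : F) = 0) (hω : ω * ω = ω + 1) (hP : PD σ σ') {u s : Fin 21 → I27 → F}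
    (hu : Fam ω σ S T u) (hs : Fam (ω ^ 2) σ' S T s) :
    ∃ α β : F, ∀ p q, tf (s p) (u q) = α * (if p = q then 1 else 0) + β * KF.io ω (Hm q p) := by
  have h3 := w3 h2 hω
  refine gram_fun h2 hω (fun p q => tf (s p) (u q)) (fun p q => ?_) (fun p q => ?_)
  · show tf (s (sp p)) (u (sp q)) = tf (s p) (u q)
    rw [← hs.s, ← hu.s, tf_comm, hP.htf, tf_comm]
  · show tf (s (tp p)) (u (tp q)) = _ * tf (s p) (u q)
    have h4 : tf (s p) (u q) = (ω ^ 2) ^ nt p * (ω ^ nt q * tf (s (tp p)) (u (tp q))) := by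
      rw [tf_comm, ← hP.htf T, hu.t, hs.t, tf_smul_left, tf_smul_right, tf_comm]; ring
    rw [h4]
    have h5 : ω ^ (nt p + 2 * nt q) * ((ω ^ 2) ^ nt p * (ω ^ nt q * tf (s (tp p)) (u (tp q)))) =
        (ω ^ 3) ^ nt p * (ω ^ 3) ^ nt q * tf (s (tp p)) (u (tp q)) := by ring
    rw [h5, h3, one_pow, one_pow, one_mul, one_mul]

/-! ### B3 -/

/-- first index -/
def pj : Fin 15 → Fin 6 := ![0, 0, 0, 0, 0, 1, 1, 1, 1, 2, 2, 2, 3, 3, 4]
/-- second index -/
def pk : Fin 15 → Fin 6 := ![1, 2, 3, 4, 5, 2, 3, 4, 5, 3, 4, 5, 4, 5, 5]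

/-- products of coordinates -/
def Cm : Matrix (Fin 21) (Fin 15) KF := fun p m => Am p (pj m) * Am p (pk m)

/-- left inverse of `Cm` -/
def Bm : Matrix (Fin 15) (Fin 21) KF := fun m p => _root_.Cfsg.Agent.H952.S7.ent Btab m p

private noncomputable def _root_.Cfsg.Agent.LsF.fce2ea8_11 : {f // @Cfsg.Agent.H952.S7.KF.instMul = f} := ⟨_, by first | (delta Cfsg.Agent.H952.S7.KF.instMul; rewrite [Cfsg.Agent.LsF.nadd_pat, Cfsg.Agent.LsF.nmul_pat, Cfsg.Agent.LsF.nshr_pat]; exact rfl) | exact rfl⟩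
private noncomputable def _root_.Cfsg.Agent.LsF.fce2ea8_13 : {f // @Cfsg.Agent.H288.E6.S7B3.Bm = f} := ⟨_, by first | (delta Cfsg.Agent.H288.E6.S7B3.Bm; rewrite [Cfsg.Agent.LsF.fce2ea8_7.2]; exact rfl) | exact rfl⟩
private noncomputable def _root_.Cfsg.Agent.LsF.fce2ea8_14 : {f // @Cfsg.Agent.H952.S7.Am = f} := ⟨_, by first | (delta Cfsg.Agent.H952.S7.Am; rewrite [Cfsg.Agent.LsF.fce2ea8_7.2]; exact rfl) | exact rfl⟩
private noncomputable def _root_.Cfsg.Agent.LsF.fce2ea8_15 : {f // @Cfsg.Agent.H288.E6.S7B3.pj = f} := ⟨_, by first | (delta Cfsg.Agent.H288.E6.S7B3.pj; rewrite [Cfsg.Agent.LsF.vecCons_eq]; exact rfl) | exact rfl⟩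
private noncomputable def _root_.Cfsg.Agent.LsF.fce2ea8_16 : {f // @Cfsg.Agent.H288.E6.S7B3.pk = f} := ⟨_, by first | (delta Cfsg.Agent.H288.E6.S7B3.pk; rewrite [Cfsg.Agent.LsF.vecCons_eq]; exact rfl) | exact rfl⟩
private noncomputable def _root_.Cfsg.Agent.LsF.fce2ea8_17 : {f // @Cfsg.Agent.H288.E6.S7B3.Cm = f} := ⟨_, by first | (delta Cfsg.Agent.H288.E6.S7B3.Cm; rewrite [Cfsg.Agent.LsF.fce2ea8_11.2, Cfsg.Agent.LsF.fce2ea8_14.2, Cfsg.Agent.LsF.fce2ea8_15.2, Cfsg.Agent.LsF.fce2ea8_16.2]; exact rfl) | exact rfl⟩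
theorem Bm_Cm : Bm * Cm = 1 := by
  (refine of_decide_eq_true ?_; (try (rewrite [Cfsg.Agent.LsF.mmulF_pat, Cfsg.Agent.LsF.fce2ea8_11.2, Cfsg.Agent.LsF.fce2ea8_13.2, Cfsg.Agent.LsF.fce2ea8_17.2, Cfsg.Agent.LsF.fce2ea8_10.2, Cfsg.Agent.LsF.finFintype_eq, Cfsg.Agent.LsF.dMat_eq, Cfsg.Agent.LsF.instMOne_eq, Cfsg.Agent.LsF.dFinEq_eq, Cfsg.Agent.LsF.decide_eq])); decide +kernel)

theorem io_sq (h2 : (2 : F) = 0) (c : KF) : KF.io (ω ^ 2) c = KF.io ω c ^ 2 := by
  revert c
  refine KF.forall_KF ?_ ?_ ?_ ?_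
  · rw [KF.io_zero, KF.io_zero]; ring
  · rw [KF.io_one, KF.io_one]; ring
  · rw [KF.io_two, KF.io_two]
  · rw [KF.io_three, KF.io_three]; linear_combination -ω * h2

theorem w2 (h2 : (2 : F) = 0) (hω : ω * ω = ω + 1) : ω ^ 2 * ω ^ 2 = ω ^ 2 + 1 := by
  linear_combination (ω * ω + ω + 1) * hω + ω * h2

/-- coordinates of an `H`-fixed family -/
theorem HFix.coord (h2 : (2 : F) = 0) (hω : ω * ω = ω + 1) {v : Fin 21 → I27 → F} (h : HFix ω v) (p : Fin 21) :
    v p = ∑ j : Fin 6, KF.io ω (Am p j) • v (bas j) := by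
  have h1 : v p = pr (KF.iota h2 hω) ((Am * Hb) p) v := by rw [Am_Hm, pr_eq_lin]; exact h p
  have h3 : (Am * Hb) p = ∑ j : Fin 6, Am p j • Hb j := by
    funext q
    rw [Finset.sum_apply]
    rfl
  rw [h1, h3, pr_sum]
  refine Finset.sum_congr rfl fun j _ => ?_
  rw [pr_smul, pr_eq_lin]
  have h4 : lin ω (Hb j) v = v (bas j) := (h (bas j)).symm
  rw [h4]
  rfl

theorem sum15 {M : Type*} [AddCommMonoid M] (f : Fin 15 → M) : ∑ m, f m = f 0 + f 1 + f 2 + f 3 + f 4 + f 5 + f 6 +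
    f 7 + f 8 + f 9 + f 10 + f 11 + f 12 + f 13 + f 14 := by
  simp only [Fin.sum_univ_castSucc, Fin.sum_univ_zero]
  rw [zero_add]
  rfl

theorem sh_six (c : Fin 6 → F) (y : Fin 6 → I27 → F) :
    sh (∑ j, c j • y j) = ∑ j, c j ^ 2 • sh (y j) + ∑ m : Fin 15, (c (pj m) * c (pk m)) • cr (y (pj m)) (y (pk m)) := by
  rw [sum15]
  simp only [Fin.sum_univ_six, sh_add, sh_smul, cr_add_left, cr_smul_left, cr_smul_right]
  have e : ∀ (m : Fin 15) (i j : Fin 6), pj m = i → pk m = j →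
      (c (pj m) * c (pk m)) • cr (y (pj m)) (y (pk m)) = (c i * c j) • cr (y i) (y j) := by
    rintro m i j rfl rfl; rfl
  rw [e 0 0 1 rfl rfl, e 1 0 2 rfl rfl, e 2 0 3 rfl rfl, e 3 0 4 rfl rfl, e 4 0 5 rfl rfl, e 5 1 2 rfl rfl,
    e 6 1 3 rfl rfl, e 7 1 4 rfl rfl, e 8 1 5 rfl rfl, e 9 2 3 rfl rfl, e 10 2 4 rfl rfl, e 11 2 5 rfl rfl,
    e 12 3 4 rfl rfl, e 13 3 5 rfl rfl, e 14 4 5 rfl rfl]
  module

/-- the family of the `sh (x p)` -/
theorem fam_sh (hP : PD σ σ') {x : Fin 21 → I27 → F} (hx : Fam ω σ S T x) :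
    Fam (ω ^ 2) σ' S T (fun p => sh (x p)) where
  s p := by
    show σ' S (sh (x p)) = sh (x (sp p))
    rw [← hP.hsh, hx.s]
  t p := by
    show σ' T (sh (x p)) = (ω ^ 2) ^ nt p • sh (x (tp p))
    rw [← hP.hsh, hx.t, sh_smul, ← pow_mul, ← pow_mul, mul_comm (nt p) 2]

/-- the vectors `cr (x j) (x k)` vanish -/
theorem cr_bas (h2 : (2 : F) = 0) (hω : ω * ω = ω + 1) {x : Fin 21 → I27 → F} (hH : HFix ω x)
    (hs : HFix (ω ^ 2) (fun p => sh (x p))) (j k : Fin 6) : cr (x (bas j)) (x (bas k)) = 0 := by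
  have h1 : ∀ p : Fin 21, pr (KF.iota h2 hω) (Cm p) (fun m => cr (x (bas (pj m))) (x (bas (pk m)))) = 0 := by
    intro p
    have a1 := HFix.coord h2 (w2 h2 hω) hs p
    have a2 := sh_six (fun j => KF.io ω (Am p j)) (fun j => x (bas j))
    rw [← HFix.coord h2 hω hH p] at a2
    have a3 : sh (x p) = ∑ j : Fin 6, KF.io ω (Am p j) ^ 2 • sh (x (bas j)) := by
      rw [a1]
      exact Finset.sum_congr rfl fun j _ => by rw [io_sq h2]
    rw [a3] at a2
    have a4 := add_left_cancel (a2.symm.trans (add_zero _).symm)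
    rw [← a4]
    unfold pr
    refine Finset.sum_congr rfl fun m _ => ?_
    rw [show (KF.iota h2 hω) (Cm p m) = KF.io ω (Am p (pj m)) * KF.io ω (Am p (pk m)) from
      (map_mul (KF.iota h2 hω) _ _)]
  have h3 : ∀ m : Fin 15, cr (x (bas (pj m))) (x (bas (pk m))) = 0 := by
    intro m
    have b1 := pr_single (KF.iota h2 hω) m (fun m => cr (x (bas (pj m))) (x (bas (pk m))))
    have b2 : (Pi.single m 1 : Fin 15 → KF) = ∑ p : Fin 21, Bm m p • Cm p := by
      have b3 : (Bm * Cm) m = (1 : Matrix (Fin 15) (Fin 15) KF) m := by rw [Bm_Cm]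
      funext n
      have b4 := congrFun b3 n
      rw [Finset.sum_apply]
      rw [Matrix.mul_apply] at b4
      rw [show (∑ p : Fin 21, (Bm m p • Cm p) n) = ∑ p : Fin 21, Bm m p * Cm p n from rfl, b4, Matrix.one_apply,
        Pi.single_apply]
      simp only [eq_comm]
    rw [b2, pr_sum] at b1
    rw [← b1]
    exact Finset.sum_eq_zero fun p _ => by rw [pr_smul, h1 p, smul_zero]
  have h4 : ∀ j k : Fin 6, j < k → ∃ m : Fin 15, pj m = j ∧ pk m = k := by decide +kernel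
  rcases lt_trichotomy j k with h | h | h
  · obtain ⟨m, rfl, rfl⟩ := h4 j k h; exact h3 m
  · rw [h, cr_self2 h2]
  · obtain ⟨m, h5, h6⟩ := h4 k j h; rw [cr_comm, ← h5, ← h6]; exact h3 m

theorem cr_sum_zero {n : Type*} [Fintype n] {x : I27 → F} {y : n → I27 → F} (c : n → F) (h : ∀ j, cr x (y j) = 0) :
    cr x (∑ j, c j • y j) = 0 := by
  have h1 : cr x (∑ j, c j • y j) = crB F x (∑ j, c j • y j) := rfl
  rw [h1, map_sum]
  refine Finset.sum_eq_zero fun j _ => ?_
  rw [map_smul, crB_apply, h j, smul_zero]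

/-- all `cr (x p) (x q)` vanish -/
theorem cr_all (h2 : (2 : F) = 0) (hω : ω * ω = ω + 1) {x : Fin 21 → I27 → F} (hH : HFix ω x)
    (hs : HFix (ω ^ 2) (fun p => sh (x p))) (p q : Fin 21) : cr (x p) (x q) = 0 := by
  rw [HFix.coord h2 hω hH q]
  refine cr_sum_zero _ fun k => ?_
  rw [HFix.coord h2 hω hH p, cr_comm]
  refine cr_sum_zero _ fun j => ?_
  exact cr_bas h2 hω hH hs k j

theorem finrank_fam (h2 : (2 : F) = 0) (hω : ω * ω = ω + 1) {x : Fin 21 → I27 → F} (hH : HFix ω x) :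
    finrank F ↥(Submodule.span F (Set.range x)) ≤ 6 := by
  have h1 : Submodule.span F (Set.range x) ≤ Submodule.span F (Set.range (fun j : Fin 6 => x (bas j))) := by
    rw [Submodule.span_le]
    rintro _ ⟨p, rfl⟩
    rw [HFix.coord h2 hω hH p]
    exact Submodule.sum_mem _ fun j _ => Submodule.smul_mem _ _ (Submodule.subset_span ⟨j, rfl⟩)
  refine (Submodule.finrank_mono h1).trans ?_
  exact (finrank_range_le_card (R := F) (fun j : Fin 6 => x (bas j))).trans (by simp)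

theorem fam_span_s {x : Fin 21 → I27 → F} (hx : Fam ω σ S T x) :
    ∀ w ∈ Submodule.span F (Set.range x), σ S w ∈ Submodule.span F (Set.range x) := by
  intro w hw
  induction hw using Submodule.span_induction with
  | mem w hw => obtain ⟨p, rfl⟩ := hw; rw [hx.s]; exact Submodule.subset_span ⟨_, rfl⟩
  | zero => rw [map_zero]; exact Submodule.zero_mem _
  | add a b _ _ ha hb => rw [map_add]; exact Submodule.add_mem _ ha hb
  | smul c a _ ha => rw [map_smul]; exact Submodule.smul_mem _ _ ha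

theorem fam_span_t {x : Fin 21 → I27 → F} (hx : Fam ω σ S T x) :
    ∀ w ∈ Submodule.span F (Set.range x), σ T w ∈ Submodule.span F (Set.range x) := by
  intro w hw
  induction hw using Submodule.span_induction with
  | mem w hw => obtain ⟨p, rfl⟩ := hw; rw [hx.t]; exact Submodule.smul_mem _ _ (Submodule.subset_span ⟨_, rfl⟩)
  | zero => rw [map_zero]; exact Submodule.zero_mem _
  | add a b _ _ ha hb => rw [map_add]; exact Submodule.add_mem _ ha hb
  | smul c a _ ha => rw [map_smul]; exact Submodule.smul_mem _ _ ha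

/-- B3 with the `H`-fixed family `sh (x p)` as hypothesis -/
theorem dead' (h : Dat ω σ σ' S T a) {x : Fin 21 → I27 → F} (hx : Fam ω σ S T x) (hH : HFix ω x) (h0 : x 0 ≠ 0)
    (hs : HFix (ω ^ 2) (fun p => sh (x p))) : False := by
  have h2 := h.h2
  have hω := h.hω
  have hcr := cr_all h2 hω hH hs
  have hf := fam_sh h.pd hx
  obtain ⟨α, β, hg⟩ := gram h2 hω h.pd hx hf
  have h3 : (3 : F) = 1 := by linear_combination h2
  have hx1 : x 1 ≠ 0 := by
    intro h1
    have := hx.t 1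
    rw [h1, map_zero] at this
    apply h0
    have e : ω ^ nt 1 • x (tp 1) = x 0 := by
      show ω ^ 0 • x 0 = x 0
      rw [pow_zero, one_smul]
    rw [e] at this
    exact this.symm
  have a1 : Cfsg.Lie.cubicT (x 0) = 0 := by
    have b1 := cr_sh_cr (x 0) (x 1)
    have b2 : tf (sh (x 0)) (x 1) = 0 := by
      rw [hg 0 1, if_neg (by decide), show Hm 1 0 = 0 by decide +kernel, KF.io_zero]; ring
    rw [hcr, cr_zero_right, b2, zero_smul, add_zero] at b1
    exact (smul_eq_zero.1 b1.symm).resolve_right hx1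
  have a2 : tf (sh (x 0)) (x 0) = 0 := by rw [tf_sh_self, a1, mul_zero]
  have a3 : tf (sh (x 0)) (x 11) = 0 := by
    have b1 := cr_sh_cr (x 0) (x 11)
    rw [hcr, cr_zero_right, a1, zero_smul, zero_add] at b1
    exact (smul_eq_zero.1 b1.symm).resolve_right h0
  have a4 : α = 0 := by
    have := hg 0 0
    rw [a2, if_pos rfl, show Hm 0 0 = 0 by decide +kernel, KF.io_zero] at this
    linear_combination -this
  have a5 : β = 0 := by
    have := hg 0 11
    rw [a3, if_neg (by decide), show Hm 11 0 = KF.mk 3 by decide +kernel, KF.io_three] at this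
    have e : (1 + ω) * ω = 1 := by linear_combination hω + ω * h2
    linear_combination -β * e - ω * this + 0 * h2
  have a6 : ∀ p q, tf (sh (x p)) (x q) = 0 := by
    intro p q; rw [hg, a4, a5]; ring
  have a7 : ∀ p, Cfsg.Lie.cubicT (x p) = 0 := by
    intro p
    have := tf_sh_self (x p)
    rw [a6, h3, one_mul] at this
    exact this.symm
  have a8 : ∀ p, sh (sh (x p)) = 0 := by
    intro p; rw [sh_sh, a7, zero_smul]
  have a9 : ∀ p q, cr (sh (x p)) (sh (x q)) = 0 := by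
    intro p q
    have := sh_cr (x p) (x q)
    rw [hcr, sh_zero, zero_add, a6, tf_comm, a6, zero_smul, zero_smul, add_zero] at this
    exact this
  have b1 := ts_span a8 a9
  have b2 : Submodule.span F (Set.range (fun p => sh (x p))) = ⊥ := by
    by_contra hne
    exact h.half'.nots _ (fam_span_s hf) (fam_span_t hf) hne (finrank_fam h2 (w2 h2 hω) hs) b1
  have b3 : ∀ p, sh (x p) = 0 := by
    intro p
    have : sh (x p) ∈ Submodule.span F (Set.range (fun p => sh (x p))) := Submodule.subset_span ⟨p, rfl⟩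
    rw [b2] at this
    exact (Submodule.mem_bot F).1 this
  refine h.half.nots _ (fam_span_s hx) (fam_span_t hx) ?_ (finrank_fam h2 hω hH) (ts_span b3 hcr)
  intro hb
  have : x 0 ∈ Submodule.span F (Set.range x) := Submodule.subset_span ⟨0, rfl⟩
  rw [hb] at this
  exact h0 ((Submodule.mem_bot F).1 this)

end

end Cfsg.Agent.H288.E6.S7B3
end

-- part: H911/S7Rstep
section
/-!
# S5927, S5928, box B7 (helper911): the case of two independent families

* `scott0` : Scott's lemma for two endomorphisms without common fixed vectors and functionals;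
* `core` : dual families `w`, `w'` whose spans contain the common fixed vectors of `S`, `a` are impossible;
* `rstep` : the case with two families on each side.
-/

set_option autoImplicit false
set_option linter.unusedSectionVars false

namespace Cfsg.Agent.H911.S7

open Cfsg Cfsg.Lie Module
open Cfsg.Agent.ChevalleyStructure.E6Min.Tables
open Cfsg.Agent.H952.F4 (ev es sh cr tf)
open Cfsg.Agent.H952.F4.Jord
open Cfsg.Agent.H905.E6T
open Cfsg.Agent.H952.S7

universe u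

section Lin

variable {F : Type*} [Field F] {V : Type*} [AddCommGroup V] [Module F V] [FiniteDimensional F V]

theorem rank_ev (A : Module.End F V) : finrank F (LinearMap.range (A - 1)) + ev A 1 = finrank F V := by
  have h := LinearMap.finrank_range_add_finrank_ker (A - 1)
  rw [ev, Module.End.eigenspace_def, one_smul]
  exact h

theorem mem_ev {A : Module.End F V} {v : V} : v ∈ Module.End.eigenspace A 1 ↔ A v = v := by
  rw [Module.End.mem_eigenspace_iff, one_smul]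

/-- Scott's lemma -/
theorem scott0 (A B : Module.End F V) (h1 : ∀ v, A v = v → B v = v → v = 0)
    (h2 : ∀ f : V →ₗ[F] F, (∀ v, f (A v) = f v) → (∀ v, f (B v) = f v) → f = 0) :
    ev A 1 + ev B 1 + ev (A * B) 1 ≤ finrank F V := by
  let φ : ↥(Module.End.eigenspace (A * B) 1) →ₗ[F] V := (B - 1) ∘ₗ (Module.End.eigenspace (A * B) 1).subtype
  have hr : LinearMap.range φ ≤ LinearMap.range (A - 1) ⊓ LinearMap.range (B - 1) := by
    rintro _ ⟨⟨v, hv⟩, rfl⟩
    have hv' : A (B v) = v := mem_ev.1 hv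
    refine ⟨⟨- B v, ?_⟩, ⟨v, rfl⟩⟩
    change A (- B v) - (- B v) = B v - v
    rw [map_neg, hv']
    abel
  have hi : Function.Injective φ := by
    rw [← LinearMap.ker_eq_bot, eq_bot_iff]
    rintro ⟨v, hv⟩ hk
    have hv' : A (B v) = v := mem_ev.1 hv
    have hb : B v = v := sub_eq_zero.1 (LinearMap.mem_ker.1 hk)
    rw [hb] at hv'
    have := h1 v hv' hb
    exact (Submodule.mem_bot F).2 (Subtype.ext this)
  have h3 : ev (A * B) 1 ≤ finrank F ↥(LinearMap.range (A - 1) ⊓ LinearMap.range (B - 1)) := by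
    have h4 := LinearMap.finrank_range_of_inj hi
    have h5 := Submodule.finrank_mono hr
    rw [ev]
    omega
  have htop : LinearMap.range (A - 1) ⊔ LinearMap.range (B - 1) = ⊤ := by
    by_contra hne
    obtain ⟨f, hf0, hf⟩ := Submodule.exists_le_ker_of_lt_top _ (lt_top_iff_ne_top.2 hne)
    apply hf0
    refine h2 f (fun v => ?_) (fun v => ?_)
    · have : (A - 1) v ∈ LinearMap.ker f := hf (Submodule.mem_sup_left ⟨v, rfl⟩)
      have h4 : f (A v - v) = 0 := this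
      rwa [map_sub, sub_eq_zero] at h4
    · have : (B - 1) v ∈ LinearMap.ker f := hf (Submodule.mem_sup_right ⟨v, rfl⟩)
      have h4 : f (B v - v) = 0 := this
      rwa [map_sub, sub_eq_zero] at h4
  have h9 := Submodule.finrank_sup_add_finrank_inf_eq (LinearMap.range (A - 1)) (LinearMap.range (B - 1))
  rw [htop, finrank_top] at h9
  have h10 := rank_ev A
  have h11 := rank_ev B
  omega

theorem ker_sq (N : Module.End F V) : finrank F (LinearMap.ker (N * N)) ≤ 2 * finrank F (LinearMap.ker N) := by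
  let φ : ↥(LinearMap.ker (N * N)) →ₗ[F] V := N ∘ₗ (LinearMap.ker (N * N)).subtype
  have h := LinearMap.finrank_range_add_finrank_ker φ
  have hr : LinearMap.range φ ≤ LinearMap.ker N := by
    rintro _ ⟨⟨v, hv⟩, rfl⟩
    exact hv
  have hk : (LinearMap.ker φ).map (LinearMap.ker (N * N)).subtype ≤ LinearMap.ker N := by
    rintro _ ⟨⟨v, hv⟩, hvk, rfl⟩
    exact hvk
  have h4 := Submodule.finrank_mono hr
  have h5 := Submodule.finrank_mono hk
  rw [Submodule.finrank_map_subtype_eq] at h5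
  omega

theorem ev_ker (A : Module.End F V) : ev A 1 = finrank F (LinearMap.ker (A - 1)) := by
  rw [ev, Module.End.eigenspace_def, one_smul]

theorem sub_sq (h2 : (2 : F) = 0) (A : Module.End F V) : (A - 1) * (A - 1) = A * A - 1 := by
  have h : A + A = 0 := add_self2 h2 A
  have h' : (1 : Module.End F V) + 1 = 0 := add_self2 h2 1
  have e : (A - 1) * (A - 1) = A * A - (A + A) + 1 := by noncomm_ring
  rw [e, h, sub_zero, sub_eq_add_neg, neg_eq_of_add_eq_zero_left h']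

theorem ev_two (h2 : (2 : F) = 0) {A : Module.End F V} (hA : A * A = 1) : finrank F V ≤ 2 * ev A 1 := by
  have h := ker_sq (A - 1)
  rw [sub_sq h2, hA, sub_self, LinearMap.ker_zero, finrank_top, ← ev_ker] at h
  exact h

theorem ev_four (h2 : (2 : F) = 0) {A : Module.End F V} (hA : (A * A) * (A * A) = 1) : finrank F V ≤ 4 * ev A 1 := by
  have h := ker_sq (A - 1)
  have h' := ev_two h2 hA
  rw [sub_sq h2, ← ev_ker, ← ev_ker] at h
  omega

end Lin

section Core

variable {F : Type u} [Field F] {G : Type*} [Group G] {ω : F} {σ σ' : Representation F G (I27 → F)} {S T a : G}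

theorem sp_surj : ∀ q, ∃ p, sp p = q := by decide +kernel

theorem tp_surj : ∀ q, ∃ p, tp p = q := by decide +kernel

theorem eq_of_tf {x y : I27 → F} (h : ∀ z, tf x z = tf y z) : x = y := by
  have h1 : x - y = 0 := by
    refine tf_nondeg fun z => ?_
    rw [sub_eq_add_neg, tf_add_left, ← neg_one_smul F y, tf_smul_left, h z]
    ring
  exact sub_eq_zero.1 h1

theorem exists_tf (f : (I27 → F) →ₗ[F] F) : ∃ q, ∀ v, f v = tf q v := by
  have hT : Function.Injective (tfB F) := by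
    rw [← LinearMap.ker_eq_bot, eq_bot_iff]
    intro x hx
    exact tf_nondeg fun y => LinearMap.congr_fun hx y
  have hS : Function.Surjective (tfB F) :=
    (LinearMap.injective_iff_surjective_of_finrank_eq_finrank
      (show finrank F (I27 → F) = finrank F (Dual F (I27 → F)) from (Subspace.dual_finrank_eq).symm)).1 hT
  obtain ⟨q, hq⟩ := hS f
  exact ⟨q, fun v => by rw [← hq]; rfl⟩

theorem ω_ne (hω : ω * ω = ω + 1) : ω ≠ 0 := by
  rintro rfl
  simp at hω

/-- `S`, `T`-stable subspaces are `a`-stable -/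
theorem a_mem (hω : ω * ω = ω + 1) (ha : ∀ v, σ (T * S * T⁻¹ * S⁻¹ * T) v = ω • σ a v) {M : Submodule F (I27 → F)}
    (hS : ∀ v ∈ M, σ S v ∈ M) (hT : ∀ v ∈ M, σ T v ∈ M) (hS' : ∀ v ∈ M, σ S⁻¹ v ∈ M) (hT' : ∀ v ∈ M, σ T⁻¹ v ∈ M)
    {v : I27 → F} (hv : v ∈ M) : σ a v ∈ M := by
  have h1 : σ (T * S * T⁻¹ * S⁻¹ * T) v ∈ M := by
    simp only [mul_app]
    exact hT _ (hS _ (hT' _ (hS' _ (hT _ hv))))
  rw [ha] at h1
  have h2 := M.smul_mem ω⁻¹ h1
  rwa [smul_smul, inv_mul_cancel₀ (ω_ne hω), one_smul] at h2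

theorem inv_mem {M : Submodule F (I27 → F)} {g : G} (h : ∀ v ∈ M, σ g v ∈ M) : ∀ v ∈ M, σ g⁻¹ v ∈ M := by
  have hi : Function.Injective ((σ g).restrict h) := by
    rintro ⟨x, hx⟩ ⟨y, hy⟩ hxy
    have h1 : σ g x = σ g y := congrArg Subtype.val hxy
    have h2 := congrArg (σ g⁻¹) h1
    rw [inv_app, inv_app] at h2
    exact Subtype.ext h2
  have hs := LinearMap.injective_iff_surjective.1 hi
  intro v hv
  obtain ⟨⟨x, hx⟩, hxv⟩ := hs ⟨v, hv⟩
  have h1 : σ g x = v := congrArg Subtype.val hxv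
  rw [← h1, inv_app]
  exact hx

theorem fin21 (P : Fin 21 → Prop) (h0 : P 0) (h1 : P 1) (h2 : P 2) (h3 : P 3) (h4 : P 4) (h5 : P 5) (h6 : P 6)
    (h7 : P 7) (h8 : P 8) (h9 : P 9) (h10 : P 10) (h11 : P 11) (h12 : P 12) (h13 : P 13) (h14 : P 14) (h15 : P 15)
    (h16 : P 16) (h17 : P 17) (h18 : P 18) (h19 : P 19) (h20 : P 20) (i : Fin 21) : P i := by
  fin_cases i <;> assumption

/-- vectors fixed by `S` -/
theorem fix_S (h : PD σ σ') {w' : Fin 21 → I27 → F} (hs : ∀ p, σ' S (w' p) = w' (sp p)) {v : I27 → F} (hv : σ S v = v)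
    (q0 : tf (w' 0) v = 0) (q1 : tf (w' 1) v = 0) (q6 : tf (w' 6) v = 0) (q11 : tf (w' 11) v = 0)
    (q16 : tf (w' 16) v = 0) (i : Fin 21) : tf (w' i) v = 0 := by
  have hst : ∀ p r, sp p = r → tf (w' p) v = 0 → tf (w' r) v = 0 := by
    rintro p r rfl hp
    rw [← hs]
    nth_rw 1 [← hv]
    rw [tf_comm, h.htf, tf_comm]
    exact hp
  have q2 := hst 1 2 rfl q1
  have q3 := hst 2 3 rfl q2
  have q4 := hst 3 4 rfl q3
  have q5 := hst 4 5 rfl q4
  have q7 := hst 6 7 rfl q6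
  have q8 := hst 7 8 rfl q7
  have q9 := hst 8 9 rfl q8
  have q10 := hst 9 10 rfl q9
  have q12 := hst 11 12 rfl q11
  have q13 := hst 12 13 rfl q12
  have q14 := hst 13 14 rfl q13
  have q15 := hst 14 15 rfl q14
  have q17 := hst 16 17 rfl q16
  have q18 := hst 17 18 rfl q17
  have q19 := hst 18 19 rfl q18
  have q20 := hst 19 20 rfl q19
  exact fin21 (fun i => tf (w' i) v = 0) q0 q1 q2 q3 q4 q5 q6 q7 q8 q9 q10 q11 q12 q13 q14 q15 q16 q17 q18 q19 q20 i

/-- the vectors fixed by `S` in the complement -/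
theorem ev_R (h : PD σ σ') (h5 : 7 ≤ ev (σ S) 1) {w' : Fin 21 → I27 → F} (hs : ∀ p, σ' S (w' p) = w' (sp p))
    {R : Submodule F (I27 → F)} (memR : ∀ {v}, v ∈ R ↔ ∀ i, tf (w' i) v = 0) (hRS : ∀ v ∈ R, σ S v ∈ R) :
    7 ≤ 5 + ev ((σ S).restrict hRS) 1 := by
  let φ : ↥(Module.End.eigenspace (σ S) 1) →ₗ[F] (Fin 5 → F) :=
    (LinearMap.pi fun i => tfB F (w' ((![0, 1, 6, 11, 16] : Fin 5 → Fin 21) i))) ∘ₗ
      (Module.End.eigenspace (σ S) 1).subtype
  have h1 := LinearMap.finrank_range_add_finrank_ker φ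
  have h2 : finrank F (LinearMap.range φ) ≤ 5 := by
    have := Submodule.finrank_le (LinearMap.range φ)
    rwa [finrank_pi, Fintype.card_fin] at this
  have hk : (LinearMap.ker φ).map (Module.End.eigenspace (σ S) 1).subtype ≤
      (Module.End.eigenspace ((σ S).restrict hRS) 1).map R.subtype := by
    rintro _ ⟨⟨v, hv⟩, hvk, rfl⟩
    have hv' : σ S v = v := mem_ev.1 hv
    have hvk' : ∀ i, tf (w' ((![0, 1, 6, 11, 16] : Fin 5 → Fin 21) i)) v = 0 := fun i =>
      congrFun (LinearMap.mem_ker.1 hvk) i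
    have hvR : v ∈ R := memR.2 fun i => fix_S h hs hv' (hvk' 0) (hvk' 1) (hvk' 2) (hvk' 3) (hvk' 4) i
    refine ⟨⟨v, hvR⟩, ?_, rfl⟩
    exact mem_ev.2 (Subtype.ext hv')
  have h3 := Submodule.finrank_mono hk
  rw [Submodule.finrank_map_subtype_eq, Submodule.finrank_map_subtype_eq] at h3
  rw [ev] at h5 ⊢
  omega

/-- dual families whose spans contain the common fixed vectors of `S` and `a` do not exist -/
theorem core (h : Dat ω σ σ' S T a) {w w' : Fin 21 → I27 → F} (hw : Fam ω σ S T w) (hw' : Fam (ω ^ 2) σ' S T w')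
    (hd : ∀ i j, tf (w' i) (w j) = if i = j then 1 else 0) (hX : X σ S a ≤ Submodule.span F (Set.range w))
    (hX' : X σ' S a ≤ Submodule.span F (Set.range w')) : False := by
  classical
  have hωne := ω_ne h.hω
  -- combinations
  have hcl : ∀ (c : Fin 21 → F) j, tf (∑ q, c q • w' q) (w j) = c j := by
    intro c j
    rw [← tfB_apply, map_sum, LinearMap.sum_apply]
    simp only [map_smul, LinearMap.smul_apply, tfB_apply, hd, smul_eq_mul, mul_ite, mul_one, mul_zero]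
    simp
  have hcr : ∀ (c : Fin 21 → F) i, tf (w' i) (∑ q, c q • w q) = c i := by
    intro c i
    rw [← tfB_apply, map_sum]
    simp only [map_smul, tfB_apply, hd, smul_eq_mul, mul_ite, mul_one, mul_zero]
    simp
  have hexp : ∀ {u : Fin 21 → I27 → F} {v}, v ∈ Submodule.span F (Set.range u) → ∃ c : Fin 21 → F, v = ∑ q, c q • u q := by
    intro u v hv
    obtain ⟨c, hc⟩ := (Submodule.mem_span_range_iff_exists_fun F).1 hv
    exact ⟨c, hc.symm⟩
  have hli' : LinearIndependent F w' := by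
    rw [Fintype.linearIndependent_iff]
    intro g hg i
    rw [← hcl g i, hg, tf_zero_left]
  set M := Submodule.span F (Set.range w) with hM
  set R := perp (Submodule.span F (Set.range w')) with hR
  have hRdim : finrank F R = 6 := by
    have h1 := finrank_perp (Submodule.span F (Set.range w'))
    rw [finrank_span_eq_card hli', Fintype.card_fin] at h1
    rw [hR]
    omega
  have memR : ∀ {v}, v ∈ R ↔ ∀ i, tf (w' i) v = 0 := fun {v} => perp_span
  -- stability
  have hMS : ∀ v ∈ M, σ S v ∈ M := by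
    intro v hv
    obtain ⟨c, rfl⟩ := hexp hv
    rw [map_sum]
    refine Submodule.sum_mem _ fun q _ => ?_
    rw [map_smul, hw.s]
    exact M.smul_mem _ (Submodule.subset_span ⟨_, rfl⟩)
  have hMT : ∀ v ∈ M, σ T v ∈ M := by
    intro v hv
    obtain ⟨c, rfl⟩ := hexp hv
    rw [map_sum]
    refine Submodule.sum_mem _ fun q _ => ?_
    rw [map_smul, hw.t]
    exact M.smul_mem _ (M.smul_mem _ (Submodule.subset_span ⟨_, rfl⟩))
  have hωp : ∀ n : ℕ, (ω ^ 2) ^ n ≠ 0 := fun n => pow_ne_zero _ (pow_ne_zero _ hωne)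
  have hRS : ∀ v ∈ R, σ S v ∈ R := by
    intro v hv
    rw [memR] at hv ⊢
    intro q
    obtain ⟨p, rfl⟩ := sp_surj q
    rw [← hw'.s, tf_comm, h.pd.htf, tf_comm]
    exact hv p
  have hRT : ∀ v ∈ R, σ T v ∈ R := by
    intro v hv
    rw [memR] at hv ⊢
    intro q
    obtain ⟨p, rfl⟩ := tp_surj q
    have h1 : tf (σ' T (w' p)) (σ T v) = 0 := by
      rw [tf_comm, h.pd.htf, tf_comm]
      exact hv p
    rw [hw'.t, tf_smul_left] at h1
    exact (mul_eq_zero.1 h1).resolve_left (hωp _)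
  have hMa : ∀ v ∈ M, σ a v ∈ M := fun v hv =>
    a_mem h.hω h.half.ha hMS hMT (inv_mem hMS) (inv_mem hMT) hv
  have hRa : ∀ v ∈ R, σ a v ∈ R := fun v hv =>
    a_mem h.hω h.half.ha hRS hRT (inv_mem hRS) (inv_mem hRT) hv
  -- the projection to `R`
  let E : (I27 → F) →ₗ[F] (I27 → F) := LinearMap.id - ∑ q, (LinearMap.toSpanSingleton F _ (w q)) ∘ₗ (tfB F (w' q))
  have hEv : ∀ v, E v = v - ∑ q, tf (w' q) v • w q := by
    intro v
    simp only [E, LinearMap.sub_apply, LinearMap.id_apply, LinearMap.sum_apply, LinearMap.comp_apply,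
      LinearMap.toSpanSingleton_apply, tfB_apply]
  have hER : ∀ v, E v ∈ R := by
    intro v
    rw [memR]
    intro i
    rw [hEv, ← tfB_apply, map_sub, tfB_apply, tfB_apply, hcr, sub_self]
  have hEM : ∀ v ∈ M, E v = 0 := by
    intro v hv
    obtain ⟨c, rfl⟩ := hexp hv
    rw [hEv]
    simp only [hcr]
    rw [sub_self]
  have hEid : ∀ v ∈ R, E v = v := by
    intro v hv
    rw [memR] at hv
    rw [hEv]
    simp only [hv, zero_smul, Finset.sum_const_zero, sub_zero]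
  have hsub : ∀ v, v - E v ∈ M := by
    intro v
    rw [hEv, sub_sub_cancel]
    exact Submodule.sum_mem _ fun q _ => M.smul_mem _ (Submodule.subset_span ⟨_, rfl⟩)
  have hEc : ∀ g, (∀ v ∈ M, σ g v ∈ M) → (∀ v ∈ R, σ g v ∈ R) → ∀ v, E (σ g v) = σ g (E v) := by
    intro g hgM hgR v
    have h1 : σ g v = σ g (v - E v) + σ g (E v) := by rw [← map_add, sub_add_cancel]
    rw [h1, map_add, hEM _ (hgM _ (hsub v)), zero_add, hEid _ (hgR _ (hER v))]
  have hE' : ∀ v, E v = E (E v) := fun v => (hEid _ (hER v)).symm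
  let A : Module.End F R := (σ a).restrict hRa
  let B : Module.End F R := (σ S).restrict hRS
  have hA : ∀ v : R, ((A v : R) : I27 → F) = σ a v := fun v => rfl
  have hB : ∀ v : R, ((B v : R) : I27 → F) = σ S v := fun v => rfl
  have hAA : A * A = 1 := by
    ext1 v
    apply Subtype.ext
    change σ a ((σ a v :)) = v
    rw [← mul_app, h.a2, one_app]
  have hABB : ((A * B) * (A * B)) * ((A * B) * (A * B)) = 1 := by
    ext1 v
    apply Subtype.ext
    change σ a (σ S (σ a (σ S (σ a (σ S (σ a (σ S v))))))) = v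
    have h1 := h.b4
    have h2 : σ ((a * S) ^ 4) v = v := by rw [h1, one_app]
    simpa only [pow_succ, pow_zero, one_mul, mul_app] using h2
  have hscott := scott0 A B ?_ ?_
  · rw [hRdim] at hscott
    have e1 := ev_two h.h2 hAA
    have e2 := ev_four h.h2 hABB
    rw [hRdim] at e1 e2
    -- the fixed vectors of `S` on `R`
    have e3 : 7 ≤ 5 + ev B 1 := ev_R h.pd h.half.f5 hw'.s memR hRS
    omega
  · intro v hv hv'
    have h1 : σ a v = v := congrArg Subtype.val hv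
    have h2 : σ S v = v := congrArg Subtype.val hv'
    have h3 : (v : I27 → F) ∈ M := hX ⟨mem_ev.2 h2, mem_ev.2 h1⟩
    have h4 := hEM _ h3
    rw [hEid _ v.2] at h4
    exact Subtype.ext h4
  · intro f hfA hfB
    obtain ⟨q, hq⟩ := exists_tf (f ∘ₗ (E.codRestrict R hER))
    have hq' : ∀ v, tf q v = f ⟨E v, hER v⟩ := fun v => (hq v).symm
    have hqa : σ' a q = q := by
      refine eq_of_tf fun z => ?_
      rw [← app_inv (σ := σ) a z, tf_comm, h.pd.htf, tf_comm, hq', hq', ← hfA]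
      congr 1
      apply Subtype.ext
      exact (hEc a hMa hRa _).symm
    have hqS : σ' S q = q := by
      refine eq_of_tf fun z => ?_
      rw [← app_inv (σ := σ) S z, tf_comm, h.pd.htf, tf_comm, hq', hq', ← hfB]
      congr 1
      apply Subtype.ext
      exact (hEc S hMS hRS _).symm
    obtain ⟨c, hc⟩ := hexp (hX' ⟨mem_ev.2 hqS, mem_ev.2 hqa⟩)
    have hc0 : ∀ j, c j = 0 := by
      intro j
      rw [← hcl c j, ← hc, hq']
      have h1 : (⟨E (w j), hER (w j)⟩ : R) = 0 := Subtype.ext (hEM _ (Submodule.subset_span ⟨_, rfl⟩))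
      rw [h1, map_zero]
    have hq0 : q = 0 := by
      rw [hc]
      simp [hc0]
    ext v
    have h1 := hq' v
    rw [hq0, tf_zero_left] at h1
    rw [LinearMap.zero_apply, h1]
    congr 1
    exact Subtype.ext (hEid _ v.2).symm

/-- box B7 -/
theorem rstep (h : Dat ω σ σ' S T a) {x u y p : Fin 21 → I27 → F} (hx : Fam ω σ S T x) (hu : Fam ω σ S T u)
    (hy : Fam (ω ^ 2) σ' S T y) (hp : Fam (ω ^ 2) σ' S T p) {α β : F} (hα : α ≠ 0) (hβ : β ≠ 0)
    {H H' : Fin 21 → Fin 21 → F}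
    (hpu : ∀ i j, tf (p i) (u j) = α * ((if i = j then 1 else 0) + H j i))
    (hyx : ∀ i j, tf (y i) (x j) = β * H j i) (hpx : ∀ i j, tf (p i) (x j) = 0) (hyu : ∀ i j, tf (y i) (u j) = 0)
    (Hx : ∀ j, ∑ q, H j q • x q = x j) (Hu : ∀ j, ∑ q, H j q • u q = 0)
    (Hy : ∀ j, ∑ q, H' j q • y q = y j) (Hp : ∀ j, ∑ q, H' j q • p q = 0)
    (hX : X σ S a = Submodule.span F {x 0, u 0}) (hX' : X σ' S a = Submodule.span F {y 0, p 0}) : False := by
  have hw : Fam ω σ S T (fun i => u i + x i) :=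
    ⟨fun i => by rw [map_add, hx.s, hu.s], fun i => by rw [map_add, hx.t, hu.t, smul_add]⟩
  have hw' : Fam (ω ^ 2) σ' S T (fun i => α⁻¹ • p i + β⁻¹ • y i) := by
    refine ⟨fun i => by rw [map_add, map_smul, map_smul, hy.s, hp.s], fun i => ?_⟩
    rw [map_add, map_smul, map_smul, hy.t, hp.t, smul_add, smul_comm α⁻¹, smul_comm β⁻¹]
  have hxm : ∀ j, x j ∈ Submodule.span F (Set.range fun i => u i + x i) := by
    intro j
    have h1 : ∑ q, H j q • (u q + x q) = x j := by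
      simp only [smul_add, Finset.sum_add_distrib, Hx, Hu, zero_add]
    rw [← h1]
    exact Submodule.sum_mem _ fun q _ => Submodule.smul_mem _ _ (Submodule.subset_span ⟨q, rfl⟩)
  have hum : ∀ j, u j ∈ Submodule.span F (Set.range fun i => u i + x i) := by
    intro j
    have h1 : (u j + x j) - x j = u j := add_sub_cancel_right _ _
    rw [← h1]
    exact Submodule.sub_mem _ (Submodule.subset_span ⟨j, rfl⟩) (hxm j)
  have hym : ∀ j, y j ∈ Submodule.span F (Set.range fun i => α⁻¹ • p i + β⁻¹ • y i) := by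
    intro j
    have h1 : ∑ q, H' j q • (α⁻¹ • p q + β⁻¹ • y q) = β⁻¹ • y j := by
      simp only [smul_add, Finset.sum_add_distrib, smul_comm _ α⁻¹, smul_comm _ β⁻¹, ← Finset.smul_sum, Hy, Hp,
        smul_zero, zero_add]
    have h2 : β • ∑ q, H' j q • (α⁻¹ • p q + β⁻¹ • y q) = y j := by
      rw [h1, smul_smul, mul_inv_cancel₀ hβ, one_smul]
    rw [← h2]
    exact Submodule.smul_mem _ _
      (Submodule.sum_mem _ fun q _ => Submodule.smul_mem _ _ (Submodule.subset_span ⟨q, rfl⟩))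
  have hpm : ∀ j, p j ∈ Submodule.span F (Set.range fun i => α⁻¹ • p i + β⁻¹ • y i) := by
    intro j
    have h1 : α • ((α⁻¹ • p j + β⁻¹ • y j) - β⁻¹ • y j) = p j := by
      rw [add_sub_cancel_right, smul_smul, mul_inv_cancel₀ hα, one_smul]
    rw [← h1]
    exact Submodule.smul_mem _ _
      (Submodule.sub_mem _ (Submodule.subset_span ⟨j, rfl⟩) (Submodule.smul_mem _ _ (hym j)))
  refine core h hw hw' (fun i j => ?_) ?_ ?_
  · rw [tf_add_left, tf_add_right, tf_add_right, tf_smul_left, tf_smul_left, tf_smul_left, tf_smul_left, hpu, hyx, hpx,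
      hyu, mul_zero, mul_zero, add_zero, zero_add, ← mul_assoc, ← mul_assoc, inv_mul_cancel₀ hα, inv_mul_cancel₀ hβ,
      one_mul, one_mul, add_assoc, add_self2 h.h2 (H j i), add_zero]
  · rw [hX, Submodule.span_le]
    rintro v (rfl | rfl)
    · exact hxm 0
    · exact hum 0
  · rw [hX', Submodule.span_le]
    rintro v (rfl | rfl)
    · exact hym 0
    · exact hpm 0

end Core

end Cfsg.Agent.H911.S7
end

-- part: H952/S7/B4
section
/-!
# Threefold cover of `A₇`, characteristic 2: the products `cr (x 0) (y 0)` (helper952)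
-/

set_option autoImplicit false

namespace Cfsg.Agent.H952.S7

open Cfsg Cfsg.Lie Module Matrix
open Cfsg.Agent.ChevalleyStructure.E6Min.Tables
open Cfsg.Agent.H952.F4 (ev es sh cr tf)
open Cfsg.Agent.H952.F4.Jord
open Cfsg.Agent.H163.E6 (TS)
open Cfsg.Agent.H905.E6T (PD)

universe u v

namespace B4

/-- matrix from a table -/
def tm (t : List (List ℕ)) : Matrix (Fin 6) (Fin 6) KF := fun i j => ent t i j
/-- matrix from a list of tables -/
def tms (t : List (List (List ℕ))) (k : ℕ) : Matrix (Fin 6) (Fin 6) KF := fun i j => ent (t.getD k []) i j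

def MSt : List (List ℕ) := [[1, 0, 0, 0, 0, 0], [0, 0, 1, 0, 0, 0], [0, 0, 0, 1, 0, 0], [0, 0, 0, 0, 1, 0], [0, 0, 0, 0, 0, 1], [0, 1, 0, 0, 0, 0]]
def MTt : List (List ℕ) := [[3, 2, 1, 0, 1, 2], [3, 3, 3, 1, 0, 1], [0, 0, 1, 0, 0, 0], [0, 0, 0, 3, 0, 0], [0, 0, 0, 0, 1, 0], [3, 1, 0, 1, 3, 3]]
def MCt : List (List ℕ) := [[3, 2, 2, 1, 0, 1], [3, 1, 3, 3, 1, 0], [0, 0, 0, 1, 0, 0], [0, 0, 0, 0, 3, 0], [0, 0, 0, 0, 0, 1], [3, 3, 1, 0, 1, 3]]
def MYt : List (List ℕ) := [[1, 2, 3, 3, 2, 0], [0, 0, 0, 0, 0, 1], [2, 3, 0, 3, 2, 2], [1, 1, 1, 2, 0, 2], [3, 0, 1, 1, 0, 1], [2, 0, 3, 0, 3, 3]]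
def Zt : List (List (List ℕ)) := [
  [[1, 0, 0, 0, 0, 0], [0, 1, 0, 0, 0, 0], [0, 0, 1, 0, 0, 0], [0, 0, 0, 1, 0, 0], [0, 0, 0, 0, 1, 0], [0, 0, 0, 0, 0, 1]],
  [[3, 2, 2, 1, 0, 1], [3, 1, 3, 3, 1, 0], [0, 0, 0, 1, 0, 0], [0, 0, 0, 0, 3, 0], [0, 0, 0, 0, 0, 1], [3, 3, 1, 0, 1, 3]],
  [[0, 0, 1, 0, 0, 0], [1, 0, 2, 3, 3, 2], [0, 0, 0, 0, 3, 0], [0, 0, 0, 0, 0, 3], [3, 3, 1, 0, 1, 3], [2, 0, 0, 0, 0, 0]],
  [[0, 0, 0, 1, 0, 0], [2, 3, 0, 3, 0, 3], [0, 0, 0, 0, 0, 3], [2, 2, 3, 0, 3, 2], [2, 0, 0, 0, 0, 0], [1, 3, 3, 2, 0, 2]],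
  [[0, 0, 0, 0, 3, 0], [1, 2, 2, 0, 2, 0], [2, 2, 3, 0, 3, 2], [1, 0, 0, 0, 0, 0], [1, 3, 3, 2, 0, 2], [0, 0, 2, 0, 0, 0]],
  [[0, 0, 0, 0, 0, 3], [2, 0, 3, 2, 2, 3], [1, 0, 0, 0, 0, 0], [3, 2, 2, 1, 0, 1], [0, 0, 2, 0, 0, 0], [0, 0, 0, 2, 0, 0]],
  [[2, 2, 3, 0, 3, 2], [3, 1, 0, 1, 2, 2], [3, 2, 2, 1, 0, 1], [0, 0, 1, 0, 0, 0], [0, 0, 0, 2, 0, 0], [0, 0, 0, 0, 1, 0]]]
def Yt : List (List (List ℕ)) := [
  [[1, 0, 0, 0, 0, 0], [0, 1, 0, 0, 0, 0], [0, 0, 1, 0, 0, 0], [0, 0, 0, 1, 0, 0], [0, 0, 0, 0, 1, 0], [0, 0, 0, 0, 0, 1]],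
  [[1, 2, 3, 3, 2, 0], [0, 0, 0, 0, 0, 1], [2, 3, 0, 3, 2, 2], [1, 1, 1, 2, 0, 2], [3, 0, 1, 1, 0, 1], [2, 0, 3, 0, 3, 3]],
  [[2, 3, 2, 2, 3, 0], [2, 0, 3, 0, 3, 3], [3, 0, 1, 2, 2, 1], [2, 3, 0, 3, 1, 1], [2, 3, 0, 3, 0, 3], [0, 1, 0, 0, 0, 0]]]
def Dt : List (List (List ℕ)) := [
  [[1, 0, 0, 0, 0, 0], [0, 1, 0, 0, 0, 0], [0, 0, 1, 0, 0, 0], [0, 0, 0, 1, 0, 0], [0, 0, 0, 0, 1, 0], [0, 0, 0, 0, 0, 1]],
  [[3, 2, 2, 1, 0, 1], [3, 1, 3, 3, 1, 0], [0, 0, 0, 1, 0, 0], [0, 0, 0, 0, 3, 0], [0, 0, 0, 0, 0, 1], [3, 3, 1, 0, 1, 3]],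
  [[0, 0, 1, 0, 0, 0], [1, 0, 2, 3, 3, 2], [0, 0, 0, 0, 3, 0], [0, 0, 0, 0, 0, 3], [3, 3, 1, 0, 1, 3], [2, 0, 0, 0, 0, 0]],
  [[0, 0, 0, 1, 0, 0], [2, 3, 0, 3, 0, 3], [0, 0, 0, 0, 0, 3], [2, 2, 3, 0, 3, 2], [2, 0, 0, 0, 0, 0], [1, 3, 3, 2, 0, 2]],
  [[0, 0, 0, 0, 3, 0], [1, 2, 2, 0, 2, 0], [2, 2, 3, 0, 3, 2], [1, 0, 0, 0, 0, 0], [1, 3, 3, 2, 0, 2], [0, 0, 2, 0, 0, 0]],
  [[0, 0, 0, 0, 0, 3], [2, 0, 3, 2, 2, 3], [1, 0, 0, 0, 0, 0], [3, 2, 2, 1, 0, 1], [0, 0, 2, 0, 0, 0], [0, 0, 0, 2, 0, 0]],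
  [[2, 2, 3, 0, 3, 2], [3, 1, 0, 1, 2, 2], [3, 2, 2, 1, 0, 1], [0, 0, 1, 0, 0, 0], [0, 0, 0, 2, 0, 0], [0, 0, 0, 0, 1, 0]],
  [[1, 2, 3, 3, 2, 0], [0, 0, 0, 0, 0, 1], [2, 3, 0, 3, 2, 2], [1, 1, 1, 2, 0, 2], [3, 0, 1, 1, 0, 1], [2, 0, 3, 0, 3, 3]],
  [[3, 1, 0, 1, 1, 0], [2, 0, 0, 0, 0, 0], [1, 1, 1, 2, 0, 2], [2, 0, 3, 3, 0, 3], [2, 0, 3, 0, 3, 3], [3, 2, 1, 0, 1, 2]],
  [[2, 3, 0, 3, 2, 2], [0, 0, 2, 0, 0, 0], [2, 0, 3, 3, 0, 3], [1, 0, 2, 0, 2, 2], [3, 2, 1, 0, 1, 2], [2, 3, 1, 1, 3, 0]],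
  [[1, 1, 1, 2, 0, 2], [0, 0, 0, 0, 1, 0], [1, 0, 2, 0, 2, 2], [2, 1, 3, 0, 3, 1], [2, 3, 1, 1, 3, 0], [1, 2, 0, 2, 2, 0]],
  [[2, 0, 3, 3, 0, 3], [3, 3, 1, 0, 1, 3], [2, 1, 3, 0, 3, 1], [1, 2, 3, 3, 2, 0], [1, 2, 0, 2, 2, 0], [3, 1, 0, 1, 3, 3]],
  [[1, 0, 2, 0, 2, 2], [1, 3, 3, 2, 0, 2], [1, 2, 3, 3, 2, 0], [3, 1, 0, 1, 1, 0], [3, 1, 0, 1, 3, 3], [2, 2, 2, 3, 0, 3]],
  [[2, 1, 3, 0, 3, 1], [0, 0, 0, 2, 0, 0], [3, 1, 0, 1, 1, 0], [2, 3, 0, 3, 2, 2], [2, 2, 2, 3, 0, 3], [3, 0, 1, 1, 0, 1]],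
  [[2, 3, 2, 2, 3, 0], [2, 0, 3, 0, 3, 3], [3, 0, 1, 2, 2, 1], [2, 3, 0, 3, 1, 1], [2, 3, 0, 3, 0, 3], [0, 1, 0, 0, 0, 0]],
  [[1, 0, 2, 1, 1, 2], [2, 3, 1, 1, 3, 0], [2, 3, 0, 3, 1, 1], [1, 2, 0, 2, 0, 2], [0, 1, 0, 0, 0, 0], [1, 2, 2, 0, 2, 0]],
  [[3, 0, 1, 2, 2, 1], [3, 1, 0, 1, 3, 3], [1, 2, 0, 2, 0, 2], [0, 3, 0, 0, 0, 0], [1, 2, 2, 0, 2, 0], [3, 1, 3, 3, 1, 0]],
  [[2, 3, 0, 3, 1, 1], [3, 0, 1, 1, 0, 1], [0, 3, 0, 0, 0, 0], [3, 1, 1, 0, 1, 0], [3, 1, 3, 3, 1, 0], [2, 0, 3, 2, 2, 3]],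
  [[1, 2, 0, 2, 0, 2], [3, 2, 1, 0, 1, 2], [3, 1, 1, 0, 1, 0], [2, 3, 2, 2, 3, 0], [2, 0, 3, 2, 2, 3], [1, 0, 2, 3, 3, 2]],
  [[0, 3, 0, 0, 0, 0], [1, 2, 0, 2, 2, 0], [2, 3, 2, 2, 3, 0], [1, 0, 2, 1, 1, 2], [1, 0, 2, 3, 3, 2], [3, 1, 0, 1, 2, 2]],
  [[3, 1, 1, 0, 1, 0], [2, 2, 2, 3, 0, 3], [1, 0, 2, 1, 1, 2], [3, 0, 1, 2, 2, 1], [3, 1, 0, 1, 2, 2], [2, 3, 0, 3, 0, 3]]]
def X0t : List (List ℕ) := [[0, 0, 1, 1, 0, 1], [0, 0, 1, 2, 1, 3], [1, 1, 0, 3, 2, 1], [1, 2, 3, 0, 1, 1], [0, 1, 2, 1, 0, 3], [1, 3, 1, 1, 3, 0]]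
def X1t : List (List ℕ) := [[1, 3, 2, 1, 1, 3], [3, 0, 0, 1, 0, 2], [1, 3, 0, 0, 2, 3], [2, 0, 2, 0, 0, 2], [1, 3, 3, 3, 0, 1], [0, 0, 0, 1, 3, 3]]
def X2t : List (List ℕ) := [[1, 3, 3, 2, 1, 1], [0, 3, 0, 0, 1, 3], [3, 2, 0, 0, 1, 0], [1, 3, 3, 0, 0, 2], [2, 2, 0, 2, 0, 0], [1, 1, 3, 3, 3, 0]]
def X3t : List (List ℕ) := [[0, 1, 0, 1, 1, 0], [1, 0, 3, 1, 1, 3], [0, 3, 0, 1, 2, 1], [1, 1, 1, 0, 3, 2], [1, 1, 2, 3, 0, 1], [0, 3, 1, 2, 1, 0]]

/-- products for `yw` -/
def It : List (List (List ℕ)) := [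
  [[3, 2, 1, 0, 1, 2], [0, 0, 1, 0, 0, 0], [0, 0, 0, 3, 0, 0], [0, 0, 0, 0, 1, 0], [3, 1, 0, 1, 3, 3], [3, 3, 3, 1, 0, 1]],
  [[3, 1, 0, 1, 2, 2], [0, 1, 0, 0, 0, 0], [0, 0, 3, 0, 0, 0], [0, 0, 0, 1, 0, 0], [3, 0, 1, 3, 3, 1], [3, 3, 1, 0, 1, 3]],
  [[3, 1, 0, 1, 3, 3], [3, 2, 2, 1, 0, 1], [0, 0, 3, 0, 0, 0], [0, 0, 0, 2, 0, 0], [2, 0, 3, 0, 3, 3], [1, 3, 2, 0, 2, 3]],
  [[3, 0, 1, 3, 3, 1], [3, 2, 1, 0, 1, 2], [0, 3, 0, 0, 0, 0], [0, 0, 2, 0, 0, 0], [2, 3, 0, 3, 3, 0], [1, 2, 0, 2, 3, 3]],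
  [[3, 1, 3, 3, 1, 0], [3, 1, 0, 1, 2, 2], [0, 0, 0, 0, 0, 3], [0, 2, 0, 0, 0, 0], [2, 0, 3, 3, 0, 3], [1, 0, 2, 3, 3, 2]],
  [[1, 2, 3, 3, 2, 0], [0, 0, 0, 0, 0, 1], [2, 3, 0, 3, 2, 2], [1, 1, 1, 2, 0, 2], [3, 0, 1, 1, 0, 1], [2, 0, 3, 0, 3, 3]]]
def S4t : List (List ℕ) := [[1, 0, 0, 0, 0, 0], [0, 0, 0, 0, 0, 1], [0, 1, 0, 0, 0, 0], [0, 0, 1, 0, 0, 0], [0, 0, 0, 1, 0, 0], [0, 0, 0, 0, 1, 0]]
def T2t : List (List ℕ) := [[2, 2, 3, 0, 3, 2], [3, 2, 2, 1, 0, 1], [0, 0, 1, 0, 0, 0], [0, 0, 0, 2, 0, 0], [0, 0, 0, 0, 1, 0], [3, 1, 0, 1, 2, 2]]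

theorem t1 : tm MSt * tm MSt * (tm MSt * tm MSt) = tm S4t := by decide +kernel
theorem t2 : tm MTt * tm MTt = tm T2t := by decide +kernel
theorem t3 : tm MTt * tm MSt = tm MCt := by decide +kernel
theorem i0 : tm MSt * tm MTt = tms It 0 := by decide +kernel
theorem i1 : tms It 0 * tm S4t = tms It 1 := by decide +kernel
theorem i2 : tms It 1 * tm T2t = tms It 2 := by decide +kernel
theorem i3 : tms It 2 * tm S4t = tms It 3 := by decide +kernel
theorem i4 : tms It 3 * tm S4t = tms It 4 := by decide +kernel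
theorem i5 : tms It 4 * tm MTt = tm MYt := by decide +kernel
theorem z0 : tms Zt 0 = 1 := by decide +kernel
private noncomputable def _root_.Cfsg.Agent.LsF.fce2ea8_18 : {f // @Cfsg.Agent.H952.S7.B4.tm = f} := ⟨_, by first | (delta Cfsg.Agent.H952.S7.B4.tm; rewrite [Cfsg.Agent.LsF.fce2ea8_7.2]; exact rfl) | exact rfl⟩
private noncomputable def _root_.Cfsg.Agent.LsF.fce2ea8_19 : {f // @Cfsg.Agent.H952.S7.B4.tms = f} := ⟨_, by first | (delta Cfsg.Agent.H952.S7.B4.tms; rewrite [Cfsg.Agent.LsF.fce2ea8_7.2, Cfsg.Agent.LsF.getD_eq]; exact rfl) | exact rfl⟩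
theorem z1 : ∀ i : Fin 6, tm MCt * tms Zt i = tms Zt (i + 1) := by (refine of_decide_eq_true ?_; (try (rewrite [Cfsg.Agent.LsF.mmulF_pat, Cfsg.Agent.LsF.fce2ea8_11.2, Cfsg.Agent.LsF.fce2ea8_18.2, Cfsg.Agent.LsF.fce2ea8_19.2, Cfsg.Agent.LsF.fce2ea8_10.2, Cfsg.Agent.LsF.nadd_pat, Cfsg.Agent.LsF.finFintype_eq, Cfsg.Agent.LsF.dMat_eq, Cfsg.Agent.LsF.dForallFin_eq, Cfsg.Agent.LsF.decide_eq])); decide +kernel)
theorem y0 : tms Yt 0 = 1 := by decide +kernel
theorem y1 : ∀ i : Fin 2, tm MYt * tms Yt i = tms Yt (i + 1) := by decide +kernel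
theorem d0 : ∀ j : Fin 3, ∀ i : Fin 7, tms Zt i * tms Yt j = tms Dt (7 * j + i) := by (refine of_decide_eq_true ?_; (try (rewrite [Cfsg.Agent.LsF.mmulF_pat, Cfsg.Agent.LsF.fce2ea8_11.2, Cfsg.Agent.LsF.fce2ea8_19.2, Cfsg.Agent.LsF.fce2ea8_10.2, Cfsg.Agent.LsF.nadd_pat, Cfsg.Agent.LsF.nmul_pat, Cfsg.Agent.LsF.finFintype_eq, Cfsg.Agent.LsF.dMat_eq, Cfsg.Agent.LsF.dForallFin_eq, Cfsg.Agent.LsF.decide_eq])); decide +kernel)

/-- action on bilinear expressions -/
def act2 (N X : Matrix (Fin 6) (Fin 6) KF) : Matrix (Fin 6) (Fin 6) KF := Nᵀ * X * N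

/-- the sum over the group of order 21 -/
def EDm (X : Matrix (Fin 6) (Fin 6) KF) : Matrix (Fin 6) (Fin 6) KF :=
  ∑ j : Fin 3, ∑ i : Fin 7, act2 (tms Dt (7 * j + i)) X

/-- matrix units -/
def Es (j k : Fin 6) : Matrix (Fin 6) (Fin 6) KF := fun j' k' => if j' = j ∧ k' = k then 1 else 0

private noncomputable def _root_.Cfsg.Agent.LsF.fce2ea8_20 : {f // @Cfsg.Agent.H952.S7.B4.act2 = f} := ⟨_, by first | (delta Cfsg.Agent.H952.S7.B4.act2; rewrite [Cfsg.Agent.LsF.mmulF_pat, Cfsg.Agent.LsF.fce2ea8_11.2, Cfsg.Agent.LsF.transpose_eq]; exact rfl) | exact rfl⟩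
private noncomputable def _root_.Cfsg.Agent.LsF.fce2ea8_21 : {f // @Cfsg.Agent.H952.S7.B4.EDm = f} := ⟨_, by first | (delta Cfsg.Agent.H952.S7.B4.EDm; rewrite [Cfsg.Agent.LsF.sumF_pat, Cfsg.Agent.LsF.sumF_pat, Cfsg.Agent.LsF.fce2ea8_20.2, Cfsg.Agent.LsF.fce2ea8_19.2, Cfsg.Agent.LsF.nadd_pat, Cfsg.Agent.LsF.nmul_pat]; exact rfl) | exact rfl⟩
private noncomputable def _root_.Cfsg.Agent.LsF.fce2ea8_22 : {f // @Cfsg.Agent.H952.S7.B4.Es = f} := ⟨_, by first | (delta Cfsg.Agent.H952.S7.B4.Es; rewrite [Cfsg.Agent.LsF.dAnd_eq, Cfsg.Agent.LsF.dFinEq_eq, Cfsg.Agent.LsF.ite_eq]; exact rfl) | exact rfl⟩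
theorem e0 : EDm (Es 0 0) = tm X0t := by (refine of_decide_eq_true ?_; (try (rewrite [Cfsg.Agent.LsF.fce2ea8_21.2, Cfsg.Agent.LsF.fce2ea8_22.2, Cfsg.Agent.LsF.fce2ea8_18.2, Cfsg.Agent.LsF.fce2ea8_10.2, Cfsg.Agent.LsF.finFintype_eq, Cfsg.Agent.LsF.dMat_eq, Cfsg.Agent.LsF.decide_eq])); decide +kernel)
theorem e1 : EDm (Es 0 2) = tm X1t := by (refine of_decide_eq_true ?_; (try (rewrite [Cfsg.Agent.LsF.fce2ea8_21.2, Cfsg.Agent.LsF.fce2ea8_22.2, Cfsg.Agent.LsF.fce2ea8_18.2, Cfsg.Agent.LsF.fce2ea8_10.2, Cfsg.Agent.LsF.finFintype_eq, Cfsg.Agent.LsF.dMat_eq, Cfsg.Agent.LsF.decide_eq])); decide +kernel)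
theorem e2 : act2 (tm MSt) (tm X1t) = tm X2t := by decide +kernel
theorem e3 : EDm (tm X2t) = tm X0t := by (refine of_decide_eq_true ?_; (try (rewrite [Cfsg.Agent.LsF.fce2ea8_21.2, Cfsg.Agent.LsF.fce2ea8_18.2, Cfsg.Agent.LsF.fce2ea8_10.2, Cfsg.Agent.LsF.finFintype_eq, Cfsg.Agent.LsF.dMat_eq, Cfsg.Agent.LsF.decide_eq])); decide +kernel)
theorem e4 : act2 (tm MSt) (tm X0t) = tm X3t := by decide +kernel
theorem e5 : EDm (tm X3t) = 0 := by (refine of_decide_eq_true ?_; (try (rewrite [Cfsg.Agent.LsF.fce2ea8_21.2, Cfsg.Agent.LsF.fce2ea8_18.2, Cfsg.Agent.LsF.fce2ea8_10.2, Cfsg.Agent.LsF.finFintype_eq, Cfsg.Agent.LsF.dMat_eq, Cfsg.Agent.LsF.decide_eq])); decide +kernel)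

/-- rows of `S`, `T` -/
def MS' : Matrix (Fin 6) (Fin 6) KF := fun j l => Am (sp (bas j)) l
def MT' : Matrix (Fin 6) (Fin 6) KF := fun j l => KF.mk 2 ^ nt (bas j) * Am (tp (bas j)) l
theorem ms : MS' = tm MSt := by decide +kernel
theorem mt' : MT' = tm MTt := by decide +kernel

end B4

open B4

section
variable {F : Type u} [Field F] {G : Type*} [Group G] {ω : F} {σ σ' : Representation F G (I27 → F)} {S T a : G}

/-- coordinates -/
theorem hfix_am (h2 : (2 : F) = 0) (hω : ω * ω = ω + 1) {v : Fin 21 → I27 → F} (hv : HFix ω v) (p : Fin 21) :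
    v p = lin ω (Am p) (v ∘ bas) := by
  rw [hv p, ← pr_eq_lin h2 hω, ← pr_eq_lin h2 hω]
  have h1 : Hm p = (Am p) ᵥ* Hb := by
    rw [← Am_Hm]; rfl
  have h3 : ∀ j, (v ∘ bas) j = pr (KF.iota h2 hω) (Hb j) v := fun j => hv (bas j)
  rw [h1]
  unfold pr
  simp only [h3]
  unfold pr
  simp only [Finset.smul_sum, smul_smul, vecMul, dotProduct, map_sum, map_mul, Finset.sum_smul]
  rw [Finset.sum_comm]

theorem actS (h2 : (2 : F) = 0) (hω : ω * ω = ω + 1) {v : Fin 21 → I27 → F} (hf : Fam ω σ S T v) (hv : HFix ω v) :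
    Act (KF.iota h2 hω) (σ S) (v ∘ bas) (tm MSt) := by
  intro j
  rw [← ms]
  show σ S (v (bas j)) = _
  rw [hf.s, hfix_am h2 hω hv]
  rfl

theorem actT (h2 : (2 : F) = 0) (hω : ω * ω = ω + 1) {v : Fin 21 → I27 → F} (hf : Fam ω σ S T v) (hv : HFix ω v) :
    Act (KF.iota h2 hω) (σ T) (v ∘ bas) (tm MTt) := by
  intro j
  rw [← mt']
  show σ T (v (bas j)) = _
  rw [hf.t, hfix_am h2 hω hv]
  have h1 : (MT' j : Fin 6 → KF) = (KF.mk 2 ^ nt (bas j)) • (Am (tp (bas j)) : Fin 6 → KF) := rfl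
  rw [h1, pr_smul, map_pow]
  congr 2
  exact (KF.io_two (ω := ω)).symm

theorem act_one {R : Type*} [CommRing R] {M : Type v} [AddCommGroup M] [Module F M] {n : Type*} [Fintype n]
    [DecidableEq n] (f : R →+* F) (w : n → M) : Act f (1 : M →ₗ[F] M) w 1 := by
  intro i
  have h1 : ((1 : Matrix n n R) i) = Pi.single i 1 := by
    funext j
    rw [Matrix.one_apply, Pi.single_apply]
    simp only [eq_comm]
  rw [h1, pr_single]
  rfl

theorem act_mul' {R : Type*} [CommRing R] {n : Type*} [Fintype n] (f : R →+* F) {g h : G} {w : n → I27 → F}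
    {N P : Matrix n n R} (hg : Act f (σ g) w N) (hh : Act f (σ h) w P) : Act f (σ (g * h)) w (P * N) := by
  rw [map_mul]
  exact hg.mul f hh

variable {f : KF →+* F} {w : Fin 6 → I27 → F}

theorem act_y (hS : S ^ 5 = 1) (hT : T ^ 3 = 1) (h1 : Act f (σ S) w (tm MSt)) (h2 : Act f (σ T) w (tm MTt)) :
    Act f (σ (yw S T)) w (tm MYt) := by
  have e1 : S⁻¹ = S * S * (S * S) := by
    rw [inv_eq_iff_mul_eq_one, ← hS]
    simp only [pow_succ, pow_zero, one_mul, mul_assoc]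
  have e2 : T⁻¹ = T * T := by
    rw [inv_eq_iff_mul_eq_one, ← hT]
    simp only [pow_succ, pow_zero, one_mul, mul_assoc]
  have a1 : Act f (σ (S * S * (S * S))) w (tm S4t) := by
    rw [← t1]
    exact act_mul' f (act_mul' f h1 h1) (act_mul' f h1 h1)
  have a2 : Act f (σ (T * T)) w (tm T2t) := by
    rw [← t2]
    exact act_mul' f h2 h2
  have b0 : Act f (σ (T * S)) w (tms It 0) := by rw [← i0]; exact act_mul' f h2 h1
  have b1 : Act f (σ (S⁻¹ * (T * S))) w (tms It 1) := by rw [← i1, e1]; exact act_mul' f a1 b0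
  have b2 : Act f (σ (T⁻¹ * (S⁻¹ * (T * S)))) w (tms It 2) := by rw [← i2, e2]; exact act_mul' f a2 b1
  have b3 : Act f (σ (S⁻¹ * (T⁻¹ * (S⁻¹ * (T * S))))) w (tms It 3) := by
    rw [← i3]
    refine act_mul' f ?_ b2
    rw [e1]; exact a1
  have b4 : Act f (σ (S⁻¹ * (S⁻¹ * (T⁻¹ * (S⁻¹ * (T * S)))))) w (tms It 4) := by
    rw [← i4]
    refine act_mul' f ?_ b3
    rw [e1]; exact a1
  have b5 : Act f (σ (T * (S⁻¹ * (S⁻¹ * (T⁻¹ * (S⁻¹ * (T * S))))))) w (tm MYt) := by
    rw [← i5]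
    exact act_mul' f h2 b4
  have e3 : yw S T = T * (S⁻¹ * (S⁻¹ * (T⁻¹ * (S⁻¹ * (T * S))))) := by
    rw [yw]; group
  rw [e3]
  exact b5

theorem act_z (h1 : Act f (σ S) w (tm MSt)) (h2 : Act f (σ T) w (tm MTt)) :
    ∀ i : ℕ, i ≤ 6 → Act f (σ ((S * T) ^ i)) w (tms Zt i) := by
  intro i
  induction i with
  | zero => intro _; rw [pow_zero, map_one, z0]; exact act_one f w
  | succ i ih =>
    intro hi
    have h3 := ih (by omega)
    have h4 := z1 ⟨i, by omega⟩
    rw [pow_succ, ← h4, ← t3]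
    exact act_mul' f h3 (act_mul' f h1 h2)

theorem act_yp (hS : S ^ 5 = 1) (hT : T ^ 3 = 1) (h1 : Act f (σ S) w (tm MSt)) (h2 : Act f (σ T) w (tm MTt)) :
    ∀ i : ℕ, i ≤ 2 → Act f (σ (yw S T ^ i)) w (tms Yt i) := by
  intro i
  induction i with
  | zero => intro _; rw [pow_zero, map_one, y0]; exact act_one f w
  | succ i ih =>
    intro hi
    have h3 := ih (by omega)
    have h4 := y1 ⟨i, by omega⟩
    rw [pow_succ, ← h4]
    exact act_mul' f h3 (act_y hS hT h1 h2)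

theorem act_d (hS : S ^ 5 = 1) (hT : T ^ 3 = 1) (h1 : Act f (σ S) w (tm MSt)) (h2 : Act f (σ T) w (tm MTt))
    (j : Fin 3) (i : Fin 7) : Act f (σ (yw S T ^ (j : ℕ) * (S * T) ^ (i : ℕ))) w (tms Dt (7 * j + i)) := by
  rw [← d0]
  exact act_mul' f (act_yp hS hT h1 h2 j (by omega)) (act_z h1 h2 i (by omega))

/-- bilinear expressions -/
noncomputable def BX (f : KF →+* F) (w w' : Fin 6 → I27 → F) (X : Matrix (Fin 6) (Fin 6) KF) : I27 → F :=
  ∑ j, ∑ k, f (X j k) • cr (w j) (w' k)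

theorem cr_sum_left {ι : Type*} (s : Finset ι) (u : ι → I27 → F) (y : I27 → F) :
    cr (∑ i ∈ s, u i) y = ∑ i ∈ s, cr (u i) y := by
  have h := map_sum ((Cfsg.Agent.H905.E6T.crB F).flip y) u s
  exact h

theorem cr_sum_right {ι : Type*} (s : Finset ι) (u : ι → I27 → F) (y : I27 → F) :
    cr y (∑ i ∈ s, u i) = ∑ i ∈ s, cr y (u i) := by
  have h := map_sum (Cfsg.Agent.H905.E6T.crB F y) u s
  exact h

theorem cr_pr (f : KF →+* F) (w w' : Fin 6 → I27 → F) (c d : Fin 6 → KF) :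
    cr (pr f c w) (pr f d w') = ∑ j, ∑ k, (f (c j) * f (d k)) • cr (w j) (w' k) := by
  unfold pr
  rw [cr_sum_left]
  refine Finset.sum_congr rfl fun j _ => ?_
  rw [cr_smul_left, cr_sum_right, Finset.smul_sum]
  refine Finset.sum_congr rfl fun k _ => ?_
  rw [cr_smul_right, smul_smul]

theorem sum4 {M : Type*} [AddCommMonoid M] {n : Type*} [Fintype n] (A : n → n → n → n → M) :
    ∑ j, ∑ k, ∑ l, ∑ m, A j k l m = ∑ l, ∑ m, ∑ k, ∑ j, A j k l m := by
  calc ∑ j, ∑ k, ∑ l, ∑ m, A j k l m = ∑ j, ∑ l, ∑ k, ∑ m, A j k l m :=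
        Finset.sum_congr rfl fun j _ => Finset.sum_comm
    _ = ∑ l, ∑ j, ∑ k, ∑ m, A j k l m := Finset.sum_comm
    _ = ∑ l, ∑ j, ∑ m, ∑ k, A j k l m :=
        Finset.sum_congr rfl fun l _ => Finset.sum_congr rfl fun j _ => Finset.sum_comm
    _ = ∑ l, ∑ m, ∑ j, ∑ k, A j k l m := Finset.sum_congr rfl fun l _ => Finset.sum_comm
    _ = ∑ l, ∑ m, ∑ k, ∑ j, A j k l m :=
        Finset.sum_congr rfl fun l _ => Finset.sum_congr rfl fun m _ => Finset.sum_comm

theorem act_BX (hP : PD σ σ') {w' : Fin 6 → I27 → F} {g : G} {N : Matrix (Fin 6) (Fin 6) KF}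
    (h1 : Act f (σ g) w N) (h2 : Act f (σ g) w' N) (X : Matrix (Fin 6) (Fin 6) KF) :
    σ' g (BX f w w' X) = BX f w w' (act2 N X) := by
  unfold BX
  simp only [map_sum, map_smul]
  have h3 : ∀ j k, σ' g (cr (w j) (w' k)) = ∑ l, ∑ m, (f (N j l) * f (N k m)) • cr (w l) (w' m) := by
    intro j k
    rw [← hP.hcr, h1 j, h2 k, cr_pr]
  simp only [h3, act2, Matrix.mul_apply, Matrix.transpose_apply, map_sum, map_mul, Finset.sum_mul, Finset.sum_smul,
    Finset.smul_sum, smul_smul]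
  rw [sum4]
  refine Finset.sum_congr rfl fun l _ => Finset.sum_congr rfl fun m _ => Finset.sum_congr rfl fun k _ =>
    Finset.sum_congr rfl fun j _ => ?_
  congr 1
  ring

theorem BX_add (w' : Fin 6 → I27 → F) (X Y : Matrix (Fin 6) (Fin 6) KF) :
    BX f w w' (X + Y) = BX f w w' X + BX f w w' Y := by
  unfold BX
  simp only [Matrix.add_apply, map_add, add_smul, Finset.sum_add_distrib]

theorem BX_zero (w' : Fin 6 → I27 → F) : BX f w w' 0 = 0 := by
  unfold BX
  simp only [Matrix.zero_apply, map_zero, zero_smul, Finset.sum_const_zero]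

theorem BX_sum (w' : Fin 6 → I27 → F) {ι : Type*} (s : Finset ι) (X : ι → Matrix (Fin 6) (Fin 6) KF) :
    BX f w w' (∑ i ∈ s, X i) = ∑ i ∈ s, BX f w w' (X i) := by
  classical
  induction s using Finset.induction_on with
  | empty => rw [Finset.sum_empty, Finset.sum_empty, BX_zero]
  | insert a s ha ih => rw [Finset.sum_insert ha, Finset.sum_insert ha, BX_add, ih]

theorem BX_single (w' : Fin 6 → I27 → F) (j k : Fin 6) :
    BX f w w' (Es j k) = cr (w j) (w' k) := by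
  unfold BX Es
  rw [Finset.sum_eq_single j]
  · rw [Finset.sum_eq_single k]
    · simp
    · intro k' _ hk
      simp [hk]
    · intro h; exact absurd (Finset.mem_univ k) h
  · intro j' _ hj
    refine Finset.sum_eq_zero fun k' _ => ?_
    simp [hj]
  · intro h; exact absurd (Finset.mem_univ j) h

theorem eD_BX (hP : PD σ σ') (hS : S ^ 5 = 1) (hT : T ^ 3 = 1) {w' : Fin 6 → I27 → F} (h1 : Act f (σ S) w (tm MSt))
    (h2 : Act f (σ T) w (tm MTt)) (h1' : Act f (σ S) w' (tm MSt)) (h2' : Act f (σ T) w' (tm MTt))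
    (X : Matrix (Fin 6) (Fin 6) KF) : eD σ' S T (BX f w w' X) = BX f w w' (EDm X) := by
  unfold eD EDm
  simp only [LinearMap.sum_apply, BX_sum]
  refine Finset.sum_congr rfl fun j _ => Finset.sum_congr rfl fun i _ => ?_
  exact act_BX hP (act_d hS hT h1 h2 j i) (act_d hS hT h1' h2' j i) X

/-- the key relation: a one-dimensional space of invariants of the group of order 21 does not see `cr (x 0) (y 0)` -/
theorem eD_cr (h : Dat ω σ σ' S T a) {x y : Fin 21 → I27 → F} (hx : Fam ω σ S T x) (hy : Fam ω σ S T y)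
    (hxH : HFix ω x) (hyH : HFix ω y) (hD : ∀ v, eD σ' S T v ∈ VD σ' S T) : eD σ' S T (cr (x 0) (y 0)) = 0 := by
  have a1 := actS h.h2 h.hω hx hxH
  have a2 := actT h.h2 h.hω hx hxH
  have b1 := actS h.h2 h.hω hy hyH
  have b2 := actT h.h2 h.hω hy hyH
  set w := x ∘ bas with hw
  set w' := y ∘ bas with hw'
  have k0 : cr (x 0) (y 0) = BX (KF.iota h.h2 h.hω) w w' (Es 0 0) := by
    rw [BX_single]; rfl
  have k1 : eD σ' S T (cr (x 0) (y 0)) = BX (KF.iota h.h2 h.hω) w w' (tm X0t) := by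
    rw [k0, eD_BX h.pd h.S5 h.T3 a1 a2 b1 b2, e0]
  have k2 : eD σ' S T (cr (w 0) (w' 2)) = BX (KF.iota h.h2 h.hω) w w' (tm X1t) := by
    rw [← BX_single (f := KF.iota h.h2 h.hω), eD_BX h.pd h.S5 h.T3 a1 a2 b1 b2, e1]
  have k3 : eD σ' S T (σ' S (BX (KF.iota h.h2 h.hω) w w' (tm X1t))) = BX (KF.iota h.h2 h.hω) w w' (tm X0t) := by
    rw [act_BX h.pd a1 b1, e2, eD_BX h.pd h.S5 h.T3 a1 a2 b1 b2, e3]
  have k4 : eD σ' S T (σ' S (BX (KF.iota h.h2 h.hω) w w' (tm X0t))) = 0 := by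
    rw [act_BX h.pd a1 b1, e4, eD_BX h.pd h.S5 h.T3 a1 a2 b1 b2, e5, BX_zero]
  rw [← k1] at k3 k4
  rw [← k2] at k3
  by_contra hne
  have m0 := hD (cr (x 0) (y 0))
  have m1 := hD (cr (w 0) (w' 2))
  obtain ⟨c, hc⟩ : ∃ c : F, eD σ' S T (cr (w 0) (w' 2)) = c • eD σ' S T (cr (x 0) (y 0)) := by
    have h5 := finrank_le_one_iff.1 h.half'.dimD
    obtain ⟨v, hv⟩ := h5
    obtain ⟨c0, hc0⟩ := hv ⟨_, m0⟩
    obtain ⟨c1, hc1⟩ := hv ⟨_, m1⟩
    have e0 : c0 • (v : I27 → F) = eD σ' S T (cr (x 0) (y 0)) := congrArg Subtype.val hc0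
    have e1 : c1 • (v : I27 → F) = eD σ' S T (cr (w 0) (w' 2)) := congrArg Subtype.val hc1
    have hne0 : c0 ≠ 0 := by
      rintro rfl
      exact hne (by rw [← e0, zero_smul])
    refine ⟨c1 * c0⁻¹, ?_⟩
    rw [← e0, ← e1, smul_smul, mul_assoc, inv_mul_cancel₀ hne0, mul_one]
  rw [hc, map_smul, map_smul, k4, smul_zero] at k3
  exact hne k3.symm

end

end Cfsg.Agent.H952.S7
end

-- part: H952/S7/ED
section
/-!
# Threefold cover of `A₇`, characteristic 2: the group of order 21 (helper952)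
-/

set_option autoImplicit false

namespace Cfsg.Agent.H952.S7

open Cfsg Cfsg.Lie Module Matrix
open Cfsg.Agent.ChevalleyStructure.E6Min.Tables
open Cfsg.Agent.H952.F4 (ev es sh cr tf)
open Cfsg.Agent.H952.F4.Jord
open Cfsg.Agent.H163.E6 (TS)
open Cfsg.Agent.H905.E6T

universe u v

section
variable {F : Type u} [Field F] {G : Type*} [Group G] {ω : F} {σ σ' : Representation F G (I27 → F)} {S T a : G}

theorem mem_VD {v : I27 → F} : v ∈ VD σ S T ↔ σ (S * T) v = v ∧ σ (yw S T) v = v :=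
  ⟨fun h => ⟨Cfsg.Agent.H911.S7.mem_ev.1 h.1, Cfsg.Agent.H911.S7.mem_ev.1 h.2⟩,
    fun h => ⟨Cfsg.Agent.H911.S7.mem_ev.2 h.1, Cfsg.Agent.H911.S7.mem_ev.2 h.2⟩⟩

theorem mem_X {v : I27 → F} : v ∈ X σ S a ↔ σ S v = v ∧ σ a v = v :=
  ⟨fun h => ⟨Cfsg.Agent.H911.S7.mem_ev.1 h.1, Cfsg.Agent.H911.S7.mem_ev.1 h.2⟩,
    fun h => ⟨Cfsg.Agent.H911.S7.mem_ev.2 h.1, Cfsg.Agent.H911.S7.mem_ev.2 h.2⟩⟩

theorem pow_fix {g : G} {v : I27 → F} (h : σ g v = v) : ∀ n : ℕ, σ (g ^ n) v = v := by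
  intro n
  induction n with
  | zero => rw [pow_zero, map_one]; rfl
  | succ n ih => rw [pow_succ, map_mul, Module.End.mul_apply, h, ih]

theorem eD_app (v : I27 → F) :
    eD σ S T v = ∑ j : Fin 3, ∑ i : Fin 7, σ (yw S T ^ (j : ℕ) * (S * T) ^ (i : ℕ)) v := by
  unfold eD
  simp only [LinearMap.sum_apply]

/-- sum over the powers of an element of order 7 -/
theorem sum7 {c : G} (hc : c ^ 7 = 1) (v : I27 → F) (k : ℕ) :
    σ (c ^ k) (∑ i : Fin 7, σ (c ^ (i : ℕ)) v) = ∑ i : Fin 7, σ (c ^ (i : ℕ)) v := by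
  refine pow_fix ?_ k
  rw [map_sum]
  have h1 : ∀ i : Fin 7, σ c (σ (c ^ (i : ℕ)) v) = σ (c ^ ((i + 1 : Fin 7) : ℕ)) v := by
    intro i
    rw [← Module.End.mul_apply, ← map_mul, ← pow_succ']
    have h2 : c ^ ((i : ℕ) + 1) = c ^ ((i + 1 : Fin 7) : ℕ) := by
      fin_cases i
      · rfl
      · rfl
      · rfl
      · rfl
      · rfl
      · rfl
      · show c ^ 7 = c ^ 0
        rw [hc, pow_zero]
    rw [h2]
  simp only [h1]
  exact Equiv.sum_comp (Equiv.addRight (1 : Fin 7)) (fun i => σ (c ^ (i : ℕ)) v)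

theorem eD_mem (hc : (S * T) ^ 7 = 1) (hy : yw S T ^ 3 = 1) (hyz : yw S T * (S * T) = (S * T) ^ 2 * yw S T)
    (v : I27 → F) : eD σ S T v ∈ VD σ S T := by
  set c := S * T with hcd
  set y := yw S T with hyd
  have e0 : eD σ S T v = ∑ j : Fin 3, σ (y ^ (j : ℕ)) (∑ i : Fin 7, σ (c ^ (i : ℕ)) v) := by
    rw [eD_app]
    refine Finset.sum_congr rfl fun j _ => ?_
    rw [map_sum]
    refine Finset.sum_congr rfl fun i _ => ?_
    rw [map_mul]; rfl
  have hZ := sum7 (σ := σ) hc v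
  set Z := ∑ i : Fin 7, σ (c ^ (i : ℕ)) v with hZd
  have hA : c ^ 4 * y = y * c ^ 2 := by
    calc c ^ 4 * y = c ^ 2 * (c ^ 2 * y) := by rw [← mul_assoc, ← pow_add]
      _ = c ^ 2 * (y * c) := by rw [← hyz]
      _ = (c ^ 2 * y) * c := by rw [← mul_assoc]
      _ = y * c ^ 2 := by rw [← hyz, mul_assoc, ← sq]
  have e1 : c * y = y * c ^ 4 := by
    calc c * y = c ^ 8 * y := by rw [show c ^ 8 = c by rw [pow_succ, hc, one_mul]]
      _ = c ^ 4 * (c ^ 4 * y) := by rw [← mul_assoc, ← pow_add]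
      _ = c ^ 4 * (y * c ^ 2) := by rw [hA]
      _ = (c ^ 4 * y) * c ^ 2 := by rw [← mul_assoc]
      _ = y * c ^ 4 := by rw [hA, mul_assoc, ← pow_add]
  have e2 : c * y ^ 2 = y ^ 2 * c ^ 2 := by
    calc c * y ^ 2 = (c * y) * y := by rw [sq, ← mul_assoc c]
      _ = y * (c ^ 4 * y) := by rw [e1, mul_assoc]
      _ = y ^ 2 * c ^ 2 := by rw [hA, ← mul_assoc, ← sq]
  have e3 : eD σ S T v = Z + σ y Z + σ (y ^ 2) Z := by
    rw [e0, Fin.sum_univ_three]
    show σ (y ^ 0) Z + σ (y ^ 1) Z + σ (y ^ 2) Z = _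
    rw [pow_zero, pow_one, map_one]; rfl
  rw [mem_VD, e3]
  constructor
  · rw [map_add, map_add, ← Module.End.mul_apply, ← map_mul, ← Module.End.mul_apply, ← map_mul]
    have h0 : σ c Z = Z := by have := hZ 1; rwa [pow_one] at this
    rw [h0, ← hcd, e1, e2, map_mul, Module.End.mul_apply, hZ 4, map_mul, Module.End.mul_apply, hZ 2]
  · rw [map_add, map_add, ← Module.End.mul_apply, ← map_mul, ← Module.End.mul_apply, ← map_mul, ← hyd]
    rw [← sq, ← pow_succ', hy, map_one, Module.End.one_apply]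
    abel

theorem tf_sum_left {ι : Type*} (s : Finset ι) (u : ι → I27 → F) (y : I27 → F) :
    tf (∑ i ∈ s, u i) y = ∑ i ∈ s, tf (u i) y := by
  have h := map_sum ((tfB F).flip y) u s
  exact h

theorem tf_sum_right {ι : Type*} (s : Finset ι) (u : ι → I27 → F) (y : I27 → F) :
    tf y (∑ i ∈ s, u i) = ∑ i ∈ s, tf y (u i) := by
  have h := map_sum (tfB F y) u s
  exact h

/-- adjointness of `eD` -/
theorem tf_eD (h2 : (2 : F) = 0) (hP : PD σ σ') {d : I27 → F} (hd : d ∈ VD σ S T) (v : I27 → F) :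
    tf (eD σ' S T v) d = tf v d := by
  rw [mem_VD] at hd
  rw [eD_app, tf_sum_left]
  have h1 : ∀ (j : Fin 3) (i : Fin 7), tf (σ' (yw S T ^ (j : ℕ) * (S * T) ^ (i : ℕ)) v) d = tf v d := by
    intro j i
    have h3 : σ (yw S T ^ (j : ℕ) * (S * T) ^ (i : ℕ)) d = d := by
      rw [map_mul, Module.End.mul_apply, pow_fix hd.1, pow_fix hd.2]
    nth_rw 1 [← h3]
    rw [tf_comm, hP.htf, tf_comm]
  have h4 : ∀ j : Fin 3, tf (∑ i : Fin 7, σ' (yw S T ^ (j : ℕ) * (S * T) ^ (i : ℕ)) v) d = ∑ _i : Fin 7, tf v d := by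
    intro j
    rw [tf_sum_left]
    exact Finset.sum_congr rfl fun i _ => h1 j i
  rw [Finset.sum_congr rfl fun j _ => h4 j]
  simp only [Finset.sum_const, Finset.card_univ, Fintype.card_fin]
  rw [← mul_smul, ← Nat.cast_smul_eq_nsmul F]
  push_cast
  rw [smul_eq_mul]
  linear_combination (10 * tf v d) * h2

/-- the pairing of the lines fixed by the group of order 21 -/
theorem pair_VD (h : Dat ω σ σ' S T a) {d d' : I27 → F} (hd : d ∈ VD σ S T) (hd' : d' ∈ VD σ' S T) (h0 : d ≠ 0)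
    (h0' : d' ≠ 0) : tf d' d ≠ 0 := by
  intro h1
  apply h0
  refine tf_nondeg fun v => ?_
  rw [tf_comm, ← tf_eD h.h2 h.pd hd]
  have h2 : eD σ' S T v ∈ VD σ' S T := eD_mem h.ST7 h.y3 h.yz v
  have h3 : finrank F ↥(VD σ' S T) = 1 := by
    have h4 := h.half'.dimD
    have h5 : 0 < finrank F ↥(VD σ' S T) := by
      rw [Module.finrank_pos_iff_exists_ne_zero]
      exact ⟨⟨d', hd'⟩, fun h => h0' (congrArg Subtype.val h)⟩
    omega
  obtain ⟨c, hc⟩ := (finrank_eq_one_iff_of_nonzero' (⟨d', hd'⟩ : ↥(VD σ' S T))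
    (fun h => h0' (congrArg Subtype.val h))).1 h3 ⟨_, h2⟩
  have h4 : eD σ' S T v = c • d' := (congrArg Subtype.val hc).symm
  rw [h4, tf_smul_left, h1, mul_zero]

/-- the first vector of a family is fixed by `a` -/
theorem Fam.fix_a (hω : ω * ω = ω + 1) (h2 : (2 : F) = 0) (ha : ∀ v, σ (T * S * T⁻¹ * S⁻¹ * T) v = ω • σ a v)
    {f : Fin 21 → I27 → F} (hf : Fam ω σ S T f) : σ a (f 0) = f 0 := by
  have hω0 : ω ≠ 0 := by
    rintro rfl
    simp at hω
  have hω3 := Cfsg.Agent.H288.E6.S7B3.w3 h2 hω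
  have h1 : σ T (f 0) = f 6 := by
    rw [hf.t 0]
    show ω ^ 0 • f 6 = f 6
    rw [pow_zero, one_smul]
  have h3 : σ S⁻¹ (f 6) = f 10 := by
    have : σ S (f 10) = f 6 := hf.s 10
    rw [← this, inv_app]
  have h4 : σ T⁻¹ (f 10) = ω • f 5 := by
    have h5 : σ T (f 5) = ω ^ 2 • f 10 := hf.t 5
    have h6 : f 10 = ω • σ T (f 5) := by
      rw [h5, smul_smul, ← pow_succ', hω3, one_smul]
    rw [h6, map_smul, inv_app]
  have h7 : σ S (f 5) = f 1 := hf.s 5
  have h8 : σ T (f 1) = f 0 := by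
    rw [hf.t 1]
    show ω ^ 0 • f 0 = f 0
    rw [pow_zero, one_smul]
  have h9 := ha (f 0)
  simp only [mul_app] at h9
  rw [h1, h3, h4, map_smul, h7, map_smul, h8] at h9
  exact (smul_right_injective _ hω0 h9).symm

theorem Fam.memX (h2 : (2 : F) = 0) (hω : ω * ω = ω + 1) (hh : Half ω σ S T a)
    {f : Fin 21 → I27 → F} (hf : Fam ω σ S T f) : f 0 ∈ X σ S a :=
  mem_X.2 ⟨hf.s 0, hf.fix_a hω h2 hh.ha⟩

end
end Cfsg.Agent.H952.S7
end

-- part: H401/S7B1
section
/-!
# S5927, S5928: the threefold cover of `A₇`, characteristic 2: the Hecke operator (helper401, box B1 of helper952)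

* `fam_ext` : a family is determined by its vector number 0;
* `hm_fam`, `hm_fix`, `hm_eD` : the image of a family under the Hecke operator;
* `hfix` : a family whose vector number 0 is killed by `eD` is fixed by the Hecke operator.
-/

set_option autoImplicit false
set_option linter.unusedSectionVars false

namespace Cfsg.Agent.H401.S7B1

open Cfsg Cfsg.Lie Module
open Cfsg.Agent.ChevalleyStructure.E6Min.Tables
open Cfsg.Agent.H952.S7

universe u

/-! ### tables -/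

/-- inverse of `sp` -/
def spi : Fin 21 → Fin 21 :=
  ![0, 5, 1, 2, 3, 4, 10, 6, 7, 8, 9, 15, 11, 12, 13, 14, 20, 16, 17, 18, 19]

/-- inverse of `tp` -/
def tpi : Fin 21 → Fin 21 :=
  ![1, 6, 11, 16, 19, 15, 0, 2, 3, 4, 5, 7, 12, 13, 14, 10, 8, 17, 18, 9, 20]

/-- `ω ^ nt p` -/
def wt : Fin 21 → KF := fun p => KF.mk (([1, 2, 3] : List ℕ).getD (nt p) 0)

/-- `ω ^ (- nt p)` -/
def wt' : Fin 21 → KF := fun p => KF.mk (([1, 3, 2] : List ℕ).getD (nt p) 0)

def aS (c : Fin 21 → KF) : Fin 21 → KF := fun q => c (spi q)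
def aT (c : Fin 21 → KF) : Fin 21 → KF := fun q => c (tpi q) * wt (tpi q)
def aS' (c : Fin 21 → KF) : Fin 21 → KF := fun q => c (sp q)
def aT' (c : Fin 21 → KF) : Fin 21 → KF := fun q => c (tp q) * wt' q

def spE : Equiv.Perm (Fin 21) := ⟨sp, spi, by decide +kernel, by decide +kernel⟩
def tpE : Equiv.Perm (Fin 21) := ⟨tp, tpi, by decide +kernel, by decide +kernel⟩

/-- the vector number 0 -/
def e0 : Fin 21 → KF := fun q => if q = 0 then 1 else 0

/-- the action of `yw` -/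
def ay (c : Fin 21 → KF) : Fin 21 → KF := aT (aS' (aS' (aT' (aS' (aT (aS c))))))

def aST (c : Fin 21 → KF) : Fin 21 → KF := aS (aT c)

/-- `eD` of the vector number 0 -/
def r0 : Fin 21 → KF := fun q => KF.mk (([1, 1, 3, 1, 3, 1, 3, 1, 2, 1, 3, 3, 1, 1, 3, 3, 3, 2, 3, 1, 1] : List ℕ).getD q 0)

private noncomputable def _root_.Cfsg.Agent.LsF.fce2ea8_23 : {f // @Cfsg.Agent.H401.S7B1.tpi = f} := ⟨_, by first | (delta Cfsg.Agent.H401.S7B1.tpi; rewrite [Cfsg.Agent.LsF.vecCons_eq]; exact rfl) | exact rfl⟩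
private noncomputable def _root_.Cfsg.Agent.LsF.fce2ea8_24 : {f // @Cfsg.Agent.H401.S7B1.wt = f} := ⟨_, by first | (delta Cfsg.Agent.H401.S7B1.wt; rewrite [Cfsg.Agent.LsF.fce2ea8_6.2, Cfsg.Agent.LsF.getD_eq]; exact rfl) | exact rfl⟩
private noncomputable def _root_.Cfsg.Agent.LsF.fce2ea8_25 : {f // @Cfsg.Agent.H401.S7B1.aT = f} := ⟨_, by first | (delta Cfsg.Agent.H401.S7B1.aT; rewrite [Cfsg.Agent.LsF.fce2ea8_11.2, Cfsg.Agent.LsF.fce2ea8_23.2, Cfsg.Agent.LsF.fce2ea8_24.2]; exact rfl) | exact rfl⟩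
private noncomputable def _root_.Cfsg.Agent.LsF.fce2ea8_26 : {f // @Cfsg.Agent.H401.S7B1.aS' = f} := ⟨_, by first | (delta Cfsg.Agent.H401.S7B1.aS'; rewrite [Cfsg.Agent.LsF.fce2ea8_2.2]; exact rfl) | exact rfl⟩
private noncomputable def _root_.Cfsg.Agent.LsF.fce2ea8_27 : {f // @Cfsg.Agent.H401.S7B1.wt' = f} := ⟨_, by first | (delta Cfsg.Agent.H401.S7B1.wt'; rewrite [Cfsg.Agent.LsF.fce2ea8_6.2, Cfsg.Agent.LsF.getD_eq]; exact rfl) | exact rfl⟩
private noncomputable def _root_.Cfsg.Agent.LsF.fce2ea8_28 : {f // @Cfsg.Agent.H401.S7B1.aT' = f} := ⟨_, by first | (delta Cfsg.Agent.H401.S7B1.aT'; rewrite [Cfsg.Agent.LsF.fce2ea8_11.2, Cfsg.Agent.LsF.fce2ea8_4.2, Cfsg.Agent.LsF.fce2ea8_27.2]; exact rfl) | exact rfl⟩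
private noncomputable def _root_.Cfsg.Agent.LsF.fce2ea8_29 : {f // @Cfsg.Agent.H401.S7B1.spi = f} := ⟨_, by first | (delta Cfsg.Agent.H401.S7B1.spi; rewrite [Cfsg.Agent.LsF.vecCons_eq]; exact rfl) | exact rfl⟩
private noncomputable def _root_.Cfsg.Agent.LsF.fce2ea8_30 : {f // @Cfsg.Agent.H401.S7B1.aS = f} := ⟨_, by first | (delta Cfsg.Agent.H401.S7B1.aS; rewrite [Cfsg.Agent.LsF.fce2ea8_29.2]; exact rfl) | exact rfl⟩
private noncomputable def _root_.Cfsg.Agent.LsF.fce2ea8_31 : {f // @Cfsg.Agent.H401.S7B1.ay = f} := ⟨_, by first | (delta Cfsg.Agent.H401.S7B1.ay; rewrite [Cfsg.Agent.LsF.fce2ea8_25.2, Cfsg.Agent.LsF.fce2ea8_26.2, Cfsg.Agent.LsF.fce2ea8_28.2, Cfsg.Agent.LsF.fce2ea8_30.2]; exact rfl) | exact rfl⟩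
private noncomputable def _root_.Cfsg.Agent.LsF.fce2ea8_32 : {f // @Cfsg.Agent.H401.S7B1.aST = f} := ⟨_, by first | (delta Cfsg.Agent.H401.S7B1.aST; rewrite [Cfsg.Agent.LsF.fce2ea8_30.2, Cfsg.Agent.LsF.fce2ea8_25.2]; exact rfl) | exact rfl⟩
private noncomputable def _root_.Cfsg.Agent.LsF.fce2ea8_33 : {f // @Cfsg.Agent.H401.S7B1.e0 = f} := ⟨_, by first | (delta Cfsg.Agent.H401.S7B1.e0; rewrite [Cfsg.Agent.LsF.dFinEq_eq, Cfsg.Agent.LsF.ite_eq]; exact rfl) | exact rfl⟩
private noncomputable def _root_.Cfsg.Agent.LsF.fce2ea8_34 : {f // @Cfsg.Agent.H401.S7B1.r0 = f} := ⟨_, by first | (delta Cfsg.Agent.H401.S7B1.r0; rewrite [Cfsg.Agent.LsF.getD_eq]; exact rfl) | exact rfl⟩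
theorem r0_eq : ∀ q, ∑ j : Fin 3, ∑ i : Fin 7, (ay^[(j : ℕ)] (aST^[(i : ℕ)] e0)) q = r0 q := by (refine of_decide_eq_true ?_; (try (rewrite [Cfsg.Agent.LsF.sumF_pat, Cfsg.Agent.LsF.sumF_pat, Cfsg.Agent.LsF.fce2ea8_31.2, Cfsg.Agent.LsF.fce2ea8_32.2, Cfsg.Agent.LsF.fce2ea8_33.2, Cfsg.Agent.LsF.fce2ea8_34.2, Cfsg.Agent.LsF.fce2ea8_10.2, Cfsg.Agent.LsF.iterate_eq, Cfsg.Agent.LsF.dForallFin_eq, Cfsg.Agent.LsF.decide_eq])); decide +kernel)

/-- the Hecke operator as a function -/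
def hm : Fin 21 → Fin 21 → KF := Hm

/-- `T S T⁻¹ S⁻¹ T` of `r0` etc. -/
def c0 : Fin 21 → KF := fun q =>
  KF.mk 3 * aT (aS (aT' (aS' (aT r0)))) q + KF.mk 3 * aT (aS (aT (aS' (aT r0)))) q + KF.mk 2 * aT' (aS' (aT' r0)) q

private noncomputable def _root_.Cfsg.Agent.LsF.fce2ea8_12 : {f // @Cfsg.Agent.H952.S7.KF.instAdd = f} := ⟨_, by first | (delta Cfsg.Agent.H952.S7.KF.instAdd; rewrite [Cfsg.Agent.LsF.nxor_pat]; exact rfl) | exact rfl⟩
private noncomputable def _root_.Cfsg.Agent.LsF.fce2ea8_35 : {f // @Cfsg.Agent.H401.S7B1.c0 = f} := ⟨_, by first | (delta Cfsg.Agent.H401.S7B1.c0; rewrite [Cfsg.Agent.LsF.fce2ea8_12.2, Cfsg.Agent.LsF.fce2ea8_11.2, Cfsg.Agent.LsF.fce2ea8_25.2, Cfsg.Agent.LsF.fce2ea8_30.2, Cfsg.Agent.LsF.fce2ea8_28.2, Cfsg.Agent.LsF.fce2ea8_26.2, Cfsg.Agent.LsF.fce2ea8_34.2]; exact rfl) | exact rfl⟩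
private noncomputable def _root_.Cfsg.Agent.LsF.fce2ea8_36 : {f // @Cfsg.Agent.H401.S7B1.hm = f} := ⟨_, by first | (delta Cfsg.Agent.H401.S7B1.hm; rewrite [Cfsg.Agent.LsF.fce2ea8_8.2]; exact rfl) | exact rfl⟩
theorem c0_eq : ∀ q, ∑ i : Fin 5, (aS^[(i : ℕ)] c0) q = e0 q + hm 0 q := by (refine of_decide_eq_true ?_; (try (rewrite [Cfsg.Agent.LsF.sumF_pat, Cfsg.Agent.LsF.fce2ea8_30.2, Cfsg.Agent.LsF.fce2ea8_35.2, Cfsg.Agent.LsF.fce2ea8_12.2, Cfsg.Agent.LsF.fce2ea8_33.2, Cfsg.Agent.LsF.fce2ea8_36.2, Cfsg.Agent.LsF.fce2ea8_10.2, Cfsg.Agent.LsF.iterate_eq, Cfsg.Agent.LsF.dForallFin_eq, Cfsg.Agent.LsF.decide_eq])); decide +kernel)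

theorem r0_Hm : ∀ q, ∑ p, r0 p * hm p q = 0 := by (refine of_decide_eq_true ?_; (try (rewrite [Cfsg.Agent.LsF.sumF_pat, Cfsg.Agent.LsF.fce2ea8_11.2, Cfsg.Agent.LsF.fce2ea8_34.2, Cfsg.Agent.LsF.fce2ea8_36.2, Cfsg.Agent.LsF.fce2ea8_10.2, Cfsg.Agent.LsF.dForallFin_eq, Cfsg.Agent.LsF.decide_eq])); decide +kernel)

theorem Hm_Hm : ∀ p q, ∑ k, hm p k * hm k q = hm p q := by (refine of_decide_eq_true ?_; (try (rewrite [Cfsg.Agent.LsF.sumF_pat, Cfsg.Agent.LsF.fce2ea8_11.2, Cfsg.Agent.LsF.fce2ea8_36.2, Cfsg.Agent.LsF.fce2ea8_10.2, Cfsg.Agent.LsF.dForallFin_eq, Cfsg.Agent.LsF.decide_eq])); decide +kernel)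

theorem Hm_sp : ∀ p q, hm (sp p) (sp q) = hm p q := by (refine of_decide_eq_true ?_; (try (rewrite [Cfsg.Agent.LsF.fce2ea8_36.2, Cfsg.Agent.LsF.fce2ea8_2.2, Cfsg.Agent.LsF.fce2ea8_10.2, Cfsg.Agent.LsF.dForallFin_eq, Cfsg.Agent.LsF.decide_eq])); decide +kernel)

theorem Hm_tp : ∀ p q, hm p q * wt q = wt p * hm (tp p) (tp q) := by (refine of_decide_eq_true ?_; (try (rewrite [Cfsg.Agent.LsF.fce2ea8_11.2, Cfsg.Agent.LsF.fce2ea8_36.2, Cfsg.Agent.LsF.fce2ea8_24.2, Cfsg.Agent.LsF.fce2ea8_4.2, Cfsg.Agent.LsF.fce2ea8_10.2, Cfsg.Agent.LsF.dForallFin_eq, Cfsg.Agent.LsF.decide_eq])); decide +kernel)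

/-! ### linear combinations -/

section lin

variable {F : Type u} [Field F] {ω : F} {M : Type*} [AddCommGroup M] [Module F M]

theorem io_wt (hω : ω * ω = ω + 1) (p : Fin 21) : KF.io ω (wt p) = ω ^ nt p := by
  have h1 : ∀ p : Fin 21, nt p = 0 ∨ nt p = 1 ∨ nt p = 2 := by decide
  unfold wt
  rcases h1 p with h | h | h <;> rw [h]
  · show KF.io ω 1 = ω ^ 0
    rw [KF.io_one, pow_zero]
  · show KF.io ω (KF.mk 2) = ω ^ 1
    rw [KF.io_two, pow_one]
  · show KF.io ω (KF.mk 3) = ω ^ 2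
    rw [KF.io_three, pow_two, hω, add_comm]

theorem wt_wt' (p : Fin 21) : wt' p * wt p = 1 := by
  revert p
  decide

theorem lin_add (h2 : (2 : F) = 0) (c d : Fin 21 → KF) (v : Fin 21 → M) :
    lin ω (fun q => c q + d q) v = lin ω c v + lin ω d v := by
  unfold lin
  rw [← Finset.sum_add_distrib]
  exact Finset.sum_congr rfl fun i _ => by rw [KF.io_add h2, add_smul]

theorem lin_mul (h2 : (2 : F) = 0) (hω : ω * ω = ω + 1) (k : KF) (c : Fin 21 → KF) (v : Fin 21 → M) :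
    lin ω (fun q => k * c q) v = KF.io ω k • lin ω c v := by
  unfold lin
  rw [Finset.smul_sum]
  exact Finset.sum_congr rfl fun i _ => by rw [KF.io_mul h2 hω, mul_smul]

theorem lin_zero (v : Fin 21 → M) : lin ω (fun _ => (0 : KF)) v = 0 := by
  unfold lin
  exact Finset.sum_eq_zero fun i _ => by rw [KF.io_zero, zero_smul]

theorem lin_sum (h2 : (2 : F) = 0) {ι : Type*} (s : Finset ι) (c : ι → Fin 21 → KF) (v : Fin 21 → M) :
    lin ω (fun q => ∑ i ∈ s, c i q) v = ∑ i ∈ s, lin ω (c i) v := by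
  classical
  induction s using Finset.induction_on with
  | empty =>
    rw [Finset.sum_empty]
    exact lin_zero v
  | insert a s ha ih =>
    rw [Finset.sum_insert ha, ← ih, ← lin_add h2]
    congr 1
    funext q
    rw [Finset.sum_insert ha]

theorem lin_e0 (v : Fin 21 → M) : lin ω e0 v = v 0 := by
  unfold lin e0
  rw [Finset.sum_eq_single 0]
  · rw [if_pos rfl, KF.io_one, one_smul]
  · intro j _ hj
    rw [if_neg hj, KF.io_zero, zero_smul]
  · intro h; exact absurd (Finset.mem_univ _) h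

theorem lin_lin (h2 : (2 : F) = 0) (hω : ω * ω = ω + 1) (c : Fin 21 → KF) (d : Fin 21 → Fin 21 → KF) (v : Fin 21 → M) :
    lin ω c (fun p => lin ω (d p) v) = lin ω (fun q => ∑ p, c p * d p q) v := by
  rw [lin_sum h2]
  unfold lin
  refine Finset.sum_congr rfl fun p _ => ?_
  rw [Finset.smul_sum]
  exact Finset.sum_congr rfl fun q _ => by rw [KF.io_mul h2 hω, mul_smul]

end lin

section act

variable {F : Type u} [Field F] {ω : F} {G : Type*} [Group G] {σ : Representation F G (I27 → F)} {S T : G}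
  {v f g : Fin 21 → I27 → F}

/-- action on linear combinations -/
def Im (ω : F) (σ : Representation F G (I27 → F)) (v : Fin 21 → I27 → F) (g : G) (A : (Fin 21 → KF) → Fin 21 → KF) : Prop :=
  ∀ c, σ g (lin ω c v) = lin ω (A c) v

theorem app_mul (g h : G) (x : I27 → F) : σ (g * h) x = σ g (σ h x) := by rw [map_mul]; rfl

theorem app_one (x : I27 → F) : σ 1 x = x := by rw [map_one]; rfl

theorem Im.mul {g h : G} {A B : (Fin 21 → KF) → Fin 21 → KF} (hA : Im ω σ v g A) (hB : Im ω σ v h B) :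
    Im ω σ v (g * h) (fun c => A (B c)) := by
  intro c
  rw [app_mul, hB, hA]

theorem Im.pow {g : G} {A : (Fin 21 → KF) → Fin 21 → KF} (hA : Im ω σ v g A) (n : ℕ) : Im ω σ v (g ^ n) (A^[n]) := by
  induction n with
  | zero =>
    intro c
    rw [pow_zero, app_one]
    rfl
  | succ n ih =>
    intro c
    rw [pow_succ', app_mul, ih, hA, Function.iterate_succ_apply']

theorem Im.inv {g : G} {A B : (Fin 21 → KF) → Fin 21 → KF} (hA : Im ω σ v g A) (hAB : ∀ c, A (B c) = c) :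
    Im ω σ v g⁻¹ B := by
  intro c
  have h1 := hA (B c)
  rw [hAB] at h1
  rw [← h1, ← app_mul, inv_mul_cancel, app_one]

theorem im_S (hv : Fam ω σ S T v) : Im ω σ v S aS := by
  intro c
  unfold lin aS
  rw [map_sum]
  refine Eq.trans ?_ (Equiv.sum_comp spE _)
  refine Finset.sum_congr rfl fun p _ => ?_
  have h1 : spi (spE p) = p := spE.symm_apply_apply p
  rw [map_smul, hv.s, h1]
  rfl

theorem im_T (h2 : (2 : F) = 0) (hω : ω * ω = ω + 1) (hv : Fam ω σ S T v) : Im ω σ v T aT := by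
  intro c
  unfold lin aT
  rw [map_sum]
  refine Eq.trans ?_ (Equiv.sum_comp tpE _)
  refine Finset.sum_congr rfl fun p _ => ?_
  have h1 : tpi (tpE p) = p := tpE.symm_apply_apply p
  rw [map_smul, hv.t, h1, KF.io_mul h2 hω, io_wt hω, mul_smul]
  rfl

theorem im_S' (hv : Fam ω σ S T v) : Im ω σ v S⁻¹ aS' := by
  refine (im_S hv).inv fun c => ?_
  funext q
  show c (sp (spi q)) = c q
  rw [show sp (spi q) = q from spE.apply_symm_apply q]

theorem im_T' (h2 : (2 : F) = 0) (hω : ω * ω = ω + 1) (hv : Fam ω σ S T v) : Im ω σ v T⁻¹ aT' := by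
  refine (im_T h2 hω hv).inv fun c => ?_
  funext q
  show c (tp (tpi q)) * wt' (tpi q) * wt (tpi q) = c q
  rw [show tp (tpi q) = q from tpE.apply_symm_apply q, mul_assoc, wt_wt', mul_one]

theorem im_yw (h2 : (2 : F) = 0) (hω : ω * ω = ω + 1) (hv : Fam ω σ S T v) : Im ω σ v (yw S T) ay :=
  ((((((im_T h2 hω hv).mul (im_S' hv)).mul (im_S' hv)).mul (im_T' h2 hω hv)).mul (im_S' hv)).mul
    (im_T h2 hω hv)).mul (im_S hv)

theorem im_ST (h2 : (2 : F) = 0) (hω : ω * ω = ω + 1) (hv : Fam ω σ S T v) : Im ω σ v (S * T) aST :=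
  (im_S hv).mul (im_T h2 hω hv)

/-- `eD` of the vector number 0 -/
theorem eD_zero (h2 : (2 : F) = 0) (hω : ω * ω = ω + 1) (hv : Fam ω σ S T v) : eD σ S T (v 0) = lin ω r0 v := by
  have h1 : r0 = fun q => ∑ j : Fin 3, ∑ i : Fin 7, (ay^[(j : ℕ)] (aST^[(i : ℕ)] e0)) q := funext fun q => (r0_eq q).symm
  rw [h1, lin_sum h2]
  unfold eD
  rw [LinearMap.sum_apply]
  refine Finset.sum_congr rfl fun j _ => ?_
  rw [lin_sum h2, LinearMap.sum_apply]
  refine Finset.sum_congr rfl fun i _ => ?_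
  have h3 := ((im_yw h2 hω hv).pow (j : ℕ)).mul ((im_ST h2 hω hv).pow (i : ℕ)) e0
  rw [lin_e0] at h3
  exact h3

theorem omega_ne (hω : ω * ω = ω + 1) : ω ≠ 0 := by
  rintro rfl
  simp at hω

/-- uniqueness of families -/
theorem fam_ext (hω : ω * ω = ω + 1) (hf : Fam ω σ S T f) (h0 : f 0 = 0) : ∀ p, f p = 0 := by
  have hs : ∀ p q, sp p = q → f p = 0 → f q = 0 := by
    rintro p _ rfl hp
    rw [← hf.s, hp, map_zero]
  have ht : ∀ p q, tp p = q → f p = 0 → f q = 0 := by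
    rintro p _ rfl hp
    have h1 := hf.t p
    rw [hp, map_zero] at h1
    exact (smul_eq_zero.1 h1.symm).resolve_left (pow_ne_zero _ (omega_ne hω))
  have h6 := ht 0 6 (by decide) h0
  have h7 := hs 6 7 (by decide) h6
  have h8 := hs 7 8 (by decide) h7
  have h9 := hs 8 9 (by decide) h8
  have h10 := hs 9 10 (by decide) h9
  have h1 := ht 6 1 (by decide) h6
  have h2 := hs 1 2 (by decide) h1
  have h3 := hs 2 3 (by decide) h2
  have h4 := hs 3 4 (by decide) h3
  have h5 := hs 4 5 (by decide) h4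
  have h11 := ht 7 11 (by decide) h7
  have h12 := hs 11 12 (by decide) h11
  have h13 := hs 12 13 (by decide) h12
  have h14 := hs 13 14 (by decide) h13
  have h15 := hs 14 15 (by decide) h14
  have h16 := ht 8 16 (by decide) h8
  have h17 := hs 16 17 (by decide) h16
  have h18 := hs 17 18 (by decide) h17
  have h19 := hs 18 19 (by decide) h18
  have h20 := hs 19 20 (by decide) h19
  intro p
  fin_cases p <;> assumption

theorem fam_sub (hf : Fam ω σ S T f) (hg : Fam ω σ S T g) : Fam ω σ S T fun p => f p - g p where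
  s p := by rw [map_sub, hf.s, hg.s]
  t p := by rw [map_sub, hf.t, hg.t, smul_sub]

theorem fam_eq (hω : ω * ω = ω + 1) (hf : Fam ω σ S T f) (hg : Fam ω σ S T g) (h0 : f 0 = g 0) : ∀ p, f p = g p :=
  fun p => sub_eq_zero.1 (fam_ext hω (fam_sub hf hg) (sub_eq_zero.2 h0) p)

/-- the Hecke operator commutes -/
theorem hm_fam (h2 : (2 : F) = 0) (hω : ω * ω = ω + 1) (hv : Fam ω σ S T v) :
    Fam ω σ S T fun p => lin ω (hm p) v where
  s p := by
    rw [im_S hv]
    congr 1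
    funext q
    show hm p (spi q) = hm (sp p) q
    rw [← Hm_sp, show sp (spi q) = q from spE.apply_symm_apply q]
  t p := by
    rw [im_T h2 hω hv, ← io_wt hω, ← lin_mul h2 hω]
    congr 1
    funext q
    show hm p (tpi q) * wt (tpi q) = wt p * hm (tp p) q
    rw [Hm_tp, show tp (tpi q) = q from tpE.apply_symm_apply q]

theorem hm_fix (h2 : (2 : F) = 0) (hω : ω * ω = ω + 1) (v : Fin 21 → I27 → F) : HFix ω fun p => lin ω (hm p) v := by
  intro p
  show lin ω (hm p) v = lin ω (hm p) fun p => lin ω (hm p) v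
  rw [lin_lin h2 hω]
  congr 1
  exact funext fun q => (Hm_Hm p q).symm

theorem hm_eD (h2 : (2 : F) = 0) (hω : ω * ω = ω + 1) (hv : Fam ω σ S T v) : eD σ S T (lin ω (hm 0) v) = 0 := by
  have h1 := eD_zero h2 hω (hm_fam h2 hω hv)
  rw [h1, lin_lin h2 hω]
  have h3 : (fun q => ∑ p, r0 p * hm p q) = fun _ => (0 : KF) := funext r0_Hm
  rw [h3, lin_zero]

/-- **B1** -/
theorem hfix (h2 : (2 : F) = 0) (hω : ω * ω = ω + 1) (hv : Fam ω σ S T v) (hD : eD σ S T (v 0) = 0) : HFix ω v := by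
  have hr : lin ω r0 v = 0 := by rw [← eD_zero h2 hω hv, hD]
  have i1 := ((((im_T h2 hω hv).mul (im_S hv)).mul (im_T' h2 hω hv)).mul (im_S' hv)).mul (im_T h2 hω hv) r0
  have i2 := ((((im_T h2 hω hv).mul (im_S hv)).mul (im_T h2 hω hv)).mul (im_S' hv)).mul (im_T h2 hω hv) r0
  have i3 := ((im_T' h2 hω hv).mul (im_S' hv)).mul (im_T' h2 hω hv) r0
  rw [hr, map_zero] at i1 i2 i3
  have hc : lin ω c0 v = 0 := by
    have h3 : c0 = fun q => (KF.mk 3 * aT (aS (aT' (aS' (aT r0)))) q + KF.mk 3 * aT (aS (aT (aS' (aT r0)))) q) +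
      KF.mk 2 * aT' (aS' (aT' r0)) q := rfl
    rw [h3, lin_add h2, lin_add h2, lin_mul h2 hω, lin_mul h2 hω, lin_mul h2 hω, ← i1, ← i2, ← i3, smul_zero, smul_zero,
      add_zero, add_zero]
  have h4 : lin ω (fun q => e0 q + hm 0 q) v = 0 := by
    have h5 : (fun q => e0 q + hm 0 q) = fun q => ∑ i : Fin 5, (aS^[(i : ℕ)] c0) q := funext fun q => (c0_eq q).symm
    rw [h5, lin_sum h2]
    refine Finset.sum_eq_zero fun i _ => ?_
    rw [← (im_S hv).pow (i : ℕ) c0, hc, map_zero]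
  rw [lin_add h2, lin_e0] at h4
  refine fam_eq hω hv (hm_fam h2 hω hv) ?_
  have h6 : lin ω (hm 0) v + lin ω (hm 0) v = 0 := by rw [← two_smul F, h2, zero_smul]
  calc v 0 = v 0 + (lin ω (hm 0) v + lin ω (hm 0) v) := by rw [h6, add_zero]
    _ = (v 0 + lin ω (hm 0) v) + lin ω (hm 0) v := by abel
    _ = lin ω (hm 0) v := by rw [h4, zero_add]

/-- `hm_fam` in terms of `Hm` -/
theorem Hm_fam (h2 : (2 : F) = 0) (hω : ω * ω = ω + 1) (hv : Fam ω σ S T v) :
    Fam ω σ S T fun p => lin ω (Hm p) v := hm_fam h2 hω hv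

theorem Hm_fix (h2 : (2 : F) = 0) (hω : ω * ω = ω + 1) (v : Fin 21 → I27 → F) : HFix ω fun p => lin ω (Hm p) v :=
  hm_fix h2 hω v

theorem Hm_eD (h2 : (2 : F) = 0) (hω : ω * ω = ω + 1) (hv : Fam ω σ S T v) : eD σ S T (lin ω (Hm 0) v) = 0 :=
  hm_eD h2 hω hv

end act

end Cfsg.Agent.H401.S7B1
end

-- part: H952/S7/B5
section
/-!
# Threefold cover of `A₇`, characteristic 2: the contradiction (helper952)
-/

set_option autoImplicit false

namespace Cfsg.Agent.H952.S7

open Cfsg Cfsg.Lie Module Matrix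
open Cfsg.Agent.ChevalleyStructure.E6Min.Tables
open Cfsg.Agent.H952.F4 (ev es sh cr tf)
open Cfsg.Agent.H952.F4.Jord
open Cfsg.Agent.H163.E6 (TS)
open Cfsg.Agent.H905.E6T
open Cfsg.Agent.H288.E6.S7B3
open Cfsg.Agent.H401.S7B1 (Hm_fam Hm_fix Hm_eD hfix eD_zero lin_lin)

universe u v

section
variable {F : Type u} [Field F] {G : Type*} [Group G] {ω : F} {σ σ' : Representation F G (I27 → F)} {S T a : G}

theorem dead (h : Dat ω σ σ' S T a) {x : Fin 21 → I27 → F} (hx : Fam ω σ S T x) (hH : HFix ω x) (h0 : x 0 ≠ 0)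
    (hD : eD σ' S T (sh (x 0)) = 0) : False :=
  dead' h hx hH h0 (hfix h.h2 (w2 h.h2 h.hω) (fam_sh h.pd hx) hD)

theorem lin_tf_right (w : I27 → F) (c : Fin 21 → KF) (v : Fin 21 → I27 → F) :
    tf w (lin ω c v) = ∑ q, KF.io ω (c q) * tf w (v q) := by
  unfold lin
  rw [tf_sum_right]
  exact Finset.sum_congr rfl fun q _ => by rw [tf_smul_right]

theorem lin_tf_left (w : I27 → F) (c : Fin 21 → KF) (v : Fin 21 → I27 → F) :
    tf (lin ω c v) w = ∑ q, KF.io ω (c q) * tf (v q) w := by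
  unfold lin
  rw [tf_sum_left]
  exact Finset.sum_congr rfl fun q _ => by rw [tf_smul_left]

theorem HH (p q : Fin 21) : ∑ k, Hm p k * Hm k q = Hm p q := Cfsg.Agent.H401.S7B1.Hm_Hm p q

theorem Hconj : ∀ p q : Fin 21, Hm p q * Hm p q = Hm q p := by (refine of_decide_eq_true ?_; (try (rewrite [Cfsg.Agent.LsF.fce2ea8_11.2, Cfsg.Agent.LsF.fce2ea8_8.2, Cfsg.Agent.LsF.fce2ea8_10.2, Cfsg.Agent.LsF.dForallFin_eq, Cfsg.Agent.LsF.decide_eq])); decide +kernel)

theorem io_HH (h2 : (2 : F) = 0) (hω : ω * ω = ω + 1) (p q : Fin 21) :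
    ∑ k, KF.io ω (Hm p k) * KF.io ω (Hm k q) = KF.io ω (Hm p q) := by
  rw [← HH p q]
  show _ = KF.iota h2 hω _
  rw [map_sum]
  exact Finset.sum_congr rfl fun k _ => (map_mul (KF.iota h2 hω) _ _).symm

theorem io_conj (h2 : (2 : F) = 0) (hω : ω * ω = ω + 1) (p q : Fin 21) : KF.io (ω ^ 2) (Hm p q) = KF.io ω (Hm q p) := by
  rw [io_sq h2, ← Hconj p q, sq]
  exact (map_mul (KF.iota h2 hω) _ _).symm

/-- adjointness of the Hecke operators -/
theorem adj (h2 : (2 : F) = 0) (hω : ω * ω = ω + 1) {u s : Fin 21 → I27 → F} {α β : F}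
    (hg : ∀ p q, tf (s p) (u q) = α * (if p = q then 1 else 0) + β * KF.io ω (Hm q p)) (i j : Fin 21) :
    tf (lin (ω ^ 2) (Hm i) s) (u j) = (α + β) * KF.io ω (Hm j i) ∧ tf (s i) (lin ω (Hm j) u) = (α + β) * KF.io ω (Hm j i) := by
  constructor
  · rw [lin_tf_left]
    simp only [hg, io_conj h2 hω, mul_add, Finset.sum_add_distrib, mul_ite, mul_one, mul_zero,
      Finset.sum_ite_eq', Finset.mem_univ, if_true]
    have h1 : ∑ q, KF.io ω (Hm q i) * (β * KF.io ω (Hm j q)) = β * KF.io ω (Hm j i) := by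
      rw [← io_HH h2 hω j i, Finset.mul_sum]
      exact Finset.sum_congr rfl fun q _ => by ring
    rw [h1]; ring
  · rw [lin_tf_right]
    simp only [hg, mul_add, Finset.sum_add_distrib, mul_ite, mul_one, mul_zero,
      Finset.sum_ite_eq, Finset.mem_univ, if_true]
    have h1 : ∑ q, KF.io ω (Hm j q) * (β * KF.io ω (Hm q i)) = β * KF.io ω (Hm j i) := by
      rw [← io_HH h2 hω j i, Finset.mul_sum]
      exact Finset.sum_congr rfl fun q _ => by ring
    rw [h1]; ring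

theorem lin_add_right {M : Type*} [AddCommGroup M] [Module F M] (c : Fin 21 → KF) (v w : Fin 21 → M) :
    lin ω c (fun p => v p + w p) = lin ω c v + lin ω c w := by
  unfold lin
  rw [← Finset.sum_add_distrib]
  exact Finset.sum_congr rfl fun i _ => by rw [smul_add]

theorem self_add (h2 : (2 : F) = 0) {M : Type*} [AddCommGroup M] [Module F M] (m : M) : m + m = 0 := by
  rw [← two_smul F m, h2, zero_smul]

/-- `1 + H` -/
theorem onePlus (h2 : (2 : F) = 0) (hω : ω * ω = ω + 1) {v : Fin 21 → I27 → F} (hv : Fam ω σ S T v) :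
    Fam ω σ S T (fun p => v p + lin ω (Hm p) v) ∧ (∀ p, lin ω (Hm p) (fun p => v p + lin ω (Hm p) v) = 0) ∧
      eD σ S T (v 0 + lin ω (Hm 0) v) = eD σ S T (v 0) := by
  have h1 := Hm_fam h2 hω hv
  refine ⟨⟨fun p => ?_, fun p => ?_⟩, fun p => ?_, ?_⟩
  · show σ S (v p + lin ω (Hm p) v) = v (sp p) + lin ω (Hm (sp p)) v
    rw [map_add, hv.s, h1.s p]
  · show σ T (v p + lin ω (Hm p) v) = _ • (v (tp p) + lin ω (Hm (tp p)) v)
    rw [map_add, hv.t, h1.t p, smul_add]
  · rw [lin_add_right, ← Hm_fix h2 hω v p, self_add h2]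
  · rw [map_add, Hm_eD h2 hω hv, add_zero]

/-- the family of the products -/
theorem fam_cr (hP : PD σ σ') {x u : Fin 21 → I27 → F} (hx : Fam ω σ S T x) (hu : Fam ω σ S T u) :
    Fam (ω ^ 2) σ' S T (fun p => cr (x p) (u p)) where
  s p := by
    show σ' S (cr (x p) (u p)) = cr (x (sp p)) (u (sp p))
    rw [← hP.hcr, hx.s, hu.s]
  t p := by
    show σ' T (cr (x p) (u p)) = (ω ^ 2) ^ nt p • cr (x (tp p)) (u (tp p))
    rw [← hP.hcr, hx.t, hu.t, cr_smul_left, cr_smul_right, smul_smul]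
    congr 1
    ring

/-- right hand sides -/
def Rm (p : Fin 21) : KF :=
  ((if p = 0 then 1 else 0) + Hm 0 p) + ∑ j : Fin 6, Am p j * Am p j * ((if bas j = 0 then 1 else 0) + Hm 0 (bas j))

/-- the constant -/
def kap : KF := ∑ p, Bm 0 p * Rm p

theorem kap_unit : kap * kap * kap = 1 := by decide +kernel

theorem io_kap (h2 : (2 : F) = 0) (hω : ω * ω = ω + 1) : KF.io ω kap ≠ 0 := by
  intro h
  have h1 := congrArg (KF.io ω) kap_unit
  rw [KF.io_mul h2 hω, h, mul_zero, KF.io_one] at h1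
  exact zero_ne_one h1

theorem io_delta (p q : Fin 21) : KF.io ω (if p = q then 1 else 0) = if p = q then 1 else 0 := by
  split_ifs
  · exact KF.io_one
  · exact KF.io_zero

theorem io_sum (h2 : (2 : F) = 0) (hω : ω * ω = ω + 1) {ι : Type*} (s : Finset ι) (c : ι → KF) :
    KF.io ω (∑ i ∈ s, c i) = ∑ i ∈ s, KF.io ω (c i) :=
  map_sum (KF.iota h2 hω) c s

/-- the cubic relation -/
theorem cub (h2 : (2 : F) = 0) (hω : ω * ω = ω + 1) {x : Fin 21 → I27 → F} (hH : HFix ω x) {u : I27 → F} {α : F}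
    (hg : ∀ p, tf (sh (x p)) u = α * ((if p = 0 then 1 else 0) + KF.io ω (Hm 0 p))) :
    tf (cr (x 0) (x 11)) u = α * KF.io ω kap := by
  have h1 : ∀ p : Fin 21, ∑ m : Fin 15, KF.io ω (Cm p m) * tf (cr (x (bas (pj m))) (x (bas (pk m)))) u =
      α * KF.io ω (Rm p) := by
    intro p
    have a2 := sh_six (fun j => KF.io ω (Am p j)) (fun j => x (bas j))
    rw [← HFix.coord h2 hω hH p] at a2
    have a3 := congrArg (fun v => tf v u) a2
    simp only [tf_add_left, tf_sum_left, tf_smul_left, hg] at a3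
    have a4 : ∑ m : Fin 15, KF.io ω (Cm p m) * tf (cr (x (bas (pj m))) (x (bas (pk m)))) u =
        ∑ m : Fin 15, KF.io ω (Am p (pj m)) * KF.io ω (Am p (pk m)) * tf (cr (x (bas (pj m))) (x (bas (pk m)))) u := by
      refine Finset.sum_congr rfl fun m _ => ?_
      rw [show KF.io ω (Cm p m) = KF.io ω (Am p (pj m)) * KF.io ω (Am p (pk m)) from KF.io_mul h2 hω _ _]
    have a5 : KF.io ω (Rm p) = ((if p = 0 then 1 else 0) + KF.io ω (Hm 0 p)) +
        ∑ j : Fin 6, KF.io ω (Am p j) ^ 2 * ((if bas j = 0 then 1 else 0) + KF.io ω (Hm 0 (bas j))) := by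
      unfold Rm
      rw [KF.io_add h2, KF.io_add h2, io_sum h2 hω, io_delta]
      congr 1
      refine Finset.sum_congr rfl fun j _ => ?_
      rw [KF.io_mul h2 hω, KF.io_mul h2 hω, KF.io_add h2, io_delta, sq]
    have a6 : ∑ j : Fin 6, KF.io ω (Am p j) ^ 2 * (α * ((if bas j = 0 then 1 else 0) + KF.io ω (Hm 0 (bas j)))) =
        α * ∑ j : Fin 6, KF.io ω (Am p j) ^ 2 * ((if bas j = 0 then 1 else 0) + KF.io ω (Hm 0 (bas j))) := by
      rw [Finset.mul_sum]
      exact Finset.sum_congr rfl fun j _ => by ring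
    rw [a4, a5]
    rw [a6] at a3
    linear_combination -a3 - (α * ∑ j : Fin 6, KF.io ω (Am p j) ^ 2 *
      ((if bas j = 0 then 1 else 0) + KF.io ω (Hm 0 (bas j)))) * h2
  have h3 : ∀ m : Fin 15, ∑ p, KF.io ω (Bm 0 p) * KF.io ω (Cm p m) = if m = 0 then 1 else 0 := by
    intro m
    have b1 : (Bm * Cm) 0 m = (1 : Matrix (Fin 15) (Fin 15) KF) 0 m := by rw [Bm_Cm]
    rw [Matrix.mul_apply, Matrix.one_apply] at b1
    have b2 := congrArg (KF.io ω) b1
    rw [io_sum h2 hω] at b2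
    have b3 : KF.io ω (if (0 : Fin 15) = m then (1 : KF) else 0) = if m = 0 then 1 else 0 := by
      by_cases hm : m = 0
      · rw [if_pos hm.symm, if_pos hm, KF.io_one]
      · rw [if_neg (Ne.symm hm), if_neg hm, KF.io_zero]
    rw [b3] at b2
    rw [← b2]
    exact Finset.sum_congr rfl fun p _ => (KF.io_mul h2 hω _ _).symm
  have h4 : ∑ p, KF.io ω (Bm 0 p) * (∑ m : Fin 15, KF.io ω (Cm p m) * tf (cr (x (bas (pj m))) (x (bas (pk m)))) u) =
      α * KF.io ω kap := by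
    simp only [h1]
    unfold kap
    rw [io_sum h2 hω, Finset.mul_sum]
    exact Finset.sum_congr rfl fun p _ => by rw [KF.io_mul h2 hω]; ring
  rw [← h4]
  simp only [Finset.mul_sum]
  rw [Finset.sum_comm]
  have h5 : ∀ m : Fin 15, ∑ p, KF.io ω (Bm 0 p) * (KF.io ω (Cm p m) * tf (cr (x (bas (pj m))) (x (bas (pk m)))) u) =
      (if m = 0 then 1 else 0) * tf (cr (x (bas (pj m))) (x (bas (pk m)))) u := by
    intro m
    rw [← h3 m, Finset.sum_mul]
    exact Finset.sum_congr rfl fun p _ => by ring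
  simp only [h5]
  simp only [ite_mul, one_mul, zero_mul, Finset.sum_ite_eq', Finset.mem_univ, if_true]
  rfl

end
end Cfsg.Agent.H952.S7
end

-- part: H952/S7/B6
section
/-!
# Threefold cover of `A₇`, characteristic 2: the contradiction (helper952)
-/

set_option autoImplicit false

namespace Cfsg.Agent.H952.S7

open Cfsg Cfsg.Lie Module Matrix
open Cfsg.Agent.ChevalleyStructure.E6Min.Tables
open Cfsg.Agent.H952.F4 (ev es sh cr tf)
open Cfsg.Agent.H952.F4.Jord
open Cfsg.Agent.H163.E6 (TS)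
open Cfsg.Agent.H905.E6T
open Cfsg.Agent.H288.E6.S7B3
open Cfsg.Agent.H401.S7B1 (Hm_fam Hm_fix Hm_eD hfix eD_zero lin_lin r0)

universe u v

section
variable {F : Type u} [Field F] {G : Type*} [Group G] {ω : F} {σ σ' : Representation F G (I27 → F)} {S T a : G}

/-- a subspace of dimension at most 2 with a nonzero vector in the kernel of `D` and one outside -/
theorem span_pair {V : Type*} [AddCommGroup V] [Module F V] {M : Submodule F V} [FiniteDimensional F M] {x u : V}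
    (D : V →ₗ[F] V) (hx : x ∈ M) (hu : u ∈ M) (x0 : x ≠ 0) (hDx : D x = 0) (hDu : D u ≠ 0) (hM : finrank F M ≤ 2) :
    M = Submodule.span F {x, u} := by
  have hli : LinearIndependent F ![x, u] := by
    rw [LinearIndependent.pair_iff]
    intro s t h
    have h1 := congrArg D h
    rw [map_add, map_smul, map_smul, hDx, smul_zero, zero_add, map_zero] at h1
    have ht := (smul_eq_zero.1 h1).resolve_right hDu
    rw [ht, zero_smul, add_zero] at h
    exact ⟨(smul_eq_zero.1 h).resolve_right x0, ht⟩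
  have h1 := finrank_span_eq_card hli
  rw [Matrix.range_cons, Matrix.range_cons, Matrix.range_empty, Set.union_empty, Set.singleton_union,
    Fintype.card_fin] at h1
  have h2 : Submodule.span F {x, u} ≤ M := by
    rw [Submodule.span_le]
    rintro v (rfl | rfl)
    · exact hx
    · exact hu
  exact (Submodule.eq_of_le_of_finrank_le h2 (by omega)).symm

/-- the vectors `v` of `X` with `eD v = 0` -/
theorem prop_of (h : Dat ω σ σ' S T a) (hsq : ∀ c : F, ∃ d, d ^ 2 = c) {x y : I27 → F} (hx : x ∈ X σ S a)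
    (hy : y ∈ X σ S a) (hex : eD σ S T x = 0) (hey : eD σ S T y = 0) (x0 : x ≠ 0) : ∃ c : F, c • x = y := by
  have h2 := h.h2
  have hω := h.hω
  obtain ⟨f, rfl, hf⟩ := h.half.fam x (mem_X.1 hx).1 (mem_X.1 hx).2
  obtain ⟨g, rfl, hg⟩ := h.half.fam y (mem_X.1 hy).1 (mem_X.1 hy).2
  have hfH := hfix h2 hω hf hex
  have hgH := hfix h2 hω hg hey
  have hD : ∀ v, eD σ' S T v ∈ VD σ' S T := eD_mem h.ST7 h.y3 h.yz
  have hcr := eD_cr h hf hg hfH hgH hD
  set P := eD σ' S T (sh (f 0)) with hP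
  set Q := eD σ' S T (sh (g 0)) with hQ
  have h3 : ∃ a' b' : F, (a' ≠ 0 ∨ b' ≠ 0) ∧ a' • P + b' • Q = 0 := by
    by_cases hP0 : P = 0
    · exact ⟨1, 0, Or.inl one_ne_zero, by rw [hP0, smul_zero, zero_smul, add_zero]⟩
    have h4 : finrank F ↥(VD σ' S T) = 1 := by
      have h5 := h.half'.dimD
      have h6 : 0 < finrank F ↥(VD σ' S T) := by
        rw [Module.finrank_pos_iff_exists_ne_zero]
        exact ⟨⟨P, hD _⟩, fun h => hP0 (congrArg Subtype.val h)⟩
      omega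
    obtain ⟨c, hc⟩ := (finrank_eq_one_iff_of_nonzero' (⟨P, hD _⟩ : ↥(VD σ' S T))
      (fun h => hP0 (congrArg Subtype.val h))).1 h4 ⟨Q, hD _⟩
    have h5 : c • P = Q := congrArg Subtype.val hc
    exact ⟨-c, 1, Or.inr one_ne_zero, by rw [← h5, one_smul, neg_smul, neg_add_cancel]⟩
  obtain ⟨a', b', hab, h4⟩ := h3
  obtain ⟨a1, rfl⟩ := hsq a'
  obtain ⟨b1, rfl⟩ := hsq b'
  have h5 : a1 • f 0 + b1 • g 0 = 0 := by
    by_contra hv0
    have hv : a1 • f 0 + b1 • g 0 ∈ X σ S a := Submodule.add_mem _ (Submodule.smul_mem _ _ hx) (Submodule.smul_mem _ _ hy)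
    have hev : eD σ S T (a1 • f 0 + b1 • g 0) = 0 := by
      rw [map_add, map_smul, map_smul, hex, hey, smul_zero, smul_zero, add_zero]
    obtain ⟨k, hk0, hk⟩ := h.half.fam _ (mem_X.1 hv).1 (mem_X.1 hv).2
    rw [← hk0] at hv0 hev
    refine dead h hk (hfix h2 hω hk hev) hv0 ?_
    rw [hk0, sh_add, sh_smul, sh_smul, cr_smul_left, cr_smul_right, map_add, map_add, map_smul, map_smul, map_smul,
      map_smul, hcr, smul_zero, smul_zero, add_zero]
    exact h4
  by_cases hb : b1 = 0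
  · exfalso
    rw [hb, zero_smul, add_zero] at h5
    have ha := (smul_eq_zero.1 h5).resolve_right x0
    rcases hab with h6 | h6
    · exact h6 (by rw [ha]; ring)
    · exact h6 (by rw [hb]; ring)
  · refine ⟨-(b1⁻¹ * a1), ?_⟩
    have h6 : b1⁻¹ • (a1 • f 0 + b1 • g 0) = 0 := by rw [h5, smul_zero]
    rw [smul_add, smul_smul, smul_smul, inv_mul_cancel₀ hb, one_smul] at h6
    rw [neg_smul]
    exact neg_eq_of_add_eq_zero_right h6

/-- the restriction of `eD` to `X` -/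
theorem dim_X (h : Dat ω σ σ' S T a) (hsq : ∀ c : F, ∃ d, d ^ 2 = c) :
    finrank F ↥(X σ S a) ≤ 2 ∧ (finrank F ↥(X σ S a) = 2 → (∃ x ∈ X σ S a, x ≠ 0 ∧ eD σ S T x = 0) ∧
      ∃ u ∈ X σ S a, eD σ S T u ≠ 0) := by
  let φ : ↥(X σ S a) →ₗ[F] ↥(VD σ S T) :=
    ((eD σ S T).codRestrict (VD σ S T) (eD_mem h.ST7 h.y3 h.yz)) ∘ₗ (X σ S a).subtype
  have h1 := LinearMap.finrank_range_add_finrank_ker φ
  have h2 : finrank F (LinearMap.range φ) ≤ 1 := (Submodule.finrank_le _).trans h.half.dimD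
  have hk : ∀ v : ↥(X σ S a), v ∈ LinearMap.ker φ ↔ eD σ S T v = 0 := by
    intro v
    rw [LinearMap.mem_ker]
    exact ⟨fun h => congrArg Subtype.val h, fun h => Subtype.ext h⟩
  have h3 : finrank F (LinearMap.ker φ) ≤ 1 := by
    by_cases h4 : LinearMap.ker φ = ⊥
    · rw [h4, finrank_bot]; omega
    · obtain ⟨x, hxk, hx0⟩ := Submodule.exists_mem_ne_zero_of_ne_bot h4
      refine finrank_le_one (⟨x, hxk⟩ : ↥(LinearMap.ker φ)) fun w => ?_
      obtain ⟨w, hwk⟩ := w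
      obtain ⟨c, hc⟩ := prop_of h hsq x.2 w.2 ((hk x).1 hxk) ((hk w).1 hwk) (fun h => hx0 (Subtype.ext h))
      exact ⟨c, Subtype.ext (Subtype.ext hc)⟩
  refine ⟨by omega, fun h4 => ⟨?_, ?_⟩⟩
  · have h5 : LinearMap.ker φ ≠ ⊥ := by
      intro h6
      rw [h6, finrank_bot] at h1
      omega
    obtain ⟨x, hxk, hx0⟩ := Submodule.exists_mem_ne_zero_of_ne_bot h5
    exact ⟨x, x.2, fun h => hx0 (Subtype.ext h), (hk x).1 hxk⟩
  · by_contra hne
    push Not at hne
    have h5 : LinearMap.ker φ = ⊤ := by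
      rw [eq_top_iff]
      intro v _
      exact (hk v).2 ((hne v v.2 :))
    rw [h5, finrank_top] at h3
    omega

/-- the case `dim X = 2` -/
theorem no_two (h : Dat ω σ σ' S T a) (hsq : ∀ c : F, ∃ d, d ^ 2 = c) (hX : finrank F ↥(X σ S a) = 2) : False := by
  have h2 := h.h2
  have hω := h.hω
  have h2' := w2 h2 hω
  obtain ⟨⟨x0, hx0, hx00, hex⟩, u0, hu0, heu⟩ := (dim_X h hsq).2 hX
  obtain ⟨x, rfl, hx⟩ := h.half.fam x0 (mem_X.1 hx0).1 (mem_X.1 hx0).2
  have hH := hfix h2 hω hx hex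
  obtain ⟨u', rfl, hu'⟩ := h.half.fam u0 (mem_X.1 hu0).1 (mem_X.1 hu0).2
  obtain ⟨hu, hHu, heu'⟩ := onePlus h2 hω hu'
  rw [← heu'] at heu
  set u : Fin 21 → I27 → F := fun p => u' p + lin ω (Hm p) u' with hud
  have heu1 : eD σ S T (u 0) ≠ 0 := heu
  have hs := fam_sh h.pd hx
  set s : Fin 21 → I27 → F := fun p => sh (x p) with hsd
  obtain ⟨hp, hHp, hep⟩ := onePlus h2 h2' hs
  set p : Fin 21 → I27 → F := fun i => s i + lin (ω ^ 2) (Hm i) s with hpd
  have hep1 : eD σ' S T (p 0) ≠ 0 := by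
    intro h0
    exact dead h hx hH hx00 (hep.symm.trans h0)
  have hz := fam_cr h.pd hx hu
  set z : Fin 21 → I27 → F := fun i => cr (x i) (u i) with hzd
  have hy := Hm_fam h2 h2' hz
  have hyH : HFix (ω ^ 2) (fun i => lin (ω ^ 2) (Hm i) z) := Hm_fix h2 h2' z
  have hey : eD σ' S T (lin (ω ^ 2) (Hm 0) z) = 0 := Hm_eD h2 h2' hz
  set y : Fin 21 → I27 → F := fun i => lin (ω ^ 2) (Hm i) z with hyd
  have e11 : KF.io ω (Hm 11 0) ≠ 0 := by
    rw [show Hm 11 0 = KF.mk 3 by decide +kernel, KF.io_three]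
    intro h0
    have h3 : ω = -1 := by linear_combination h0
    rw [h3] at hω
    have : (1 : F) = 0 := by linear_combination hω
    exact one_ne_zero this
  -- `p` and `x`
  have hpx : ∀ i j, tf (p i) (x j) = 0 := by
    obtain ⟨α, β, hg⟩ := _root_.Cfsg.Agent.H288.E6.S7B3.gram h2 hω h.pd hx hp
    intro i j
    obtain ⟨h3, h4⟩ := adj h2 hω hg i j
    rw [hHp i, tf_zero_left] at h3
    rw [← hH j, ← h3] at h4
    exact h4
  -- `y` and `u`
  have hyu : ∀ i j, tf (y i) (u j) = 0 := by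
    obtain ⟨α, β, hg⟩ := _root_.Cfsg.Agent.H288.E6.S7B3.gram h2 hω h.pd hu hy
    intro i j
    obtain ⟨h3, h4⟩ := adj h2 hω hg i j
    rw [hHu j, tf_comm, tf_zero_left] at h4
    rw [← hyH i, ← h4] at h3
    exact h3
  -- `y` and `x`
  obtain ⟨β', hyx⟩ : ∃ β' : F, ∀ i j, tf (y i) (x j) = β' * KF.io ω (Hm j i) := by
    obtain ⟨α, β, hg⟩ := _root_.Cfsg.Agent.H288.E6.S7B3.gram h2 hω h.pd hx hy
    refine ⟨α + β, fun i j => ?_⟩
    have h3 := (adj h2 hω hg i j).1
    rw [← hyH i] at h3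
    exact h3
  -- `s` and `u`
  obtain ⟨α, hsu⟩ : ∃ α : F, ∀ i j, tf (s i) (u j) = α * ((if i = j then 1 else 0) + KF.io ω (Hm j i)) := by
    obtain ⟨α, β, hg⟩ := _root_.Cfsg.Agent.H288.E6.S7B3.gram h2 hω h.pd hu hs
    have h3 := (adj h2 hω hg 0 11).2
    rw [hHu 11, tf_comm, tf_zero_left] at h3
    have h4 := (mul_eq_zero.1 h3.symm).resolve_right e11
    refine ⟨α, fun i j => ?_⟩
    rw [hg, show β = α by linear_combination h4 - α * h2]
    ring
  -- `p` and `u`
  have hpu : ∀ i j, tf (p i) (u j) = α * ((if i = j then 1 else 0) + KF.io ω (Hm j i)) := by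
    intro i j
    obtain ⟨α1, β1, hg⟩ := _root_.Cfsg.Agent.H288.E6.S7B3.gram h2 hω h.pd hu hs
    obtain ⟨h3, h4⟩ := adj h2 hω hg i j
    rw [hHu j, tf_comm, tf_zero_left] at h4
    rw [hpd]
    show tf (s i + lin (ω ^ 2) (Hm i) s) (u j) = _
    rw [tf_add_left, h3, ← h4, add_zero, hsu]
  have hα : α ≠ 0 := by
    rintro rfl
    have h3 := pair_VD h (eD_mem h.ST7 h.y3 h.yz (u 0)) (eD_mem h.ST7 h.y3 h.yz (p 0)) heu1 hep1
    apply h3
    rw [tf_eD h2 h.pd (eD_mem h.ST7 h.y3 h.yz (u 0)), eD_zero h2 hω hu, lin_tf_right]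
    refine Finset.sum_eq_zero fun q _ => ?_
    rw [hpu, zero_mul, mul_zero]
  have hβ : β' ≠ 0 := by
    rintro rfl
    obtain ⟨α1, β1, hg⟩ := _root_.Cfsg.Agent.H288.E6.S7B3.gram h2 hω h.pd hx hz
    obtain ⟨h3, h4⟩ := adj h2 hω hg 0 11
    rw [← hH 11, ← h3] at h4
    have h5 : tf (y 0) (x 11) = 0 := by rw [hyx, zero_mul]
    have h6 : tf (z 0) (x 11) = 0 := h4.trans h5
    have h7 := cub h2 hω hH (u := u 0) (α := α) (fun q => by rw [← hsu q 0])
    have h8 : tf (cr (x 0) (x 11)) (u 0) = 0 := by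
      rw [cr_comm, tf_cr, tf_comm]
      exact h6
    rw [h8] at h7
    exact (mul_ne_zero hα (io_kap h2 hω)) h7.symm
  -- `X` and `X'`
  have hy0 : y 0 ≠ 0 := by
    intro h0
    have h3 := hyx 0 11
    rw [h0, tf_zero_left] at h3
    exact mul_ne_zero hβ e11 h3.symm
  have hXe : X σ S a = Submodule.span F {x 0, u 0} :=
    span_pair (eD σ S T) hx0 (hu.memX h2 hω h.half) hx00 hex heu1 hX.le
  have hXe' : X σ' S a = Submodule.span F {y 0, p 0} :=
    span_pair (eD σ' S T) (hy.memX h2 h2' h.half') (hp.memX h2 h2' h.half') hy0 hey hep1 (dim_X h.symm hsq).1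
  exact Cfsg.Agent.H911.S7.rstep h hx hu hy hp hα hβ (H := fun j q => KF.io ω (Hm j q))
    (H' := fun j q => KF.io (ω ^ 2) (Hm j q)) hpu hyx hpx hyu (fun j => (hH j).symm) hHu (fun j => (hyH j).symm) hHp
    hXe hXe'

/-- the contradiction -/
theorem Dat.false (h : Dat ω σ σ' S T a) (hsq : ∀ c : F, ∃ d, d ^ 2 = c) : False := by
  have h1 := (dim_X h hsq).1
  have h2 := (dim_X h.symm hsq).1
  have h3 := h.dimX
  by_cases h4 : finrank F ↥(X σ S a) = 2
  · exact no_two h hsq h4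
  · exact no_two h.symm hsq (by omega)

end
end Cfsg.Agent.H952.S7
end

private theorem dce_c88fd7b6aafe : _root_.True := by
  try have : _root_.True := by simp only [_root_.Cfsg.Agent.H952.S7.B4.act2.eq_1]
  try have : _root_.True := by simp only [_root_.Cfsg.Agent.H952.S7.yw.eq_1]
  try have : _root_.True := by simp only [_root_.Cfsg.Agent.H952.S7.KF.iota.congr_simp]
  exact _root_.True.intro
end

-- part: H905/E6T/SevenKill
section
set_option linter.all false
open scoped Cfsg.Agent.FastGrp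

-- part: H905/E6T/Fam
section
/-!
# S5927, characteristic 2: equivariant families of vectors (helper905)

* `io`, `ct_io`, `exists_io` : the embedding `A_m → A_n` on the first `m` points;
* `move` : transitivity of `A_n` on `k`-tuples, `k ≤ n - 2`;
* `Fam`, `Fam2`, `exists_fam`, `exists_fam2`, `fam_const`, `fam_sum`, `fam_rel` : families indexed by points or pairs;
* `par_zero` : cancellation in characteristic 2 by parity of codes.
-/

set_option autoImplicit false
set_option linter.unusedSectionVars false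
set_option linter.unusedSimpArgs false

namespace Cfsg.Agent.H905.E6T

open Cfsg Cfsg.Lie Module Equiv
open Cfsg.Agent.ChevalleyStructure.E6Min.Tables
open Cfsg.Agent.H952.F4 (ev es sh cr tf tr1 u0)
open Cfsg.Agent.H952.F4.Jord Cfsg.Agent.H163.E6

universe u

variable {F : Type u} [Field F]

/-! ### the alternating groups -/

/-- `A_m → A_n` on the first `m` points -/
noncomputable abbrev io {m n : ℕ} (h : m ≤ n) : ↥(alternatingGroup (Fin m)) →* ↥(alternatingGroup (Fin n)) :=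
  Cfsg.Agent.H191.AltElts.embAlt h

theorem io_coe {m n : ℕ} (h : m ≤ n) (g : ↥(alternatingGroup (Fin m))) : ((io h g : ↥(alternatingGroup (Fin n))) :
    Perm (Fin n)) = (g : Perm (Fin m)).extendDomain (Equiv.ofInjective (Fin.castLE h) (Fin.castLE_injective h)) := rfl

theorem ct_io {m n : ℕ} (h : m ≤ n) (g : ↥(alternatingGroup (Fin m))) :
    ((io h g : ↥(alternatingGroup (Fin n))) : Perm (Fin n)).cycleType = (g : Perm (Fin m)).cycleType := by
  rw [io_coe, Perm.cycleType_extendDomain]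

theorem io_apply {m n : ℕ} (h : m ≤ n) (g : ↥(alternatingGroup (Fin m))) (i : Fin m) :
    ((io h g : ↥(alternatingGroup (Fin n))) : Perm (Fin n)) (Fin.castLE h i) = Fin.castLE h ((g : Perm (Fin m)) i) := by
  rw [io_coe]
  exact Perm.extendDomain_apply_image _ _ i

theorem io_apply_ge {m n : ℕ} (h : m ≤ n) (g : ↥(alternatingGroup (Fin m))) (i : Fin n) (hi : m ≤ i.val) :
    ((io h g : ↥(alternatingGroup (Fin n))) : Perm (Fin n)) i = i := by
  rw [io_coe]
  apply Perm.extendDomain_apply_not_subtype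
  rintro ⟨j, rfl⟩
  have := j.2
  simp at hi
  omega

theorem exists_io {m n : ℕ} (h : m ≤ n) (g : ↥(alternatingGroup (Fin n)))
    (hg : ∀ i : Fin n, m ≤ i.val → (g : Perm (Fin n)) i = i) : ∃ g', io h g' = g := by
  have hp : ∀ x : Fin n, (g : Perm (Fin n)) x ∈ Set.range (Fin.castLE h) ↔ x ∈ Set.range (Fin.castLE h) := by
    have hr : ∀ x : Fin n, x ∈ Set.range (Fin.castLE h) ↔ x.val < m := by
      intro x
      rw [Fin.range_castLE]
      rfl
    intro x
    rw [hr, hr]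
    constructor
    · intro h1
      by_contra h2
      rw [hg x (by omega)] at h1
      omega
    · intro h1
      by_contra h2
      have h3 := hg ((g : Perm (Fin n)) x) (by omega)
      have h4 := (g : Perm (Fin n)).injective h3
      rw [h4] at h2
      omega
  set f : Fin m ≃ Set.range (Fin.castLE h) := Equiv.ofInjective (Fin.castLE h) (Fin.castLE_injective h) with hf
  set e : Perm (Fin m) := (f.trans ((g : Perm (Fin n)).subtypePerm hp)).trans f.symm with he
  have h1 : e.extendDomain f = g := by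
    ext x
    by_cases hx : x ∈ Set.range (Fin.castLE h)
    · rw [Perm.extendDomain_apply_subtype e f hx, he]
      simp
    · rw [Perm.extendDomain_apply_not_subtype e f hx, hg]
      rw [Fin.range_castLE] at hx
      exact Nat.le_of_not_lt hx
  refine ⟨⟨e, ?_⟩, Subtype.ext h1⟩
  rw [Perm.mem_alternatingGroup, ← Perm.sign_extendDomain e f, h1]
  exact Perm.mem_alternatingGroup.1 g.2

/-- transitivity on tuples -/
theorem move {n k : ℕ} (hn : k + 2 ≤ n) (x y : Fin k ↪ Fin n) :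
    ∃ g : ↥(alternatingGroup (Fin n)), ∀ i, (g : Perm (Fin n)) (x i) = y i := by
  have h1 := alternatingGroup.isMultiplyPretransitive (Fin n)
  rw [Nat.card_eq_fintype_card, Fintype.card_fin] at h1
  have h2 : MulAction.IsMultiplyPretransitive ↥(alternatingGroup (Fin n)) (Fin n) k :=
    MulAction.isMultiplyPretransitive_of_le (n := n - 2) (by omega)
      (by rw [Nat.card_eq_fintype_card, Fintype.card_fin]; omega)
  rw [MulAction.isMultiplyPretransitive_iff] at h2
  obtain ⟨g, hg⟩ := h2 x y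
  exact ⟨g, fun i => DFunLike.congr_fun hg i⟩

theorem move1 {n : ℕ} (hn : 3 ≤ n) (a b : Fin n) : ∃ g : ↥(alternatingGroup (Fin n)), (g : Perm (Fin n)) a = b := by
  obtain ⟨g, hg⟩ := move (k := 1) hn ⟨fun _ => a, fun i j _ => Subsingleton.elim i j⟩
    ⟨fun _ => b, fun i j _ => Subsingleton.elim i j⟩
  exact ⟨g, hg 0⟩

theorem inj_two {n : ℕ} {a b : Fin n} (h : a ≠ b) : Function.Injective ![a, b] := by
  intro i j hij
  fin_cases i <;> fin_cases j <;> simp_all

theorem inj_three {n : ℕ} {a b c : Fin n} (h1 : a ≠ b) (h2 : a ≠ c) (h3 : b ≠ c) : Function.Injective ![a, b, c] := by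
  intro i j hij
  fin_cases i <;> fin_cases j <;> simp_all

theorem inj_four {n : ℕ} {a b c d : Fin n} (h1 : a ≠ b) (h2 : a ≠ c) (h3 : a ≠ d) (h4 : b ≠ c) (h5 : b ≠ d)
    (h6 : c ≠ d) : Function.Injective ![a, b, c, d] := by
  intro i j hij
  fin_cases i <;> fin_cases j <;> simp_all

theorem move2 {n : ℕ} (hn : 4 ≤ n) {a b c d : Fin n} (hab : a ≠ b) (hcd : c ≠ d) :
    ∃ g : ↥(alternatingGroup (Fin n)), (g : Perm (Fin n)) a = c ∧ (g : Perm (Fin n)) b = d := by
  obtain ⟨g, hg⟩ := move (k := 2) hn ⟨![a, b], inj_two hab⟩ ⟨![c, d], inj_two hcd⟩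
  exact ⟨g, hg 0, hg 1⟩

theorem move3 {n : ℕ} (hn : 5 ≤ n) {a b c a' b' c' : Fin n} (h1 : a ≠ b) (h2 : a ≠ c) (h3 : b ≠ c)
    (h1' : a' ≠ b') (h2' : a' ≠ c') (h3' : b' ≠ c') :
    ∃ g : ↥(alternatingGroup (Fin n)), (g : Perm (Fin n)) a = a' ∧ (g : Perm (Fin n)) b = b' ∧
      (g : Perm (Fin n)) c = c' := by
  obtain ⟨g, hg⟩ := move (k := 3) hn ⟨![a, b, c], inj_three h1 h2 h3⟩ ⟨![a', b', c'], inj_three h1' h2' h3'⟩
  exact ⟨g, hg 0, hg 1, hg 2⟩

theorem move4 {n : ℕ} (hn : 6 ≤ n) {a b c d a' b' c' d' : Fin n} (h1 : a ≠ b) (h2 : a ≠ c) (h3 : a ≠ d) (h4 : b ≠ c)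
    (h5 : b ≠ d) (h6 : c ≠ d) (h1' : a' ≠ b') (h2' : a' ≠ c') (h3' : a' ≠ d') (h4' : b' ≠ c')
    (h5' : b' ≠ d') (h6' : c' ≠ d') :
    ∃ g : ↥(alternatingGroup (Fin n)), (g : Perm (Fin n)) a = a' ∧ (g : Perm (Fin n)) b = b' ∧
      (g : Perm (Fin n)) c = c' ∧ (g : Perm (Fin n)) d = d' := by
  obtain ⟨g, hg⟩ := move (k := 4) hn ⟨![a, b, c, d], inj_four h1 h2 h3 h4 h5 h6⟩
    ⟨![a', b', c', d'], inj_four h1' h2' h3' h4' h5' h6'⟩
  exact ⟨g, hg 0, hg 1, hg 2, hg 3⟩

/-- homomorphisms of `A_n` to commutative groups are trivial -/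
theorem hom_eq_one {n : ℕ} (hn : 5 ≤ n) {C : Type*} [CommGroup C] (χ : ↥(alternatingGroup (Fin n)) →* C)
    (g : ↥(alternatingGroup (Fin n))) : χ g = 1 := by
  have h1 : commutator ↥(alternatingGroup (Fin n)) = ⊤ :=
    commutator_alternatingGroup_eq_top (by rw [Nat.card_eq_fintype_card, Fintype.card_fin]; exact hn)
  have h2 : commutator ↥(alternatingGroup (Fin n)) ≤ χ.ker := Abelianization.commutator_subset_ker χ
  rw [h1] at h2
  exact h2 (Subgroup.mem_top g)

/-! ### cancellation in characteristic 2 -/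

theorem par_aux {ι M : Type*} [AddCommGroup M] [Module F M] (code : ι → ℕ) (N : ℕ) (f : ι → M) (r : ℕ → M)
    (hr : ∀ x, r (code x) = f x) (hN : ∀ x, code x < N) (L : List ι) :
    (L.map f).sum = ∑ k ∈ Finset.range N, ((L.countP (fun x => code x == k) : ℕ) : F) • r k := by
  induction L with
  | nil => simp
  | cons x L ih =>
    rw [List.map_cons, List.sum_cons, ih]
    have h1 : ∀ k ∈ Finset.range N, (((x :: L).countP (fun x => code x == k) : ℕ) : F) • r k =
        (if k = code x then r k else 0) + ((L.countP (fun x => code x == k) : ℕ) : F) • r k := by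
      intro k _
      rw [List.countP_cons]
      by_cases h : code x = k
      · simp [h, add_smul, add_comm]
      · have h' : ¬ k = code x := fun e => h e.symm
        simp [h, h']
    rw [Finset.sum_congr rfl h1, Finset.sum_add_distrib, Finset.sum_ite_eq', if_pos (Finset.mem_range.2 (hN x)), hr]

/-- a sum in which all codes `≠ 0` occur an even number of times is zero -/
theorem par_zero (h2 : (2 : F) = 0) {ι M : Type*} [AddCommGroup M] [Module F M] (code : ι → ℕ) (N : ℕ) (f : ι → M)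
    (hf : ∀ x y, code x = code y → f x = f y) (h0 : ∀ x, code x = 0 → f x = 0) (hN : ∀ x, code x < N) (L : List ι)
    (hL : ∀ k < N, k = 0 ∨ L.countP (fun x => code x == k) % 2 = 0) : (L.map f).sum = 0 := by
  classical
  let r : ℕ → M := fun k => if h : ∃ x, code x = k then f h.choose else 0
  have hr : ∀ x, r (code x) = f x := by
    intro x
    have h : ∃ y, code y = code x := ⟨x, rfl⟩
    simp only [r, dif_pos h]
    exact hf _ _ h.choose_spec
  rw [par_aux (F := F) code N f r hr hN L]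
  apply Finset.sum_eq_zero
  intro k hk
  rcases hL k (Finset.mem_range.1 hk) with rfl | h
  · have : r 0 = 0 := by
      by_cases h : ∃ x, code x = 0
      · simp only [r, dif_pos h]
        exact h0 _ h.choose_spec
      · simp only [r, dif_neg h]
    rw [this, smul_zero]
  · obtain ⟨m, hm⟩ := Nat.dvd_of_mod_eq_zero h
    rw [hm, Nat.cast_mul, Nat.cast_ofNat, h2, zero_mul, zero_smul]

/-! ### families -/

section Families

variable {n : ℕ} (σ : Representation F ↥(alternatingGroup (Fin n)) (I27 → F))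

/-- equivariant families of vectors -/
def Fam (v : Fin n → I27 → F) : Prop :=
  ∀ (g : ↥(alternatingGroup (Fin n))) (i : Fin n), σ g (v i) = v ((g : Perm (Fin n)) i)

/-- equivariant families of vectors indexed by pairs, symmetric, zero on the diagonal -/
structure Fam2 (w : Fin n → Fin n → I27 → F) : Prop where
  act : ∀ (g : ↥(alternatingGroup (Fin n))) (i j : Fin n), σ g (w i j) = w ((g : Perm (Fin n)) i) ((g : Perm (Fin n)) j)
  comm : ∀ i j, w i j = w j i
  diag : ∀ i, w i i = 0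

variable {σ}

theorem exists_fam (hn : 3 ≤ n) (k : Fin n) (x : I27 → F)
    (hx : ∀ g : ↥(alternatingGroup (Fin n)), (g : Perm (Fin n)) k = k → σ g x = x) : ∃ v, Fam σ v ∧ v k = x := by
  choose t ht using fun i : Fin n => move1 hn k i
  have key : ∀ (g : ↥(alternatingGroup (Fin n))) (i : Fin n), (g : Perm (Fin n)) k = i → σ g x = σ (t i) x := by
    intro g i hg
    have h1 := hx ((t i)⁻¹ * g) (by
      rw [Subgroup.coe_mul, Perm.mul_apply, hg, Subgroup.coe_inv, Perm.inv_eq_iff_eq, ht])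
    rw [mul_app] at h1
    rw [← app_inv (σ := σ) (t i) (σ g x), h1]
  refine ⟨fun i => σ (t i) x, ?_, ?_⟩
  · intro g i
    change σ g (σ (t i) x) = σ (t ((g : Perm (Fin n)) i)) x
    rw [← mul_app]
    exact key _ _ (by rw [Subgroup.coe_mul, Perm.mul_apply, ht])
  · change σ (t k) x = x
    exact hx _ (ht k)

theorem exists_fam2 (hn : 4 ≤ n) {k l : Fin n} (hkl : k ≠ l) (x : I27 → F)
    (hx : ∀ g : ↥(alternatingGroup (Fin n)), ((g : Perm (Fin n)) k = k ∧ (g : Perm (Fin n)) l = l) ∨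
      ((g : Perm (Fin n)) k = l ∧ (g : Perm (Fin n)) l = k) → σ g x = x) :
    ∃ w, Fam2 σ w ∧ w k l = x := by
  classical
  have hm : ∀ i j : Fin n, ∃ g : ↥(alternatingGroup (Fin n)), i ≠ j →
      (g : Perm (Fin n)) k = i ∧ (g : Perm (Fin n)) l = j := by
    intro i j
    by_cases h : i = j
    · exact ⟨1, fun h' => absurd h h'⟩
    · obtain ⟨g, hg⟩ := move2 hn hkl h
      exact ⟨g, fun _ => hg⟩
  choose t ht using hm
  have key : ∀ (g : ↥(alternatingGroup (Fin n))) (i j : Fin n), i ≠ j → ((g : Perm (Fin n)) k = i ∧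
      (g : Perm (Fin n)) l = j) ∨ ((g : Perm (Fin n)) k = j ∧ (g : Perm (Fin n)) l = i) → σ g x = σ (t i j) x := by
    intro g i j hij hg
    have h1 := hx ((t i j)⁻¹ * g) (by
      rw [Subgroup.coe_mul, Perm.mul_apply, Perm.mul_apply, Subgroup.coe_inv]
      rcases hg with hg | hg
      · left
        rw [hg.1, hg.2, Perm.inv_eq_iff_eq, Perm.inv_eq_iff_eq]
        exact ⟨(ht i j hij).1.symm, (ht i j hij).2.symm⟩
      · right
        rw [hg.1, hg.2, Perm.inv_eq_iff_eq, Perm.inv_eq_iff_eq]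
        exact ⟨(ht i j hij).2.symm, (ht i j hij).1.symm⟩)
    rw [mul_app] at h1
    rw [← app_inv (σ := σ) (t i j) (σ g x), h1]
  refine ⟨fun i j => if i = j then 0 else σ (t i j) x, ⟨?_, ?_, ?_⟩, ?_⟩
  · intro g i j
    by_cases hij : i = j
    · simp [hij]
    · have hij' : (g : Perm (Fin n)) i ≠ (g : Perm (Fin n)) j := fun h => hij ((g : Perm (Fin n)).injective h)
      simp only [if_neg hij, if_neg hij']
      rw [← mul_app]
      exact key _ _ _ hij' (Or.inl (by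
        rw [Subgroup.coe_mul, Perm.mul_apply, Perm.mul_apply, (ht i j hij).1, (ht i j hij).2]
        exact ⟨rfl, rfl⟩))
  · intro i j
    by_cases hij : i = j
    · simp [hij]
    · have hji : j ≠ i := fun h => hij h.symm
      simp only [if_neg hij, if_neg hji]
      exact key _ _ _ hji (Or.inr (ht i j hij))
  · intro i
    simp
  · simp only [if_neg hkl]
    exact hx _ (Or.inl (ht k l hkl))

theorem mem_inv {x : I27 → F} (hinv : σ.invariants = ⊥) (hx : ∀ g, σ g x = x) : x = 0 := by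
  have h1 : x ∈ σ.invariants := (Representation.mem_invariants σ x).2 hx
  rw [hinv] at h1
  exact (Submodule.mem_bot F).1 h1

theorem fam_const (hn : 4 ≤ n) (hinv : σ.invariants = ⊥) {v : Fin n → I27 → F} (hv : Fam σ v) {a b : Fin n}
    (hab : a ≠ b) (h : v a = v b) (i : Fin n) : v i = 0 := by
  have h1 : ∀ i j, v i = v j := by
    intro i j
    by_cases hij : i = j
    · rw [hij]
    · obtain ⟨g, h1, h2⟩ := move2 hn hab hij
      rw [← h1, ← h2, ← hv, ← hv, h]
  exact mem_inv hinv fun g => by rw [hv]; exact h1 _ _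

theorem fam_sum (hinv : σ.invariants = ⊥) {v : Fin n → I27 → F} (hv : Fam σ v) : ∑ i, v i = 0 := by
  apply mem_inv hinv
  intro g
  rw [map_sum]
  simp_rw [hv g]
  exact Equiv.sum_comp (g : Perm (Fin n)) v

theorem fam2_star (hn : 3 ≤ n) {w : Fin n → Fin n → I27 → F} (hw : Fam2 σ w)
    (hinv : ∀ x : I27 → F, (∀ g : ↥(alternatingGroup (Fin n)), (g : Perm (Fin n)) ⟨0, by omega⟩ = ⟨0, by omega⟩ → σ g x = x) →
      x = 0) (i : Fin n) : ∑ j, w i j = 0 := by
  have h1 : ∑ j, w ⟨0, by omega⟩ j = 0 := by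
    apply hinv
    intro g hg
    rw [map_sum]
    simp_rw [hw.act g, hg]
    exact Equiv.sum_comp (g : Perm (Fin n)) (w ⟨0, by omega⟩)
  obtain ⟨g, hg⟩ := move1 hn ⟨0, by omega⟩ i
  have h2 := congrArg (σ g) h1
  rw [map_sum, map_zero] at h2
  simp_rw [hw.act g, hg] at h2
  rw [← h2]
  exact (Equiv.sum_comp (g : Perm (Fin n)) (w i)).symm

/-- the sum over all unordered pairs -/
theorem sum_lt {M : Type*} [AddCommMonoid M] (w : Fin n → Fin n → M) (hw : ∀ i j, w i j = w j i) (g : Perm (Fin n)) :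
    ∑ p ∈ Finset.univ.filter (fun p : Fin n × Fin n => p.1 < p.2), w (g p.1) (g p.2) =
      ∑ p ∈ Finset.univ.filter (fun p : Fin n × Fin n => p.1 < p.2), w p.1 p.2 := by
  classical
  let s : Perm (Fin n) → Fin n × Fin n → Fin n × Fin n := fun g p =>
    if g p.1 < g p.2 then (g p.1, g p.2) else (g p.2, g p.1)
  have hs : ∀ (g : Perm (Fin n)) (p : Fin n × Fin n), p.1 < p.2 → (s g p).1 < (s g p).2 := by
    intro g p hp
    simp only [s]
    split_ifs with h
    · exact h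
    · have h1 : g p.1 ≠ g p.2 := fun h' => (ne_of_lt hp) (g.injective h')
      change g p.2 < g p.1
      exact lt_of_le_of_ne (not_lt.1 h) h1.symm
  have hss : ∀ (g h : Perm (Fin n)) (p : Fin n × Fin n), p.1 < p.2 → h * g = 1 → s h (s g p) = p := by
    intro g h p hp hg
    have h1 : ∀ x, h (g x) = x := fun x => by rw [← Perm.mul_apply, hg, Perm.one_apply]
    simp only [s]
    split_ifs with h2 h3 h4
    · simp [h1]
    · simp only [h1] at h3
      exact absurd hp h3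
    · simp only [h1] at h4
      exact absurd h4 (not_lt.2 hp.le)
    · simp [h1]
  have hsw : ∀ (g : Perm (Fin n)) (p : Fin n × Fin n), w (s g p).1 (s g p).2 = w (g p.1) (g p.2) := by
    intro g p
    simp only [s]
    split_ifs
    · rfl
    · exact hw _ _
  refine Finset.sum_bij' (fun p _ => s g p) (fun p _ => s g⁻¹ p) ?_ ?_ ?_ ?_ ?_
  · intro p hp
    rw [Finset.mem_filter] at hp ⊢
    exact ⟨Finset.mem_univ _, hs g p hp.2⟩
  · intro p hp
    rw [Finset.mem_filter] at hp ⊢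
    exact ⟨Finset.mem_univ _, hs g⁻¹ p hp.2⟩
  · intro p hp
    rw [Finset.mem_filter] at hp
    exact hss g g⁻¹ p hp.2 (inv_mul_cancel g)
  · intro p hp
    rw [Finset.mem_filter] at hp
    exact hss g⁻¹ g p hp.2 (mul_inv_cancel g)
  · intro p _
    exact (hsw g p).symm

theorem fam2_all {w : Fin n → Fin n → I27 → F} (hw : Fam2 σ w) (hinv : σ.invariants = ⊥) :
    ∑ p ∈ Finset.univ.filter (fun p : Fin n × Fin n => p.1 < p.2), w p.1 p.2 = 0 := by
  apply mem_inv hinv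
  intro g
  rw [map_sum]
  simp_rw [hw.act g]
  exact sum_lt w hw.comm g

/-- relations between the members of some families -/
theorem fam_rel (h2 : (2 : F) = 0) (hn : 5 ≤ n) (hinv : σ.invariants = ⊥) {κ : Type*} [Fintype κ]
    {v : κ → Fin n → I27 → F} (hv : ∀ k, Fam σ (v k)) {c : κ → Fin n → F} (hc : ∑ k, ∑ i, c k i • v k i = 0)
    {a b : Fin n} (hab : a ≠ b) (i : Fin n) : ∑ k, (c k a + c k b) • v k i = 0 := by
  classical
  obtain ⟨m, hm0, hm1⟩ := move2 (n := n) (by omega) (a := ⟨0, by omega⟩) (b := ⟨1, by omega⟩) (c := a) (d := b)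
    (by simp) hab
  set d : Fin n := (m : Perm (Fin n)) ⟨2, by omega⟩ with hd
  set e : Fin n := (m : Perm (Fin n)) ⟨3, by omega⟩ with he
  set f : Fin n := (m : Perm (Fin n)) ⟨4, by omega⟩ with hf
  have had : a ≠ d := by rw [← hm0, hd]; exact fun h => by simpa using (m : Perm (Fin n)).injective h
  have hae : a ≠ e := by rw [← hm0, he]; exact fun h => by simpa using (m : Perm (Fin n)).injective h
  have haf : a ≠ f := by rw [← hm0, hf]; exact fun h => by simpa using (m : Perm (Fin n)).injective h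
  have hbd : b ≠ d := by rw [← hm1, hd]; exact fun h => by simpa using (m : Perm (Fin n)).injective h
  have hbe : b ≠ e := by rw [← hm1, he]; exact fun h => by simpa using (m : Perm (Fin n)).injective h
  have hbf : b ≠ f := by rw [← hm1, hf]; exact fun h => by simpa using (m : Perm (Fin n)).injective h
  have hde : d ≠ e := by rw [hd, he]; exact fun h => by simpa using (m : Perm (Fin n)).injective h
  have hdf : d ≠ f := by rw [hd, hf]; exact fun h => by simpa using (m : Perm (Fin n)).injective h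
  have hef : e ≠ f := by rw [he, hf]; exact fun h => by simpa using (m : Perm (Fin n)).injective h
  clear_value d e f
  let t : ↥(alternatingGroup (Fin n)) := ⟨swap d e * swap e f, by
    rw [Perm.mem_alternatingGroup, Perm.sign_mul, Perm.sign_swap hde, Perm.sign_swap hef]; rfl⟩
  let g : ↥(alternatingGroup (Fin n)) := ⟨swap a b * swap d e, by
    rw [Perm.mem_alternatingGroup, Perm.sign_mul, Perm.sign_swap hab, Perm.sign_swap hde]; rfl⟩
  have ht : ∀ x, (t : Perm (Fin n)) x = swap d e (swap e f x) := fun x => rfl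
  have hg : ∀ x, (g : Perm (Fin n)) x = swap a b (swap d e x) := fun x => rfl
  have tn : ∀ x, x ≠ d → x ≠ e → x ≠ f → (t : Perm (Fin n)) x = x := by
    intro x h1 h2 h3
    rw [ht, swap_apply_of_ne_of_ne h2 h3, swap_apply_of_ne_of_ne h1 h2]
  have td : (t : Perm (Fin n)) d = e := by
    rw [ht, swap_apply_of_ne_of_ne hde hdf, swap_apply_left]
  have te : (t : Perm (Fin n)) e = f := by
    rw [ht, swap_apply_left, swap_apply_of_ne_of_ne hdf.symm hef.symm]
  have tf' : (t : Perm (Fin n)) f = d := by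
    rw [ht, swap_apply_right, swap_apply_right]
  have gn : ∀ x, x ≠ a → x ≠ b → x ≠ d → x ≠ e → (g : Perm (Fin n)) x = x := by
    intro x h1 h2 h3 h4
    rw [hg, swap_apply_of_ne_of_ne h3 h4, swap_apply_of_ne_of_ne h1 h2]
  have ga : (g : Perm (Fin n)) a = b := by
    rw [hg, swap_apply_of_ne_of_ne had hae, swap_apply_left]
  have gb : (g : Perm (Fin n)) b = a := by
    rw [hg, swap_apply_of_ne_of_ne hbd hbe, swap_apply_right]
  have gd : (g : Perm (Fin n)) d = e := by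
    rw [hg, swap_apply_left, swap_apply_of_ne_of_ne hae.symm hbe.symm]
  have ge : (g : Perm (Fin n)) e = d := by
    rw [hg, swap_apply_right, swap_apply_of_ne_of_ne had.symm hbd.symm]
  have gf : (g : Perm (Fin n)) f = f := gn f haf.symm hbf.symm hdf.symm hef.symm
  let T : (I27 → F) →ₗ[F] (I27 → F) := σ 1 + σ t + σ (t * t) + σ g + σ (g * t) + σ (g * t * t)
  have hT : ∀ (u : Fin n → I27 → F), Fam σ u → ∀ x, T (u x) = u x + u ((t : Perm (Fin n)) x) +
      u ((t : Perm (Fin n)) ((t : Perm (Fin n)) x)) + u ((g : Perm (Fin n)) x) +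
      u ((g : Perm (Fin n)) ((t : Perm (Fin n)) x)) +
      u ((g : Perm (Fin n)) ((t : Perm (Fin n)) ((t : Perm (Fin n)) x))) := by
    intro u hu x
    simp only [T, LinearMap.add_apply]
    rw [hu 1 x, hu t x, hu (t * t) x, hu g x, hu (g * t) x, hu (g * t * t) x]
    rfl
  have hz : ∀ y : I27 → F, y + y = 0 := fun y => add_self2 h2 y
  have hT0 : ∀ (u : Fin n → I27 → F), Fam σ u → ∀ x, T (u x) = if x = a ∨ x = b then u a + u b else 0 := by
    intro u hu x
    rw [hT u hu]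
    by_cases hxa : x = a
    · subst hxa
      rw [if_pos (Or.inl rfl), tn _ had hae haf, tn _ had hae haf, ga]
      have : u x + u x + u x + u b + u b + u b = (u x + u b) + (u x + u x) + (u b + u b) := by abel
      rw [this]; simp only [hz, add_zero]
    by_cases hxb : x = b
    · subst hxb
      rw [if_pos (Or.inr rfl), tn _ hbd hbe hbf, tn _ hbd hbe hbf, gb]
      have : u x + u x + u x + u a + u a + u a = (u a + u x) + (u x + u x) + (u a + u a) := by abel
      rw [this]; simp only [hz, add_zero]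
    rw [if_neg (by tauto)]
    by_cases hxd : x = d
    · subst hxd
      rw [td, te, gd, ge, gf]
      have : u x + u e + u f + u e + u x + u f = (u x + u x) + (u e + u e) + (u f + u f) := by abel
      rw [this]; simp only [hz, add_zero]
    by_cases hxe : x = e
    · subst hxe
      rw [te, tf', ge, gf, gd]
      have : u x + u f + u d + u d + u f + u x = (u x + u x) + (u f + u f) + (u d + u d) := by abel
      rw [this]; simp only [hz, add_zero]
    by_cases hxf : x = f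
    · subst hxf
      rw [tf', td, gf, gd, ge]
      have : u x + u d + u e + u x + u e + u d = (u x + u x) + (u e + u e) + (u d + u d) := by abel
      rw [this]; simp only [hz, add_zero]
    rw [tn x hxd hxe hxf, tn x hxd hxe hxf, gn x hxa hxb hxd hxe]
    have : u x + u x + u x + u x + u x + u x = (u x + u x) + (u x + u x) + (u x + u x) := by abel
    rw [this]; simp only [hz, add_zero]
  have h3 : ∑ k, (c k a + c k b) • (v k a + v k b) = 0 := by
    have h4 := congrArg T hc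
    rw [map_sum, map_zero] at h4
    rw [← h4]
    apply Finset.sum_congr rfl
    intro k _
    rw [map_sum]
    have h5 : ∀ x ∈ Finset.univ, T (c k x • v k x) = (if x = a then c k a • (v k a + v k b) else 0) +
        (if x = b then c k b • (v k a + v k b) else 0) := by
      intro x _
      rw [map_smul, hT0 (v k) (hv k)]
      by_cases hxa : x = a
      · subst hxa
        simp [hab]
      by_cases hxb : x = b
      · subst hxb
        simp [hxa]
      · simp [hxa, hxb]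
    rw [Finset.sum_congr rfl h5, Finset.sum_add_distrib, Finset.sum_ite_eq', Finset.sum_ite_eq',
      if_pos (Finset.mem_univ _), if_pos (Finset.mem_univ _), add_smul]
  have h4 : Fam σ (fun i => ∑ k, (c k a + c k b) • v k i) := by
    intro g i
    change σ g (∑ k, (c k a + c k b) • v k i) = ∑ k, (c k a + c k b) • v k ((g : Perm (Fin n)) i)
    rw [map_sum]
    apply Finset.sum_congr rfl
    intro k _
    rw [map_smul, hv k]
  refine fam_const (by omega) hinv h4 hab (eq_of_add2 h2 ?_) i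
  rw [← h3, ← Finset.sum_add_distrib]
  apply Finset.sum_congr rfl
  intro k _
  rw [smul_add]

end Families

end Cfsg.Agent.H905.E6T
end

-- part: H905/E6T/Pair
section
/-!
# S5927, characteristic 2: relations in families indexed by pairs (helper905)

`w i j` a family of vectors indexed by the pairs of points (`n = 7, 8`), `Z w a b c d` the sum over the 4-cycle
`a c b d`. If one of the 4-cycles is not zero, the `w i j` with `0 < i < j`, `(i, j) ≠ (1, 2)` are linearly independent.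
-/

set_option autoImplicit false
set_option linter.unusedSectionVars false
set_option linter.unusedSimpArgs false
set_option linter.unusedTactic false

namespace Cfsg.Agent.H905.E6T

open Cfsg Cfsg.Lie Module Equiv
open Cfsg.Agent.ChevalleyStructure.E6Min.Tables
open Cfsg.Agent.H952.F4 (ev es sh cr tf tr1 u0)
open Cfsg.Agent.H952.F4.Jord Cfsg.Agent.H163.E6

universe u

variable {F : Type u} [Field F]

/-- the code of an unordered pair -/
def pcode (n : ℕ) (p : Fin n × Fin n) : ℕ :=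
  if p.1 = p.2 then 0 else if p.1 < p.2 then p.1.val * n + p.2.val + 1 else p.2.val * n + p.1.val + 1

/-- the sum over a 4-cycle -/
def Z {n : ℕ} (w : Fin n → Fin n → I27 → F) (a b c d : Fin n) : I27 → F := w a c + w b c + w a d + w b d

/-- the pairs meeting both `{0, 1}` and `{2, 3}` -/
def kap {n : ℕ} (i j : Fin n) : Bool := (i.val < 2 && 2 ≤ j.val && j.val < 4) || (j.val < 2 && 2 ≤ i.val && i.val < 4)

/-- sum of the operators of a list of group elements -/
theorem sum_app {G : Type*} [Group G] (σ : Representation F G (I27 → F)) (L : List G) (x : I27 → F) :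
    (L.map fun s => σ s).sum x = (L.map fun s => σ s x).sum := by
  induction L with
  | nil => rfl
  | cons a L ih => rw [List.map_cons, List.sum_cons, List.map_cons, List.sum_cons, ← ih]; rfl

/-- the property of the list of group elements used to isolate a 4-cycle -/
def Good (n : ℕ) (L : List ↥(alternatingGroup (Fin n))) : Prop :=
  (∀ x y : Fin n × Fin n, pcode n x = pcode n y → x = y ∨ x = (y.2, y.1) ∨ (x.1 = x.2 ∧ y.1 = y.2)) ∧
  (∀ x : Fin n × Fin n, pcode n x < n * n + 1) ∧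
  ∀ (z0 z1 z2 z3 : Fin n), z0.val = 0 → z1.val = 1 → z2.val = 2 → z3.val = 3 → ∀ i j : Fin n, ∀ k < n * n + 1,
    k = 0 ∨ ((L.map fun s : ↥(alternatingGroup (Fin n)) => ((s : Perm (Fin n)) i, (s : Perm (Fin n)) j)) ++
      (if kap i j then [(z0, z2), (z1, z2), (z0, z3), (z1, z3)] else [])).countP (fun x => pcode n x == k) % 2 = 0

def l7 : List ↥(alternatingGroup (Fin 7)) :=
  let t : ↥(alternatingGroup (Fin 7)) := ⟨c[(4 : Fin 7), 5, 6], Perm.mem_alternatingGroup.2 (by decide +kernel)⟩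
  let a : ↥(alternatingGroup (Fin 7)) := ⟨swap (0 : Fin 7) 1 * swap (4 : Fin 7) 5, Perm.mem_alternatingGroup.2 (by decide +kernel)⟩
  let b : ↥(alternatingGroup (Fin 7)) := ⟨swap (2 : Fin 7) 3 * swap (4 : Fin 7) 5, Perm.mem_alternatingGroup.2 (by decide +kernel)⟩
  [1, t, t * t, a, a * t, a * t * t, b, b * t, b * t * t, b * a, b * a * t, b * a * t * t]

def l8 : List ↥(alternatingGroup (Fin 8)) :=
  let t : ↥(alternatingGroup (Fin 8)) := ⟨c[(4 : Fin 8), 5, 6], Perm.mem_alternatingGroup.2 (by decide +kernel)⟩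
  let a : ↥(alternatingGroup (Fin 8)) := ⟨swap (0 : Fin 8) 1 * swap (4 : Fin 8) 5, Perm.mem_alternatingGroup.2 (by decide +kernel)⟩
  let b : ↥(alternatingGroup (Fin 8)) := ⟨swap (2 : Fin 8) 3 * swap (4 : Fin 8) 5, Perm.mem_alternatingGroup.2 (by decide +kernel)⟩
  [1, t, t * t, a, a * t, a * t * t, b, b * t, b * t * t, b * a, b * a * t, b * a * t * t]

private noncomputable def _root_.Cfsg.Agent.LsF.f108ca7_0 : {f // @Cfsg.Agent.H905.E6T.pcode = f} := ⟨_, by first | (delta Cfsg.Agent.H905.E6T.pcode; rewrite [Cfsg.Agent.LsF.nadd_pat, Cfsg.Agent.LsF.nmul_pat, Cfsg.Agent.LsF.dFinEq_eq, Cfsg.Agent.LsF.dFinLt_eq, Cfsg.Agent.LsF.ite_eq]; exact rfl) | exact rfl⟩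
private noncomputable def _root_.Cfsg.Agent.LsF.f108ca7_1 : {f // @Cfsg.Agent.H905.E6T.kap = f} := ⟨_, by first | (delta Cfsg.Agent.H905.E6T.kap; rewrite [Cfsg.Agent.LsF.and_eq, Cfsg.Agent.LsF.or_eq, Cfsg.Agent.LsF.decLe_eq, Cfsg.Agent.LsF.decLt_eq, Cfsg.Agent.LsF.decide_eq]; exact rfl) | exact rfl⟩
theorem good7 : Good 7 l7 := by
  refine ⟨by (refine of_decide_eq_true ?_; (try (rewrite [Cfsg.Agent.LsF.f108ca7_0.2, Cfsg.Agent.LsF.dProdEq_eq, Cfsg.Agent.LsF.finFintype_eq, Cfsg.Agent.LsF.prodFintype_eq, Cfsg.Agent.LsF.dForall_eq, Cfsg.Agent.LsF.instDecEq_eq, Cfsg.Agent.LsF.dAnd_eq, Cfsg.Agent.LsF.dOr_eq, Cfsg.Agent.LsF.dFinEq_eq, Cfsg.Agent.LsF.decide_eq])); decide +kernel), by decide +kernel, ?_⟩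
  intro z0 z1 z2 z3 h0 h1 h2 h3
  obtain rfl : z0 = 0 := Fin.ext h0
  obtain rfl : z1 = 1 := Fin.ext h1
  obtain rfl : z2 = 2 := Fin.ext h2
  obtain rfl : z3 = 3 := Fin.ext h3
  (refine of_decide_eq_true ?_; (try (rewrite [Cfsg.Agent.LsF.f108ca7_0.2, Cfsg.Agent.LsF.f108ca7_1.2, Cfsg.Agent.LsF.nadd_pat, Cfsg.Agent.LsF.nmul_pat, Cfsg.Agent.LsF.nmod_pat, Cfsg.Agent.LsF.nbeq_pat, Cfsg.Agent.LsF.lappend_pat, Cfsg.Agent.LsF.instDecEq_eq, Cfsg.Agent.LsF.map_eq, Cfsg.Agent.LsF.countP_eq, Cfsg.Agent.LsF.dOr_eq, Cfsg.Agent.LsF.dBoolEq_eq, Cfsg.Agent.LsF.dBallLT_eq, Cfsg.Agent.LsF.dForallFin_eq, Cfsg.Agent.LsF.ite_eq, Cfsg.Agent.LsF.decide_eq])); decide +kernel)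

theorem good8 : Good 8 l8 := by
  refine ⟨by (refine of_decide_eq_true ?_; (try (rewrite [Cfsg.Agent.LsF.f108ca7_0.2, Cfsg.Agent.LsF.dProdEq_eq, Cfsg.Agent.LsF.finFintype_eq, Cfsg.Agent.LsF.prodFintype_eq, Cfsg.Agent.LsF.dForall_eq, Cfsg.Agent.LsF.instDecEq_eq, Cfsg.Agent.LsF.dAnd_eq, Cfsg.Agent.LsF.dOr_eq, Cfsg.Agent.LsF.dFinEq_eq, Cfsg.Agent.LsF.decide_eq])); decide +kernel), by decide +kernel, ?_⟩
  intro z0 z1 z2 z3 h0 h1 h2 h3
  obtain rfl : z0 = 0 := Fin.ext h0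
  obtain rfl : z1 = 1 := Fin.ext h1
  obtain rfl : z2 = 2 := Fin.ext h2
  obtain rfl : z3 = 3 := Fin.ext h3
  (refine of_decide_eq_true ?_; (try (rewrite [Cfsg.Agent.LsF.f108ca7_0.2, Cfsg.Agent.LsF.f108ca7_1.2, Cfsg.Agent.LsF.nadd_pat, Cfsg.Agent.LsF.nmul_pat, Cfsg.Agent.LsF.nmod_pat, Cfsg.Agent.LsF.nbeq_pat, Cfsg.Agent.LsF.lappend_pat, Cfsg.Agent.LsF.instDecEq_eq, Cfsg.Agent.LsF.map_eq, Cfsg.Agent.LsF.countP_eq, Cfsg.Agent.LsF.dOr_eq, Cfsg.Agent.LsF.dBoolEq_eq, Cfsg.Agent.LsF.dBallLT_eq, Cfsg.Agent.LsF.dForallFin_eq, Cfsg.Agent.LsF.ite_eq, Cfsg.Agent.LsF.decide_eq])); decide +kernel)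

section

variable {n : ℕ} {σ : Representation F ↥(alternatingGroup (Fin n)) (I27 → F)} {L : List ↥(alternatingGroup (Fin n))}

theorem isolate (h2 : (2 : F) = 0) (hL : Good n L) {w : Fin n → Fin n → I27 → F} (hw : Fam2 σ w)
    {z0 z1 z2 z3 : Fin n} (h0 : z0.val = 0) (h1 : z1.val = 1) (h2' : z2.val = 2) (h3 : z3.val = 3) (i j : Fin n) :
    (L.map fun s => σ s).sum (w i j) = if kap i j then Z w z0 z1 z2 z3 else 0 := by
  have h4 := par_zero h2 (pcode n) (n * n + 1) (fun p : Fin n × Fin n => w p.1 p.2)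
    (by
      intro x y hxy
      rcases hL.1 x y hxy with h | h | ⟨h, h'⟩
      · rw [h]
      · rw [h]; exact hw.comm _ _
      · change w x.1 x.2 = w y.1 y.2
        rw [h, h', hw.diag, hw.diag])
    (by
      intro x hx
      have : x.1 = x.2 := by
        unfold pcode at hx
        split_ifs at hx with h
        exact h
      change w x.1 x.2 = 0
      rw [this, hw.diag])
    hL.2.1 _ (hL.2.2 z0 z1 z2 z3 h0 h1 h2' h3 i j)
  rw [List.map_append, List.sum_append, List.map_map] at h4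
  rw [sum_app]
  have h5 : (L.map fun s => σ s (w i j)) = L.map ((fun p : Fin n × Fin n => w p.1 p.2) ∘
      fun s : ↥(alternatingGroup (Fin n)) => ((s : Perm (Fin n)) i, (s : Perm (Fin n)) j)) := by
    apply List.map_congr_left
    intro s _
    exact hw.act s i j
  rw [h5]
  rw [eq_of_add2 h2 h4]
  split_ifs
  · simp [Z, add_assoc]
  · simp

/-- relations between the members of a family indexed by pairs -/
theorem cyc_rel (h2 : (2 : F) = 0) (hn : 6 ≤ n) (hL : Good n L) {w : Fin n → Fin n → I27 → F} (hw : Fam2 σ w)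
    {z0 z1 z2 z3 : Fin n} (h0 : z0.val = 0) (h1 : z1.val = 1) (h2' : z2.val = 2) (h3 : z3.val = 3)
    (hZ : Z w z0 z1 z2 z3 ≠ 0) {X : Fin n → Fin n → F} (hX : ∑ i, ∑ j, X i j • w i j = 0) {a b c d : Fin n}
    (hab : a ≠ b) (hac : a ≠ c) (had : a ≠ d) (hbc : b ≠ c) (hbd : b ≠ d) (hcd : c ≠ d) :
    (X a c + X c a) + (X b c + X c b) + (X a d + X d a) + (X b d + X d b) = 0 := by
  have hne : ∀ {x y : Fin n}, x.val ≠ y.val → x ≠ y := fun h h' => h (congrArg Fin.val h')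
  obtain ⟨g, g0, g1, g2, g3⟩ := move4 hn (hne (x := z0) (y := z1) (by omega)) (hne (x := z0) (y := z2) (by omega))
    (hne (x := z0) (y := z3) (by omega)) (hne (x := z1) (y := z2) (by omega)) (hne (x := z1) (y := z3) (by omega))
    (hne (x := z2) (y := z3) (by omega)) hab hac had hbc hbd hcd
  have h4 : ∑ i, ∑ j, X ((g : Perm (Fin n)) i) ((g : Perm (Fin n)) j) • w i j = 0 := by
    have h5 : σ g (∑ i, ∑ j, X ((g : Perm (Fin n)) i) ((g : Perm (Fin n)) j) • w i j) = 0 := by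
      rw [← hX, map_sum]
      rw [← Equiv.sum_comp (g : Perm (Fin n)) (fun i => ∑ j, X i j • w i j)]
      apply Finset.sum_congr rfl
      intro i _
      rw [map_sum, ← Equiv.sum_comp (g : Perm (Fin n)) (fun j => X ((g : Perm (Fin n)) i) j • w ((g : Perm (Fin n)) i) j)]
      apply Finset.sum_congr rfl
      intro j _
      rw [map_smul, hw.act]
    rw [← inv_app (σ := σ) g (∑ i, ∑ j, X ((g : Perm (Fin n)) i) ((g : Perm (Fin n)) j) • w i j), h5, map_zero]
  have h5 := congrArg ((L.map fun s => σ s).sum) h4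
  rw [map_sum, map_zero] at h5
  have h6 : ∀ i j, (L.map fun s => σ s).sum (X ((g : Perm (Fin n)) i) ((g : Perm (Fin n)) j) • w i j) =
      (if kap i j then X ((g : Perm (Fin n)) i) ((g : Perm (Fin n)) j) else 0) • Z w z0 z1 z2 z3 := by
    intro i j
    rw [map_smul, isolate h2 hL hw h0 h1 h2' h3]
    split_ifs <;> simp
  simp_rw [map_sum, h6, ← Finset.sum_smul] at h5
  have h7 := (smul_eq_zero.1 h5).resolve_right hZ
  rw [← Fintype.sum_prod_type' (f := fun i j => if kap i j then X ((g : Perm (Fin n)) i) ((g : Perm (Fin n)) j) else 0)]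
    at h7
  rw [← Finset.sum_filter] at h7
  have h8 : (Finset.univ.filter fun p : Fin n × Fin n => kap p.1 p.2 = true) =
      {(z0, z2), (z2, z0), (z1, z2), (z2, z1), (z0, z3), (z3, z0), (z1, z3), (z3, z1)} := by
    ext p
    simp only [Finset.mem_filter, Finset.mem_univ, true_and, Finset.mem_insert, Finset.mem_singleton, kap,
      Bool.or_eq_true, Bool.and_eq_true, decide_eq_true_eq, Prod.ext_iff, Fin.ext_iff, h0, h1, h2', h3]
    generalize p.1.val = x
    generalize p.2.val = y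
    refine ⟨fun h => ?_, ?_⟩
    · have hx : x < 4 := by omega
      have hy : y < 4 := by omega
      revert h
      revert y
      revert x
      set_option synthInstance.maxSize 2000 in decide
    · rintro (⟨rfl, rfl⟩ | ⟨rfl, rfl⟩ | ⟨rfl, rfl⟩ | ⟨rfl, rfl⟩ | ⟨rfl, rfl⟩ | ⟨rfl, rfl⟩ | ⟨rfl, rfl⟩ | ⟨rfl, rfl⟩) <;>
        decide
  rw [h8] at h7
  rw [Finset.sum_insert, Finset.sum_insert, Finset.sum_insert, Finset.sum_insert, Finset.sum_insert, Finset.sum_insert,
    Finset.sum_insert, Finset.sum_singleton, g0, g1, g2, g3] at h7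
  · rw [← h7]; ring
  all_goals
    simp only [Finset.mem_insert, Finset.mem_singleton, Prod.ext_iff, Fin.ext_iff, h0, h1, h2', h3]
    decide

theorem Z_zero (hn : 6 ≤ n) {w : Fin n → Fin n → I27 → F} (hw : Fam2 σ w)
    {a b c d a' b' c' d' : Fin n} (h : Z w a b c d = 0)
    (hab : a ≠ b) (hac : a ≠ c) (had : a ≠ d) (hbc : b ≠ c) (hbd : b ≠ d) (hcd : c ≠ d)
    (hab' : a' ≠ b') (hac' : a' ≠ c') (had' : a' ≠ d') (hbc' : b' ≠ c') (hbd' : b' ≠ d') (hcd' : c' ≠ d') :
    Z w a' b' c' d' = 0 := by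
  obtain ⟨g, g0, g1, g2, g3⟩ := move4 hn hab hac had hbc hbd hcd hab' hac' had' hbc' hbd' hcd'
  have h1 := congrArg (σ g) h
  rw [Z, map_add, map_add, map_add, hw.act, hw.act, hw.act, hw.act, g0, g1, g2, g3, map_zero] at h1
  exact h1

/-- the index set of the basis -/
def BP {n : ℕ} (p : Fin n × Fin n) : Prop := 0 < p.1.val ∧ p.1.val < p.2.val ∧ ¬(p.1.val = 1 ∧ p.2.val = 2)

instance {n : ℕ} : DecidablePred (BP (n := n)) := fun p => by unfold BP; infer_instance

theorem card_BP7 : Fintype.card {p : Fin 7 × Fin 7 // BP p} = 14 := by decide +kernel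

theorem card_BP8 : Fintype.card {p : Fin 8 × Fin 8 // BP p} = 20 := by decide +kernel

theorem indep (h2 : (2 : F) = 0) (hn : 6 ≤ n) (hL : Good n L) {w : Fin n → Fin n → I27 → F} (hw : Fam2 σ w)
    {z0 z1 z2 z3 : Fin n} (h0 : z0.val = 0) (h1 : z1.val = 1) (h2' : z2.val = 2) (h3 : z3.val = 3)
    (hZ : Z w z0 z1 z2 z3 ≠ 0) : LinearIndependent F (fun p : {p : Fin n × Fin n // BP p} => w p.1.1 p.1.2) := by
  classical
  rw [Fintype.linearIndependent_iff]
  intro c hc
  let X : Fin n → Fin n → F := fun i j => if h : BP (i, j) then c ⟨(i, j), h⟩ else 0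
  have hX0 : ∀ i j, ¬ BP (i, j) → X i j = 0 := fun i j h => by simp [X, h]
  have hX : ∑ i, ∑ j, X i j • w i j = 0 := by
    rw [← hc]
    rw [← Fintype.sum_prod_type' (f := fun i j => X i j • w i j)]
    rw [← Finset.sum_filter_add_sum_filter_not Finset.univ (fun p : Fin n × Fin n => BP p)]
    have h4 : ∑ p ∈ Finset.univ.filter (fun p : Fin n × Fin n => ¬ BP p), X p.1 p.2 • w p.1 p.2 = 0 := by
      apply Finset.sum_eq_zero
      intro p hp
      rw [Finset.mem_filter] at hp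
      rw [hX0 p.1 p.2 hp.2, zero_smul]
    rw [h4, add_zero]
    rw [Finset.sum_subtype (Finset.univ.filter (fun p : Fin n × Fin n => BP p)) (p := fun p => BP p) (by simp)
      (fun p => X p.1 p.2 • w p.1 p.2)]
    apply Finset.sum_congr rfl
    intro p _
    simp [X, p.2]
  have key := fun {a b c d : Fin n} => cyc_rel (a := a) (b := b) (c := c) (d := d) h2 hn hL hw h0 h1 h2' h3 hZ hX
  have hne : ∀ {x y : Fin n}, x.val ≠ y.val → x ≠ y := fun h h' => h (congrArg Fin.val h')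
  have e1 : ∀ j, X z0 j + X j z0 = 0 := by
    intro j
    rw [hX0 z0 j (by unfold BP; simp; omega), hX0 j z0 (by unfold BP; simp; omega), add_zero]
  have e2 : X z1 z2 + X z2 z1 = 0 := by
    rw [hX0 z1 z2 (by unfold BP; simp; omega), hX0 z2 z1 (by unfold BP; simp; omega), add_zero]
  have e2' : X z2 z1 + X z1 z2 = 0 := by rw [add_comm]; exact e2
  have e3 : ∀ j : Fin n, 3 ≤ j.val → X z1 j + X j z1 = 0 := by
    intro j hj
    have := key (a := z0) (b := z1) (c := z2) (d := j) (hne (by omega)) (hne (by omega)) (hne (by omega))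
      (hne (by omega)) (hne (by omega)) (hne (by omega))
    rw [e1, e1, e2] at this
    simpa using this
  have e4 : ∀ j : Fin n, 3 ≤ j.val → X z2 j + X j z2 = 0 := by
    intro j hj
    have := key (a := z0) (b := z2) (c := z1) (d := j) (hne (by omega)) (hne (by omega)) (hne (by omega))
      (hne (by omega)) (hne (by omega)) (hne (by omega))
    rw [e1, e1, e2'] at this
    simpa using this
  have e5 : ∀ i j : Fin n, 3 ≤ i.val → i.val < j.val → X i j + X j i = 0 := by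
    intro i j hi hj
    have := key (a := z0) (b := i) (c := z1) (d := j) (hne (by omega)) (hne (by omega)) (hne (by omega))
      (hne (by omega)) (hne (by omega)) (hne (by omega))
    rw [e1, e1, add_comm (X i z1), e3 i hi] at this
    simpa using this
  rintro ⟨⟨i, j⟩, hij⟩
  have h4 : X i j = c ⟨(i, j), hij⟩ := by simp [X, hij]
  rw [← h4]
  have hij' := hij
  unfold BP at hij'
  simp only at hij'
  have h5 : X j i = 0 := hX0 j i (by unfold BP; simp; omega)
  have h6 : X i j + X j i = 0 := by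
    by_cases hi1 : i.val = 1
    · obtain rfl : i = z1 := Fin.ext (by omega)
      exact e3 j (by omega)
    · by_cases hi2 : i.val = 2
      · obtain rfl : i = z2 := Fin.ext (by omega)
        exact e4 j (by omega)
      · exact e5 i j (by omega) (by omega)
  rw [h5, add_zero] at h6
  exact h6

end

end Cfsg.Agent.H905.E6T
end

-- part: H905/E6T/Seven
section
/-!
# S5927, characteristic 2, `A₇` (helper905)

`seven_main` : `A₇` acts on `V`, `V'` without fixed vectors, `v`, `u` two independent equivariant families in `V`; then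
`cr (v i) (v j) = 0`.
-/

set_option autoImplicit false
set_option linter.unusedSectionVars false
set_option linter.unusedSimpArgs false
set_option linter.unusedTactic false

namespace Cfsg.Agent.H905.E6T

open Cfsg Cfsg.Lie Module Equiv
open Cfsg.Agent.ChevalleyStructure.E6Min.Tables
open Cfsg.Agent.H952.F4 (ev es sh cr tf tr1 u0)
open Cfsg.Agent.H952.F4.Jord Cfsg.Agent.H163.E6

universe u

variable {F : Type u} [Field F]

/-! ### the action on a quotient of dimension one is trivial -/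

theorem triv_quot {n : ℕ} (hn : 5 ≤ n) {σ : Representation F ↥(alternatingGroup (Fin n)) (I27 → F)}
    {U R : Submodule F (I27 → F)} (hUR : U ≤ R) (hU : ∀ g, ∀ x ∈ U, σ g x ∈ U) (hR : ∀ g, ∀ x ∈ R, σ g x ∈ R)
    (hfr : finrank F R ≤ finrank F U + 1) {r : I27 → F} (hr : r ∈ R) (g : ↥(alternatingGroup (Fin n))) :
    σ g r - r ∈ U := by
  classical
  by_cases hrU : r ∈ U
  · exact U.sub_mem (hU g r hrU) hrU
  obtain ⟨f, hf, hfU⟩ := Submodule.exists_dual_map_eq_bot_of_notMem hrU inferInstance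
  have hf0 : ∀ x ∈ U, f x = 0 := by
    intro x hx
    have h1 : f x ∈ U.map f := ⟨x, hx, rfl⟩
    rw [hfU] at h1
    exact (Submodule.mem_bot F).1 h1
  -- `R = U + F r`
  have hsum : ∀ x ∈ R, ∃ c : F, x - c • r ∈ U := by
    have h1 : U ⊔ Submodule.span F {r} ≤ R := sup_le hUR (by
      rw [Submodule.span_singleton_le_iff_mem]; exact hr)
    have h2 : U < U ⊔ Submodule.span F {r} := by
      refine lt_of_le_of_ne le_sup_left ?_
      intro h
      apply hrU
      rw [h]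
      exact le_sup_right (a := U) (Submodule.mem_span_singleton_self r)
    have h3 := Submodule.finrank_lt_finrank_of_lt h2
    have h4 : U ⊔ Submodule.span F {r} = R := Submodule.eq_of_le_of_finrank_le h1 (by omega)
    intro x hx
    rw [← h4] at hx
    obtain ⟨a, ha, b, hb, hab⟩ := Submodule.mem_sup.1 hx
    obtain ⟨c, rfl⟩ := Submodule.mem_span_singleton.1 hb
    exact ⟨c, by rw [← hab, add_sub_cancel_right]; exact ha⟩
  have hker : ∀ x ∈ R, f x = 0 → x ∈ U := by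
    intro x hx hx0
    obtain ⟨c, hc⟩ := hsum x hx
    have h1 := hf0 _ hc
    rw [map_sub, map_smul, hx0, zero_sub, neg_eq_zero, smul_eq_mul] at h1
    have h2 : c = 0 := (mul_eq_zero.1 h1).resolve_right hf
    rw [h2, zero_smul, sub_zero] at hc
    exact hc
  let χ : ↥(alternatingGroup (Fin n)) →* F :=
    { toFun := fun g => f (σ g r) / f r
      map_one' := by rw [one_app, div_self hf]
      map_mul' := by
        intro a b
        obtain ⟨c, hc⟩ := hsum (σ b r) (hR b r hr)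
        have h1 : f (σ b r) = c * f r := by
          have := hf0 _ hc
          rw [map_sub, map_smul, sub_eq_zero, smul_eq_mul] at this
          exact this
        have h2 : f (σ (a * b) r) = c * f (σ a r) := by
          have := hf0 _ (hU a _ hc)
          rw [map_sub, map_smul, map_sub, map_smul, ← mul_app, sub_eq_zero, smul_eq_mul] at this
          exact this
        rw [h2, h1]
        field_simp }
  have h1 := hom_eq_one hn χ.toHomUnits g
  have h2 : f (σ g r) / f r = 1 := congrArg Units.val h1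
  rw [div_eq_one_iff_eq hf] at h2
  apply hker _ (R.sub_mem (hR g r hr) hr)
  rw [map_sub, h2, sub_self]

/-! ### the class sum of the elements of order 3 of `A₇` -/

/-- the product of two transpositions -/
def tau {n : ℕ} (p : Fin n × Fin n × Fin n) : ↥(alternatingGroup (Fin n)) :=
  if h : p.1 ≠ p.2.1 ∧ p.2.1 ≠ p.2.2 then ⟨swap p.1 p.2.1 * swap p.2.1 p.2.2, by
    rw [Perm.mem_alternatingGroup, Perm.sign_mul, Perm.sign_swap h.1, Perm.sign_swap h.2]; rfl⟩ else 1

/-- the triples of different points -/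
def trip (n : ℕ) : Finset (Fin n × Fin n × Fin n) :=
  Finset.univ.filter fun p => p.1 ≠ p.2.1 ∧ p.2.1 ≠ p.2.2 ∧ p.1 ≠ p.2.2

theorem tau_coe {n : ℕ} {p : Fin n × Fin n × Fin n} (hp : p ∈ trip n) :
    (tau p : Perm (Fin n)) = swap p.1 p.2.1 * swap p.2.1 p.2.2 := by
  rw [trip, Finset.mem_filter] at hp
  rw [tau, dif_pos ⟨hp.2.1, hp.2.2.1⟩]

/-- the operator -/
noncomputable def Cop {n : ℕ} (σ : Representation F ↥(alternatingGroup (Fin n)) (I27 → F)) : (I27 → F) →ₗ[F] (I27 → F) :=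
  ∑ p ∈ trip n, σ (tau p)

theorem Cop_apply {n : ℕ} (σ : Representation F ↥(alternatingGroup (Fin n)) (I27 → F)) (x : I27 → F) :
    Cop σ x = ∑ p ∈ trip n, σ (tau p) x := by
  rw [Cop, LinearMap.sum_apply]

theorem Cop_comm {n : ℕ} (σ : Representation F ↥(alternatingGroup (Fin n)) (I27 → F)) (g : ↥(alternatingGroup (Fin n)))
    (x : I27 → F) : Cop σ (σ g x) = σ g (Cop σ x) := by
  rw [Cop_apply, Cop_apply, map_sum]
  let e : Perm (Fin n × Fin n × Fin n) :=
    Equiv.prodCongr (g : Perm (Fin n)) (Equiv.prodCongr (g : Perm (Fin n)) (g : Perm (Fin n)))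
  have he : ∀ p, e p = ((g : Perm (Fin n)) p.1, (g : Perm (Fin n)) p.2.1, (g : Perm (Fin n)) p.2.2) := fun p => rfl
  have hmem : ∀ p, p ∈ trip n ↔ e p ∈ trip n := by
    intro p
    rw [he, trip, Finset.mem_filter, Finset.mem_filter]
    simp [(g : Perm (Fin n)).injective.ne_iff]
  symm
  refine Finset.sum_equiv e hmem ?_
  intro p hp
  rw [← mul_app, ← mul_app]
  congr 1
  apply congrArg
  apply Subtype.ext
  rw [Subgroup.coe_mul, Subgroup.coe_mul, tau_coe hp, tau_coe ((hmem p).1 hp), he]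
  simp only
  have h1 : ∀ a b : Fin n, swap ((g : Perm (Fin n)) a) ((g : Perm (Fin n)) b) * (g : Perm (Fin n)) =
      (g : Perm (Fin n)) * swap a b := by
    intro a b
    exact (Equiv.mul_swap_eq_swap_mul (g : Perm (Fin n)) a b).symm
  rw [mul_assoc, h1, ← mul_assoc, ← mul_assoc, h1, mul_assoc]

private noncomputable def _root_.Cfsg.Agent.LsF.f108ca7_2 : {f // @Cfsg.Agent.H905.E6T.trip = f} := ⟨_, by first | (delta Cfsg.Agent.H905.E6T.trip; rewrite [Cfsg.Agent.LsF.finFintype_eq, Cfsg.Agent.LsF.prodFintype_eq, Cfsg.Agent.LsF.ffilter_eq, Cfsg.Agent.LsF.dAnd_eq, Cfsg.Agent.LsF.dNot_eq, Cfsg.Agent.LsF.dFinEq_eq]; exact rfl) | exact rfl⟩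
theorem count7 : ∀ j : Fin 7, ((trip 7).filter fun p => (swap p.1 p.2.1 * swap p.2.1 p.2.2 : Perm (Fin 7)) 0 = j).card =
    if j = 0 then 120 else 15 := by (refine of_decide_eq_true ?_; (try (rewrite [Cfsg.Agent.LsF.f108ca7_2.2, Cfsg.Agent.LsF.fcard_eq, Cfsg.Agent.LsF.ffilter_eq, Cfsg.Agent.LsF.instDecEq_eq, Cfsg.Agent.LsF.dFinEq_eq, Cfsg.Agent.LsF.dForallFin_eq, Cfsg.Agent.LsF.ite_eq, Cfsg.Agent.LsF.decide_eq])); decide +kernel)

theorem card_trip7 : (trip 7).card = 210 := by decide +kernel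

section

variable {σ σ' : Representation F ↥(alternatingGroup (Fin 7)) (I27 → F)}

theorem Cop_fam (h2 : (2 : F) = 0) {v : Fin 7 → I27 → F} (hv : Fam σ v) (hs : ∑ i, v i = 0) (i : Fin 7) :
    Cop σ (v i) = v i := by
  have h0 : Cop σ (v 0) = v 0 := by
    rw [Cop_apply]
    have h1 : ∀ p ∈ trip 7, σ (tau p) (v 0) = v ((swap p.1 p.2.1 * swap p.2.1 p.2.2 : Perm (Fin 7)) 0) := by
      intro p hp
      rw [hv, tau_coe hp]
    rw [Finset.sum_congr rfl h1]
    rw [← Finset.sum_fiberwise_of_maps_to (s := trip 7) (t := Finset.univ)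
      (g := fun p => (swap p.1 p.2.1 * swap p.2.1 p.2.2 : Perm (Fin 7)) 0) (fun _ _ => Finset.mem_univ _)]
    have h3 : ∀ j ∈ (Finset.univ : Finset (Fin 7)),
        ∑ p ∈ (trip 7).filter (fun p => (swap p.1 p.2.1 * swap p.2.1 p.2.2 : Perm (Fin 7)) 0 = j),
          v ((swap p.1 p.2.1 * swap p.2.1 p.2.2 : Perm (Fin 7)) 0) = v j - (if j = 0 then v j else 0) := by
      intro j _
      have h4 : ∀ p ∈ (trip 7).filter (fun p => (swap p.1 p.2.1 * swap p.2.1 p.2.2 : Perm (Fin 7)) 0 = j),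
          v ((swap p.1 p.2.1 * swap p.2.1 p.2.2 : Perm (Fin 7)) 0) = v j := by
        intro p hp
        rw [(Finset.mem_filter.1 hp).2]
      rw [Finset.sum_congr rfl h4, Finset.sum_const, count7]
      split_ifs with hj
      · rw [sub_self, ← Nat.cast_smul_eq_nsmul F]
        have : ((120 : ℕ) : F) = 0 := by
          rw [show (120 : ℕ) = 2 * 60 by norm_num, Nat.cast_mul, Nat.cast_ofNat, h2, zero_mul]
        rw [this, zero_smul]
      · rw [sub_zero, ← Nat.cast_smul_eq_nsmul F]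
        have : ((15 : ℕ) : F) = 1 := by
          rw [show (15 : ℕ) = 2 * 7 + 1 by norm_num, Nat.cast_add, Nat.cast_mul, Nat.cast_ofNat, h2, zero_mul, zero_add,
            Nat.cast_one]
        rw [this, one_smul]
    rw [Finset.sum_congr rfl h3, Finset.sum_sub_distrib, hs, zero_sub, Finset.sum_ite_eq',
      if_pos (Finset.mem_univ _)]
    rw [neg_eq_iff_add_eq_zero]
    exact add_self2 h2 _
  obtain ⟨g, hg⟩ := move1 (n := 7) (by norm_num) 0 i
  rw [← hg, ← hv, Cop_comm, h0]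

/-- the last step of `seven_main` -/
theorem no_thirteen (h2 : (2 : F) = 0) (hinv : σ.invariants = ⊥) {U R : Submodule F (I27 → F)} (hUR : U ≤ R)
    (hU : ∀ g, ∀ x ∈ U, σ g x ∈ U) (hR : ∀ g, ∀ x ∈ R, σ g x ∈ R) (hfr : finrank F R = finrank F U + 1)
    (hC : ∀ x ∈ U, Cop σ x = x) : False := by
  have h1 : ∃ r ∈ R, r ∉ U := by
    by_contra h
    push Not at h
    have h3 : R ≤ U := h
    have := Submodule.finrank_mono h3
    omega
  obtain ⟨r, hr, hrU⟩ := h1
  have h3 := fun g => triv_quot (by norm_num) hUR hU hR hfr.le hr g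
  have h4 : Cop σ r ∈ U := by
    have h5 : Cop σ r = ∑ p ∈ trip 7, (σ (tau p) r - r) + ∑ p ∈ trip 7, r := by
      rw [Cop_apply, ← Finset.sum_add_distrib]
      apply Finset.sum_congr rfl
      intro p _
      rw [sub_add_cancel]
    rw [h5, Finset.sum_const, card_trip7, ← Nat.cast_smul_eq_nsmul F]
    have : ((210 : ℕ) : F) = 0 := by
      rw [show (210 : ℕ) = 2 * 105 by norm_num, Nat.cast_mul, Nat.cast_ofNat, h2, zero_mul]
    rw [this, zero_smul, add_zero]
    exact U.sum_mem fun p _ => h3 _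
  have h5 : r + Cop σ r = 0 := by
    apply mem_inv hinv
    intro g
    obtain ⟨w, hw, hgr⟩ : ∃ w ∈ U, σ g r = r + w := ⟨_, h3 g, by rw [add_sub_cancel]⟩
    rw [map_add, ← Cop_comm, hgr, map_add, hC w hw]
    have : r + w + (Cop σ r + w) = r + Cop σ r + (w + w) := by abel
    rw [this, add_self2 h2, add_zero]
  apply hrU
  rw [eq_of_add2 h2 h5]
  exact h4

theorem Cop_span {ι : Type*} {f : ι → I27 → F} (h : ∀ i, Cop σ (f i) = f i) :
    ∀ x ∈ Submodule.span F (Set.range f), Cop σ x = x := by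
  intro x hx
  induction hx using Submodule.span_induction with
  | mem x hx => obtain ⟨i, rfl⟩ := hx; exact h i
  | zero => exact map_zero _
  | add a b _ _ ha hb => rw [map_add, ha, hb]
  | smul c a _ ha => rw [map_smul, ha]

end

theorem span_stable {G : Type*} [Group G] {σ : Representation F G (I27 → F)} {ι : Type*} {f : ι → I27 → F}
    (h : ∀ g i, ∃ j, σ g (f i) = f j) (g : G) : ∀ x ∈ Submodule.span F (Set.range f),
      σ g x ∈ Submodule.span F (Set.range f) := by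
  intro x hx
  induction hx using Submodule.span_induction with
  | mem x hx =>
    obtain ⟨i, rfl⟩ := hx
    obtain ⟨j, hj⟩ := h g i
    rw [hj]
    exact Submodule.subset_span ⟨j, rfl⟩
  | zero => rw [map_zero]; exact Submodule.zero_mem _
  | add a b _ _ ha hb => rw [map_add]; exact Submodule.add_mem _ ha hb
  | smul c a _ ha => rw [map_smul]; exact Submodule.smul_mem _ _ ha

end Cfsg.Agent.H905.E6T
end

-- part: H905/E6T/SevenMain
section
/-!
# S5927, characteristic 2, `A₇`: the main lemma (helper905)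

`seven_main` : `A₇` acts on `V`, `V'` without fixed vectors, `v 0`, `v 1` two independent equivariant families in `V`;
then `cr (v k i) (v k j) = 0`. `seven_kill` : no totally singular 6-spaces: contradiction.
-/

set_option autoImplicit false
set_option linter.unusedSectionVars false
set_option linter.unusedSimpArgs false
set_option linter.unusedTactic false

namespace Cfsg.Agent.H905.E6T

open Cfsg Cfsg.Lie Module Equiv
open Cfsg.Agent.ChevalleyStructure.E6Min.Tables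
open Cfsg.Agent.H952.F4 (ev es sh cr tf tr1 u0)
open Cfsg.Agent.H952.F4.Jord Cfsg.Agent.H163.E6

universe u

variable {F : Type u} [Field F]

section

variable {n : ℕ} {σ σ' : Representation F ↥(alternatingGroup (Fin n)) (I27 → F)}

/-- the products of the members of a family -/
theorem fam2_cr (h2 : (2 : F) = 0) (hP : PD σ σ') {v : Fin n → I27 → F} (hv : Fam σ v) :
    Fam2 σ' (fun i j => cr (v i) (v j)) :=
  ⟨fun g i j => by rw [← hP.hcr, hv, hv], fun i j => cr_comm _ _, fun i => cr_self2 h2 _⟩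

theorem star_cr {v : Fin n → I27 → F} (hs : ∑ i, v i = 0) (x : I27 → F) : ∑ j, cr x (v j) = 0 := by
  have h1 : ∀ s : Finset (Fin n), ∑ j ∈ s, cr x (v j) = cr x (∑ j ∈ s, v j) := by
    intro s
    exact (map_sum (crB F x) v s).symm
  rw [h1, hs, cr_zero_right]

theorem star_tf {v : Fin n → I27 → F} (hs : ∑ i, v i = 0) (x : I27 → F) : ∑ j, tf x (v j) = 0 := by
  have h1 : ∀ s : Finset (Fin n), ∑ j ∈ s, tf x (v j) = tf x (∑ j ∈ s, v j) := by
    intro s
    exact (map_sum (tfB F x) v s).symm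
  rw [h1, hs, tf_zero_right]

theorem star_tf' {w : Fin n → I27 → F} (hs : ∑ i, w i = 0) (x : I27 → F) : ∑ j, tf (w j) x = 0 := by
  rw [← star_tf hs x]
  exact Finset.sum_congr rfl fun j _ => tf_comm _ _

/-- the first member of a family determines it -/
theorem fam_eq_zero (hn : 3 ≤ n) {v : Fin n → I27 → F} (hv : Fam σ v) {i : Fin n} (h : v i = 0) (j : Fin n) :
    v j = 0 := by
  obtain ⟨g, hg⟩ := move1 hn i j
  rw [← hg, ← hv, h, map_zero]

end

section

variable {σ σ' : Representation F ↥(alternatingGroup (Fin 7)) (I27 → F)}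

theorem all7 {w : Fin 7 → Fin 7 → I27 → F}
    (h : ∑ p ∈ Finset.univ.filter (fun p : Fin 7 × Fin 7 => p.1 < p.2), w p.1 p.2 = 0) :
    w 0 1 + w 0 2 + w 0 3 + w 0 4 + w 0 5 + w 0 6 + w 1 2 + w 1 3 + w 1 4 + w 1 5 + w 1 6 + w 2 3 + w 2 4 + w 2 5 +
      w 2 6 + w 3 4 + w 3 5 + w 3 6 + w 4 5 + w 4 6 + w 5 6 = 0 := by
  rw [← h]
  have h1 : (Finset.univ.filter fun p : Fin 7 × Fin 7 => p.1 < p.2) =
      {(0, 1), (0, 2), (0, 3), (0, 4), (0, 5), (0, 6), (1, 2), (1, 3), (1, 4), (1, 5), (1, 6), (2, 3), (2, 4), (2, 5),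
        (2, 6), (3, 4), (3, 5), (3, 6), (4, 5), (4, 6), (5, 6)} := by decide +kernel
  rw [h1]
  repeat rw [Finset.sum_insert (by decide +kernel)]
  rw [Finset.sum_singleton]
  simp only [add_assoc]

/-- if a 4-cycle vanishes everything vanishes -/
theorem w_zero7 (h2 : (2 : F) = 0) (hinv : σ.invariants = ⊥) {w : Fin 7 → Fin 7 → I27 → F} (hw : Fam2 σ w)
    (hstar : ∀ i, ∑ j, w i j = 0) (hZ : Z w 0 1 2 3 = 0) (i j : Fin 7) : w i j = 0 := by
  have hz : ∀ y : I27 → F, y + y = 0 := fun y => add_self2 h2 y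
  have hZ' : ∀ {a b c d : Fin 7}, a ≠ b → a ≠ c → a ≠ d → b ≠ c → b ≠ d → c ≠ d → Z w a b c d = 0 :=
    fun h1 h2 h3 h4 h5 h6 => Z_zero (by norm_num) hw hZ (by decide) (by decide) (by decide) (by decide) (by decide)
      (by decide) h1 h2 h3 h4 h5 h6
  have hcd : ∀ {a b c d : Fin 7}, a ≠ b → a ≠ c → a ≠ d → b ≠ c → b ≠ d → c ≠ d →
      w a d + w b d = w a c + w b c := by
    intro a b c d h1 h2' h3 h4 h5 h6
    have h := hZ' h1 h2' h3 h4 h5 h6
    rw [Z, add_assoc (w a c + w b c)] at h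
    exact (eq_of_add2 h2 h).symm
  have e3 := hcd (a := 0) (b := 1) (c := 2) (d := 3) (by decide) (by decide) (by decide) (by decide) (by decide) (by decide)
  have e4 := hcd (a := 0) (b := 1) (c := 2) (d := 4) (by decide) (by decide) (by decide) (by decide) (by decide) (by decide)
  have e5 := hcd (a := 0) (b := 1) (c := 2) (d := 5) (by decide) (by decide) (by decide) (by decide) (by decide) (by decide)
  have e6 := hcd (a := 0) (b := 1) (c := 2) (d := 6) (by decide) (by decide) (by decide) (by decide) (by decide) (by decide)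
  have hs : ∑ l, (w 0 l + w 1 l) = 0 := by rw [Finset.sum_add_distrib, hstar, hstar, add_zero]
  rw [Fin.sum_univ_seven, e3, e4, e5, e6, hw.diag, hw.diag, hw.comm 1 0] at hs
  have h12 : w 0 2 = w 1 2 := by
    apply eq_of_add2 h2
    rw [← hs]
    have : 0 + w 0 1 + (w 0 1 + 0) + (w 0 2 + w 1 2) + (w 0 2 + w 1 2) + (w 0 2 + w 1 2) + (w 0 2 + w 1 2) +
        (w 0 2 + w 1 2) = (w 0 1 + w 0 1) + ((w 0 2 + w 1 2) + (w 0 2 + w 1 2)) + ((w 0 2 + w 1 2) + (w 0 2 + w 1 2)) +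
        (w 0 2 + w 1 2) := by abel
    rw [this]
    simp only [hz, zero_add]
  have hrow : ∀ {a b c : Fin 7}, a ≠ b → a ≠ c → b ≠ c → w a c = w b c := by
    intro a b c hab hac hbc
    obtain ⟨g, g0, g1, g2⟩ := move3 (n := 7) (by norm_num) (a := 0) (b := 1) (c := 2) (by decide) (by decide)
      (by decide) hab hac hbc
    rw [← g0, ← g1, ← g2, ← hw.act, ← hw.act, h12]
  have hconst : ∀ {a b : Fin 7}, a ≠ b → w a b = w 0 1 := by
    intro a b hab
    by_cases hb : b = 0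
    · subst hb
      by_cases ha : a = 1
      · subst ha; exact hw.comm _ _
      · rw [hrow (a := a) (b := 1) (c := 0) ha hab (by decide), hw.comm]
    · by_cases ha : a = 0
      · subst ha
        by_cases hb1 : b = 1
        · rw [hb1]
        · rw [hw.comm 0 b, hrow (a := b) (b := 1) (c := 0) hb1 hab.symm (by decide), hw.comm]
      · rw [hrow (a := a) (b := 0) (c := b) ha hab (Ne.symm hb)]
        by_cases hb1 : b = 1
        · rw [hb1]
        · rw [hw.comm 0 b, hrow (a := b) (b := 1) (c := 0) hb1 hb (by decide), hw.comm]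
  have hall := all7 (fam2_all hw hinv)
  have h01 : w 0 1 = 0 := by
    simp only [hconst (show (0 : Fin 7) ≠ 2 by decide), hconst (show (0 : Fin 7) ≠ 3 by decide),
      hconst (show (0 : Fin 7) ≠ 4 by decide), hconst (show (0 : Fin 7) ≠ 5 by decide),
      hconst (show (0 : Fin 7) ≠ 6 by decide), hconst (show (1 : Fin 7) ≠ 2 by decide),
      hconst (show (1 : Fin 7) ≠ 3 by decide), hconst (show (1 : Fin 7) ≠ 4 by decide),
      hconst (show (1 : Fin 7) ≠ 5 by decide), hconst (show (1 : Fin 7) ≠ 6 by decide),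
      hconst (show (2 : Fin 7) ≠ 3 by decide), hconst (show (2 : Fin 7) ≠ 4 by decide),
      hconst (show (2 : Fin 7) ≠ 5 by decide), hconst (show (2 : Fin 7) ≠ 6 by decide),
      hconst (show (3 : Fin 7) ≠ 4 by decide), hconst (show (3 : Fin 7) ≠ 5 by decide),
      hconst (show (3 : Fin 7) ≠ 6 by decide), hconst (show (4 : Fin 7) ≠ 5 by decide),
      hconst (show (4 : Fin 7) ≠ 6 by decide), hconst (show (5 : Fin 7) ≠ 6 by decide), hz, zero_add] at hall
    exact hall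
  by_cases hij : i = j
  · rw [hij, hw.diag]
  · rw [hconst hij, h01]

/-- the span of the `w i j` has dimension 14 -/
theorem finrank14 (h2 : (2 : F) = 0) (hinv : σ.invariants = ⊥) {w : Fin 7 → Fin 7 → I27 → F} (hw : Fam2 σ w)
    (hstar : ∀ i, ∑ j, w i j = 0) (hZ : Z w 0 1 2 3 ≠ 0) :
    finrank F (Submodule.span F (Set.range fun p : Fin 7 × Fin 7 => w p.1 p.2)) = 14 := by
  have hli := indep h2 (by norm_num) good7 hw (z0 := 0) (z1 := 1) (z2 := 2) (z3 := 3) rfl rfl rfl rfl hZ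
  have h1 := finrank_span_eq_card hli
  rw [card_BP7] at h1
  have h3 : Submodule.span F (Set.range fun p : Fin 7 × Fin 7 => w p.1 p.2) =
      Submodule.span F (Set.range fun p : {p : Fin 7 × Fin 7 // BP p} => w p.1.1 p.1.2) := by
    apply le_antisymm
    · set S := Submodule.span F (Set.range fun p : {p : Fin 7 × Fin 7 // BP p} => w p.1.1 p.1.2) with hS
      have hB : ∀ i j : Fin 7, BP (i, j) → S.mkQ (w i j) = 0 := by
        intro i j hij
        rw [Submodule.mkQ_apply, Submodule.Quotient.mk_eq_zero]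
        exact Submodule.subset_span ⟨⟨(i, j), hij⟩, rfl⟩
      have hst : ∀ i, ∑ j, S.mkQ (w i j) = 0 := by
        intro i
        rw [← map_sum, hstar, map_zero]
      have hz : ∀ y : (I27 → F) ⧸ S, y + y = 0 := fun y => add_self2 h2 y
      have b13 := hB 1 3 (by decide)
      have b14 := hB 1 4 (by decide)
      have b15 := hB 1 5 (by decide)
      have b16 := hB 1 6 (by decide)
      have b23 := hB 2 3 (by decide)
      have b24 := hB 2 4 (by decide)
      have b25 := hB 2 5 (by decide)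
      have b26 := hB 2 6 (by decide)
      have b34 := hB 3 4 (by decide)
      have b35 := hB 3 5 (by decide)
      have b36 := hB 3 6 (by decide)
      have b45 := hB 4 5 (by decide)
      have b46 := hB 4 6 (by decide)
      have b56 := hB 5 6 (by decide)
      have s1 := hst 1
      have s2 := hst 2
      have s3 := hst 3
      have s4 := hst 4
      have s5 := hst 5
      have s6 := hst 6
      rw [Fin.sum_univ_seven, hw.diag, map_zero] at s1 s2 s3 s4 s5 s6
      rw [b13, b14, b15, b16, hw.comm 1 0] at s1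
      rw [b23, b24, b25, b26, hw.comm 2 0, hw.comm 2 1] at s2
      rw [b34, b35, b36, hw.comm 3 0, hw.comm 3 1, hw.comm 3 2, b13, b23] at s3
      rw [b45, b46, hw.comm 4 0, hw.comm 4 1, hw.comm 4 2, hw.comm 4 3, b14, b24, b34] at s4
      rw [b56, hw.comm 5 0, hw.comm 5 1, hw.comm 5 2, hw.comm 5 3, hw.comm 5 4, b15, b25, b35, b45] at s5
      rw [hw.comm 6 0, hw.comm 6 1, hw.comm 6 2, hw.comm 6 3, hw.comm 6 4, hw.comm 6 5, b16, b26, b36, b46, b56] at s6
      simp only [add_zero] at s1 s2 s3 s4 s5 s6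
      have hall := congrArg S.mkQ (all7 (fam2_all hw hinv))
      simp only [map_add, map_zero, b13, b14, b15, b16, b23, b24, b25, b26, b34, b35, b36, b45, b46, b56, s3, s4, s5,
        s6, add_zero] at hall
      have h12 : S.mkQ (w 1 2) = 0 := by
        have e1 := eq_of_add2 h2 s1
        have e2 := eq_of_add2 h2 s2
        rw [e1, e2, hz, zero_add] at hall
        exact hall
      rw [h12, add_zero] at s1 s2
      have key : ∀ i j : Fin 7, S.mkQ (w i j) = 0 := by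
        have k1 : ∀ i j : Fin 7, i < j → S.mkQ (w i j) = 0 := by
          intro i j hij
          fin_cases i <;> fin_cases j <;> first | exact absurd hij (by decide) | assumption
        intro i j
        rcases lt_trichotomy i j with h | h | h
        · exact k1 i j h
        · rw [h, hw.diag, map_zero]
        · rw [hw.comm]; exact k1 j i h
      rw [Submodule.span_le]
      rintro _ ⟨p, rfl⟩
      have := key p.1 p.2
      rw [Submodule.mkQ_apply, Submodule.Quotient.mk_eq_zero] at this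
      exact this
    · apply Submodule.span_mono
      rintro _ ⟨p, rfl⟩
      exact ⟨p.1, rfl⟩
  rw [h3, h1]

/-- orthogonality -/
theorem tf_zero7 (h2 : (2 : F) = 0) (hP : PD σ σ') {w : Fin 7 → Fin 7 → I27 → F} (hw : Fam2 σ' w)
    (hstar : ∀ i, ∑ j, w i j = 0) {u : Fin 7 → I27 → F} (hu : Fam σ u) (hus : ∑ i, u i = 0) (i j k : Fin 7) :
    tf (w i j) (u k) = 0 := by
  have act : ∀ (g : ↥(alternatingGroup (Fin 7))) (i j k : Fin 7),
      tf (w ((g : Perm (Fin 7)) i) ((g : Perm (Fin 7)) j)) (u ((g : Perm (Fin 7)) k)) = tf (w i j) (u k) := by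
    intro g i j k
    rw [← hw.act, ← hu, hP.symm.htf]
  have hz : ∀ y : F, y + y = 0 := fun y => by rw [← two_mul, h2, zero_mul]
  have e1 : ∀ {a b c : Fin 7}, a ≠ b → a ≠ c → b ≠ c → tf (w a b) (u c) = tf (w 0 1) (u 2) := by
    intro a b c hab hac hbc
    obtain ⟨g, g0, g1, g2⟩ := move3 (n := 7) (by norm_num) (a := 0) (b := 1) (c := 2) (by decide) (by decide)
      (by decide) hab hac hbc
    rw [← g0, ← g1, ← g2, act]
  have e2 : ∀ {a b : Fin 7}, a ≠ b → tf (w a b) (u a) = tf (w 0 1) (u 0) := by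
    intro a b hab
    obtain ⟨g, g0, g1⟩ := move2 (n := 7) (by norm_num) (a := 0) (b := 1) (by decide) hab
    rw [← g0, ← g1, act]
  have e3 : ∀ {a b : Fin 7}, a ≠ b → tf (w a b) (u b) = tf (w 0 1) (u 0) := by
    intro a b hab
    rw [hw.comm, e2 hab.symm]
  have s1 := star_tf hus (w 0 1)
  rw [Fin.sum_univ_seven, e3 (a := 0) (b := 1) (by decide), e1 (a := 0) (b := 1) (c := 3) (by decide) (by decide) (by decide),
    e1 (a := 0) (b := 1) (c := 4) (by decide) (by decide) (by decide),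
    e1 (a := 0) (b := 1) (c := 5) (by decide) (by decide) (by decide),
    e1 (a := 0) (b := 1) (c := 6) (by decide) (by decide) (by decide)] at s1
  have h012 : tf (w 0 1) (u 2) = 0 := by
    have : tf (w 0 1) (u 0) + tf (w 0 1) (u 0) + tf (w 0 1) (u 2) + tf (w 0 1) (u 2) + tf (w 0 1) (u 2) +
        tf (w 0 1) (u 2) + tf (w 0 1) (u 2) = (tf (w 0 1) (u 0) + tf (w 0 1) (u 0)) +
        (tf (w 0 1) (u 2) + tf (w 0 1) (u 2)) + (tf (w 0 1) (u 2) + tf (w 0 1) (u 2)) + tf (w 0 1) (u 2) := by ring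
    rw [this] at s1
    simpa only [hz, zero_add] using s1
  have s2 := star_tf' (hstar 0) (u 1)
  rw [Fin.sum_univ_seven, hw.diag, tf_zero_left, e1 (a := 0) (b := 2) (c := 1) (by decide) (by decide) (by decide),
    e1 (a := 0) (b := 3) (c := 1) (by decide) (by decide) (by decide),
    e1 (a := 0) (b := 4) (c := 1) (by decide) (by decide) (by decide),
    e1 (a := 0) (b := 5) (c := 1) (by decide) (by decide) (by decide),
    e1 (a := 0) (b := 6) (c := 1) (by decide) (by decide) (by decide), h012,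
    e3 (a := 0) (b := 1) (by decide)] at s2
  have h010 : tf (w 0 1) (u 0) = 0 := by simpa using s2
  by_cases hij : i = j
  · rw [hij, hw.diag, tf_zero_left]
  by_cases hik : i = k
  · rw [← hik, e2 hij, h010]
  by_cases hjk : j = k
  · rw [← hjk, e3 hij, h010]
  rw [e1 hij hik hjk, h012]

/-- linear independence of the members of two families -/
theorem indep_two (h2 : (2 : F) = 0) (hinv : σ.invariants = ⊥) {κ : Type*} [Fintype κ] {v : κ → Fin 7 → I27 → F}
    (hv : ∀ k, Fam σ (v k)) (hi : LinearIndependent F (fun k => v k 0)) :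
    LinearIndependent F (fun p : κ × Fin 6 => v p.1 p.2.succ) := by
  rw [Fintype.linearIndependent_iff] at hi ⊢
  intro c hc p
  let c' : κ → Fin 7 → F := fun k => Fin.cons 0 (fun i => c (k, i))
  have h3 : ∑ k, ∑ i, c' k i • v k i = 0 := by
    rw [← hc, Fintype.sum_prod_type]
    apply Finset.sum_congr rfl
    intro k _
    rw [Fin.sum_univ_succ]
    simp [c']
  have h4 := fam_rel h2 (by norm_num) hinv hv h3 (a := 0) (b := p.2.succ) (Fin.succ_ne_zero _).symm 0
  have h5 := hi _ h4 p.1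
  simpa [c'] using h5

/-- the main lemma -/
theorem seven_main (h2 : (2 : F) = 0) (hP : PD σ σ') (hinv : σ.invariants = ⊥) (hinv' : σ'.invariants = ⊥)
    {v : Fin 2 → Fin 7 → I27 → F} (hv : ∀ k, Fam σ (v k)) (hi : LinearIndependent F (fun k => v k 0)) (i j : Fin 7) :
    cr (v 0 i) (v 0 j) = 0 := by
  obtain ⟨w, hwd⟩ : ∃ w : Fin 7 → Fin 7 → I27 → F, w = fun i j => cr (v 0 i) (v 0 j) := ⟨_, rfl⟩
  have hw : Fam2 σ' w := by rw [hwd]; exact fam2_cr h2 hP (hv 0)
  have hs : ∀ k, ∑ i, v k i = 0 := fun k => fam_sum hinv (hv k)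
  have hstar : ∀ i, ∑ j, w i j = 0 := fun i => by rw [hwd]; exact star_cr (hs 0) _
  have hwij : cr (v 0 i) (v 0 j) = w i j := by rw [hwd]
  rw [hwij]
  clear hwd hwij
  by_cases hZ : Z w 0 1 2 3 = 0
  · exact w_zero7 h2 hinv' hw hstar hZ i j
  exfalso
  set M := Submodule.span F (Set.range fun p : Fin 7 × Fin 7 => w p.1 p.2) with hM
  have h14 : finrank F M = 14 := finrank14 h2 hinv' hw hstar hZ
  set U := Submodule.span F (Set.range fun p : Fin 2 × Fin 7 => v p.1 p.2) with hU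
  have hMs : ∀ g, ∀ x ∈ M, σ' g x ∈ M :=
    span_stable fun g p => ⟨((g : Perm (Fin 7)) p.1, (g : Perm (Fin 7)) p.2), hw.act g p.1 p.2⟩
  have hUs : ∀ g, ∀ x ∈ U, σ g x ∈ U := span_stable fun g p => ⟨(p.1, (g : Perm (Fin 7)) p.2), hv p.1 g p.2⟩
  have hUR : U ≤ perp M := by
    rw [hU, Submodule.span_le]
    rintro _ ⟨p, rfl⟩
    rw [SetLike.mem_coe, hM, perp_span]
    intro q
    exact tf_zero7 h2 hP hw hstar (hv p.1) (hs p.1) q.1 q.2 p.2
  have h12 : finrank F U = 12 := by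
    have h3 := finrank_span_eq_card (indep_two h2 hinv hv hi)
    rw [Fintype.card_prod, Fintype.card_fin, Fintype.card_fin] at h3
    have h4 : U = Submodule.span F (Set.range fun p : Fin 2 × Fin 6 => v p.1 p.2.succ) := by
      apply le_antisymm
      · rw [hU, Submodule.span_le]
        rintro _ ⟨⟨k, i⟩, rfl⟩
        refine Fin.cases ?_ (fun i => ?_) i
        · have h5 := hs k
          rw [Fin.sum_univ_succ, add_eq_zero_iff_eq_neg] at h5
          change v k 0 ∈ _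
          rw [h5]
          exact Submodule.neg_mem _ (Submodule.sum_mem _ fun i _ => Submodule.subset_span ⟨(k, i), rfl⟩)
        · exact Submodule.subset_span ⟨(k, i), rfl⟩
      · rw [Submodule.span_le]
        rintro _ ⟨⟨k, i⟩, rfl⟩
        exact Submodule.subset_span ⟨(k, i.succ), rfl⟩
    rw [h4, h3]
  have h13 := finrank_perp M
  exact no_thirteen h2 hinv hUR hUs (fun g x hx => hP.perp_mem hMs g hx) (by omega)
    (Cop_span fun p => Cop_fam h2 (hv p.1) (hs p.1) p.2)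

end

end Cfsg.Agent.H905.E6T
end

-- part: H905/E6T/SevenKill
section
/-!
# S5927, characteristic 2, `A₇` (helper905)

`fam_kill` : an equivariant family with vanishing products gives a totally singular 6-space.
`seven_kill` : `A₇` in characteristic 2, without fixed vectors and totally singular 6-spaces: contradiction.
-/

set_option autoImplicit false
set_option linter.unusedSectionVars false
set_option linter.unusedSimpArgs false
set_option linter.unusedTactic false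
set_option linter.unusedVariables false

namespace Cfsg.Agent.H905.E6T

open Cfsg Cfsg.Lie Module Equiv
open Cfsg.Agent.ChevalleyStructure.E6Min.Tables
open Cfsg.Agent.H952.F4 (ev es sh cr tf tr1 u0 GenT)
open Cfsg.Agent.H952.F4.Jord Cfsg.Agent.H163.E6

universe u

variable {F : Type u} [Field F]

/-- no totally singular stable subspace of dimension 6 -/
def NoSix {G : Type*} [Group G] (σ : Representation F G (I27 → F)) : Prop :=
  ∀ W : Submodule F (I27 → F), (∀ g, ∀ w ∈ W, σ g w ∈ W) → finrank F W = 6 → TS W → False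

/-- restriction to `A_m` -/
noncomputable def res {m n : ℕ} (h : m ≤ n) (σ : Representation F ↥(alternatingGroup (Fin n)) (I27 → F)) :
    Representation F ↥(alternatingGroup (Fin m)) (I27 → F) := MonoidHom.comp σ (io h)

theorem res_apply {m n : ℕ} (h : m ≤ n) (σ : Representation F ↥(alternatingGroup (Fin n)) (I27 → F))
    (g : ↥(alternatingGroup (Fin m))) : res h σ g = σ (io h g) := rfl

theorem PD.res {m n : ℕ} (h : m ≤ n) {σ σ' : Representation F ↥(alternatingGroup (Fin n)) (I27 → F)} (hP : PD σ σ') :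
    PD (res h σ) (res h σ') := hP.comp (io h)

private noncomputable def _root_.Cfsg.Agent.LsF.f108ca7_3 : {f // @Cfsg.Agent.H952.F4.Gen.ev = f} := ⟨_, by first | (delta Cfsg.Agent.H952.F4.Gen.ev; rewrite [Cfsg.Agent.LsF.vecCons_eq, Cfsg.Agent.LsF.map_eq, Cfsg.Agent.LsF.prod_eq]; exact rfl) | exact rfl⟩
theorem gen6c : GenT 6 {2, 2} {4, 2} {5} :=
  Cfsg.Agent.H952.F4.Gen.genT_of (n := 4) (c[0, 1] * c[2, 3]) (c[0, 1, 3, 4] * c[2, 5]) (by decide +kernel)
    (by decide +kernel)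
    ![[], [], [3, 0, 2, 0, 3, 0, 2, 2, 0, 3, 0], [2, 0, 2, 2, 0, 2, 0, 3, 0, 2, 0],
      [0, 2, 2, 0, 2, 0, 3, 0, 2, 0, 2], [2, 2, 0, 2, 0, 3, 0, 2, 2, 0]]
    (by (refine of_decide_eq_true ?_; (try (rewrite [Cfsg.Agent.LsF.f108ca7_3.2, Cfsg.Agent.LsF.vecCons_eq, Cfsg.Agent.LsF.finFintype_eq, Cfsg.Agent.LsF.dNot_eq, Cfsg.Agent.LsF.dForallFin_eq])); decide +kernel)) (by decide +kernel) (by decide +kernel) (by decide +kernel)

theorem pow_of_ct {n : ℕ} (g : ↥(alternatingGroup (Fin n))) {s : Multiset ℕ}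
    (h : (g : Perm (Fin n)).cycleType = s) : g ^ s.lcm = 1 := by
  apply Subtype.ext
  have h1 := Perm.lcm_cycleType (g : Perm (Fin n))
  rw [h] at h1
  change (g : Perm (Fin n)) ^ s.lcm = 1
  rw [h1]
  exact pow_orderOf_eq_one _

section

variable {σ σ' : Representation F ↥(alternatingGroup (Fin 7)) (I27 → F)}

/-- the span of a non-zero family -/
theorem finrank_fam (h2 : (2 : F) = 0) (hinv : σ.invariants = ⊥) {v : Fin 7 → I27 → F} (hv : Fam σ v)
    (h0 : v 0 ≠ 0) : finrank F (Submodule.span F (Set.range v)) = 6 := by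
  have h1 := indep_two (κ := Unit) (v := fun _ => v) h2 hinv (fun _ => hv)
    (linearIndependent_unique_iff.2 h0)
  have h3 := finrank_span_eq_card h1
  rw [Fintype.card_prod, Fintype.card_unit, Fintype.card_fin] at h3
  have h4 : Submodule.span F (Set.range v) = Submodule.span F (Set.range fun p : Unit × Fin 6 => v p.2.succ) := by
    apply le_antisymm
    · rw [Submodule.span_le]
      rintro _ ⟨i, rfl⟩
      refine Fin.cases ?_ (fun i => ?_) i
      · have h5 := fam_sum hinv hv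
        rw [Fin.sum_univ_succ, add_eq_zero_iff_eq_neg] at h5
        change v 0 ∈ _
        rw [h5]
        exact Submodule.neg_mem _ (Submodule.sum_mem _ fun i _ => Submodule.subset_span ⟨((), i), rfl⟩)
      · exact Submodule.subset_span ⟨((), i), rfl⟩
    · rw [Submodule.span_le]
      rintro _ ⟨⟨k, i⟩, rfl⟩
      exact Submodule.subset_span ⟨i.succ, rfl⟩
  rw [h4, h3]

/-- consequences of vanishing products -/
theorem fam_sing (h2 : (2 : F) = 0) (hP : PD σ σ') (hinv : σ.invariants = ⊥) {v : Fin 7 → I27 → F} (hv : Fam σ v)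
    (h0 : v 0 ≠ 0) (hcr : ∀ i j, cr (v i) (v j) = 0) :
    (∀ i, cubicT (v i) = 0) ∧ (∀ i j, tf (sh (v i)) (v j) = 0) ∧ (∀ i, sh (sh (v i)) = 0) ∧
      ∀ i j, cr (sh (v i)) (sh (v j)) = 0 := by
  have hv0 : ∀ i, v i ≠ 0 := fun i h => h0 (fam_eq_zero (by norm_num) hv h 0)
  have key : ∀ i j, i ≠ j → cubicT (v i) = 0 ∧ tf (sh (v i)) (v j) = 0 := by
    intro i j hij
    have h1 := cr_sh_cr (v i) (v j)
    rw [hcr, cr_zero_right] at h1
    obtain ⟨k, hki, hkj⟩ : ∃ k : Fin 7, k ≠ i ∧ k ≠ j :=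
      (show ∀ i j : Fin 7, ∃ k : Fin 7, k ≠ i ∧ k ≠ j by decide) i j
    have h3 : ∑ _u : Unit, ∑ l, (if l = i then tf (sh (v i)) (v j) else if l = j then cubicT (v i) else 0) • v l = 0 := by
      rw [Fintype.sum_unique]
      rw [← Finset.sum_subset (Finset.subset_univ {i, j})]
      · rw [Finset.sum_pair hij, if_pos rfl, if_neg hij.symm, if_pos rfl, add_comm]
        exact h1.symm
      · intro l _ hl
        rw [Finset.mem_insert, Finset.mem_singleton, not_or] at hl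
        rw [if_neg hl.1, if_neg hl.2, zero_smul]
    have h4 := fam_rel (v := fun _ : Unit => v) h2 (by norm_num) hinv (fun _ => hv) h3 (a := j) (b := k) hkj.symm j
    have h5 := fam_rel (v := fun _ : Unit => v) h2 (by norm_num) hinv (fun _ => hv) h3 (a := i) (b := k) hki.symm j
    rw [Fintype.sum_unique, if_neg hij.symm, if_pos rfl, if_neg hki, if_neg hkj, add_zero] at h4
    rw [Fintype.sum_unique, if_pos rfl, if_neg hki, if_neg hkj, add_zero] at h5
    exact ⟨(smul_eq_zero.1 h4).resolve_right (hv0 j), (smul_eq_zero.1 h5).resolve_right (hv0 j)⟩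
  have hN : ∀ i, cubicT (v i) = 0 := by
    intro i
    obtain ⟨k, hk⟩ : ∃ k : Fin 7, i ≠ k := (show ∀ i : Fin 7, ∃ k : Fin 7, i ≠ k by decide) i
    exact (key i k hk).1
  have hT : ∀ i j, tf (sh (v i)) (v j) = 0 := by
    intro i j
    by_cases hij : i = j
    · rw [← hij, tf_sh_self, hN, mul_zero]
    · exact (key i j hij).2
  refine ⟨hN, hT, fun i => by rw [sh_sh, hN, zero_smul], ?_⟩
  intro i j
  have h1 := sh_cr (v i) (v j)
  rw [hcr, sh_zero, zero_add, hT, tf_comm (v i), hT, zero_smul, zero_smul, add_zero] at h1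
  exact h1

theorem fam_kill (h2 : (2 : F) = 0) (hP : PD σ σ') (hinv : σ.invariants = ⊥) (hinv' : σ'.invariants = ⊥)
    (h6 : NoSix σ) (h6' : NoSix σ') {v : Fin 7 → I27 → F} (hv : Fam σ v)
    (h0 : v 0 ≠ 0) (hcr : ∀ i j, cr (v i) (v j) = 0) : False := by
  obtain ⟨hN, hT, h3, h4⟩ := fam_sing h2 hP hinv hv h0 hcr
  have hsh : Fam σ' (fun i => sh (v i)) := fun g i => by rw [← hP.hsh, hv]
  by_cases hs : sh (v 0) = 0
  · have hs' : ∀ i, sh (v i) = 0 := fun i => fam_eq_zero (by norm_num) hsh hs i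
    exact h6 (Submodule.span F (Set.range v)) (span_stable fun g i => ⟨_, hv g i⟩)
      (finrank_fam h2 hinv hv h0) (ts_span hs' hcr)
  · exact h6' (Submodule.span F (Set.range fun i => sh (v i))) (span_stable fun g i => ⟨_, hsh g i⟩)
      (finrank_fam h2 hinv' hsh hs) (ts_span h3 h4)

theorem seven_kill_aux (h2 : (2 : F) = 0) (hP : PD σ σ') (hinv : σ.invariants = ⊥) (hinv' : σ'.invariants = ⊥)
    (h6 : NoSix σ) (h6' : NoSix σ')
    (ha : 2 ≤ finrank F (res (show 6 ≤ 7 by norm_num) σ).invariants) : False := by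
  obtain ⟨f, hf⟩ : ∃ f : Fin 2 → (res (show 6 ≤ 7 by norm_num) σ).invariants, LinearIndependent F f :=
    exists_linearIndependent_of_le_finrank ha
  have hx : ∀ k, ∀ g : ↥(alternatingGroup (Fin 7)), (g : Perm (Fin 7)) 6 = 6 → σ g (f k : I27 → F) = f k := by
    intro k g hg
    obtain ⟨g', hg'⟩ := exists_io (show 6 ≤ 7 by norm_num) g (by
      intro i hi
      obtain rfl : i = 6 := Fin.ext (by have := i.2; change i.val = 6; omega)
      exact hg)
    have h1 := (Representation.mem_invariants (res (show 6 ≤ 7 by norm_num) σ) (f k : I27 → F)).1 (f k).2 g'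
    rw [← hg']
    exact h1
  choose v hv hv6 using fun k => exists_fam (n := 7) (by norm_num) 6 (f k : I27 → F) (hx k)
  obtain ⟨g, hg⟩ := move1 (n := 7) (by norm_num) 6 0
  have hi : LinearIndependent F (fun k => v k 0) := by
    have h1 : LinearIndependent F (fun k => (f k : I27 → F)) := hf.map' (Submodule.subtype _) (Submodule.ker_subtype _)
    have h3 : Function.Injective (σ g) := fun a b hab => by rw [← inv_app (σ := σ) g a, hab, inv_app]
    have h4 := h1.map' (σ g) (LinearMap.ker_eq_bot.2 h3)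
    have h5 : (fun k => v k 0) = (σ g) ∘ (fun k => (f k : I27 → F)) := by
      funext k
      rw [Function.comp_apply, ← hv6 k, hv, hg]
    rw [h5]
    exact h4
  have hcr := seven_main h2 hP hinv hinv' hv hi
  exact fam_kill h2 hP hinv hinv' h6 h6' (hv 0) (hi.ne_zero 0) hcr

/-- `A₇` in characteristic 2 -/
theorem seven_kill (h2 : (2 : F) = 0) (hP : PD σ σ') (hinv : σ.invariants = ⊥) (hinv' : σ'.invariants = ⊥)
    (h6 : NoSix σ) (h6' : NoSix σ') (h15 : ∀ g, g * g = 1 → 15 ≤ ev (σ g) 1) (h8 : ∀ g, g ^ 4 = 1 → 8 ≤ ev (σ g) 1)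
    (h5 : ∀ g : ↥(alternatingGroup (Fin 7)), (g : Perm (Fin 7)).cycleType = {5} → 7 ≤ ev (σ g) 1) : False := by
  obtain ⟨x, y, hgen, hx, hy, hxy⟩ := gen6c
  have h1 := (hP.res (show 6 ≤ 7 by norm_num)).scott hgen
  have h3 := h15 (io (show 6 ≤ 7 by norm_num) x) (by
    rw [← map_mul]
    have := pow_of_ct x hx
    rw [show ({2, 2} : Multiset ℕ).lcm = 2 by decide, pow_two] at this
    rw [this, map_one])
  have h4 := h8 (io (show 6 ≤ 7 by norm_num) y) (by
    rw [← map_pow]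
    have := pow_of_ct y hy
    rw [show ({4, 2} : Multiset ℕ).lcm = 4 by decide] at this
    rw [this, map_one])
  have h7 := h5 (io (show 6 ≤ 7 by norm_num) (x * y)) (by rw [ct_io]; exact hxy)
  rw [res_apply, res_apply, res_apply] at h1
  rcases le_or_gt 2 (finrank F (res (show 6 ≤ 7 by norm_num) σ).invariants) with h | h
  · exact seven_kill_aux h2 hP hinv hinv' h6 h6' h
  · exact seven_kill_aux h2 hP.symm hinv' hinv h6' h6 (by omega)

end

end Cfsg.Agent.H905.E6T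
end

private theorem dce_8919f5dea097 : _root_.True := by
  try have : _root_.True := by simp only [_root_.Cfsg.Agent.H905.E6T.trip.eq_1]
  try have : _root_.True := by simp only [_root_.Cfsg.Agent.H905.E6T.kap.eq_1]
  try have : _root_.True := by simp only [_root_.Cfsg.Agent.H905.E6T.Z.eq_1]
  try have : _root_.True := by simp only [_root_.Cfsg.Agent.H905.E6T.Cop.eq_1]
  try have : _root_.True := by simp only [_root_.Cfsg.Agent.H905.E6T.tau.eq_1]
  exact _root_.True.intro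
end

-- part: H906/E6/SixC
section
prune_inst 0x4204400006200000018808203000020480004020040000048400a040a80a462090120401c20001200080844400d006001000030420000000a0004000119008008811006b1580000020096000000000000000000000000000000000000010004000000000
set_option linter.all false
open scoped Cfsg.Agent.FastGrp

/-!
# S5927, S5928, `p = 2`, three-fold cover of `A₆`: a stable subspace of dimension 3 (helper906)

Abstract part (`Hexa`): `P → A₆` a central extension with kernel of exponent 3, `v` a vector whose line is stable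
under the stabilizer of the point `5`. Then there is a stable subspace of dimension 3 (the hexacode, or the span of the
six lines).

`SixC.exists_three`: for a three-fold cover `Cover φ ω` in characteristic 2, a stable subspace of dimension three in one of
the two 27-dimensional modules.
-/

set_option autoImplicit false


namespace Cfsg.Agent.H906.E6.Hexa

open Module Equiv

/-- the alternating group -/
abbrev A6 := ↥(alternatingGroup (Fin 6))

def mk (σ : Perm (Fin 6)) (h : Perm.sign σ = 1) : A6 := ⟨σ, Perm.mem_alternatingGroup.2 h⟩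

def a1 : A6 := mk (swap (0 : Fin 6) 1 * swap (2 : Fin 6) 3) (by decide)
def a2 : A6 := mk (swap (0 : Fin 6) 2 * swap (1 : Fin 6) 3) (by decide)
def a3 : A6 := mk (swap (0 : Fin 6) 3 * swap (1 : Fin 6) 2) (by decide)
def g1 : A6 := mk (swap (0 : Fin 6) 1 * swap (3 : Fin 6) 4) (by decide)
def g2 : A6 := mk (swap (2 : Fin 6) 4 * swap (3 : Fin 6) 5) (by decide)
def e0 : A6 := mk (swap (0 : Fin 6) 4 * swap (1 : Fin 6) 2) (by decide)
def e1 : A6 := mk (swap (1 : Fin 6) 4 * swap (0 : Fin 6) 2) (by decide)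
def e2 : A6 := mk (swap (2 : Fin 6) 4 * swap (0 : Fin 6) 1) (by decide)
def h1 : A6 := mk (swap (0 : Fin 6) 1 * swap (4 : Fin 6) 5) (by decide)
def h2 : A6 := mk (swap (0 : Fin 6) 4 * swap (1 : Fin 6) 5) (by decide)
def h3 : A6 := mk (swap (0 : Fin 6) 5 * swap (1 : Fin 6) 4) (by decide)
/-- `(0 1 2)` -/
def tx : A6 := mk (swap (0 : Fin 6) 1 * swap (1 : Fin 6) 2) (by decide)
/-- `(3 4 5)` -/
def ty : A6 := mk (swap (3 : Fin 6) 4 * swap (4 : Fin 6) 5) (by decide)

/-- the Klein group on `{0, 1, 2, 3}` -/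
def E0 : Finset A6 := {1, a1, a2, a3}

theorem four_aux : ∀ σ : Perm (Fin 6), σ 4 = 4 → σ 5 = 5 → (∀ i, σ (σ i) = i) → Perm.sign σ = 1 →
    σ = 1 ∨ σ = swap (0 : Fin 6) 1 * swap (2 : Fin 6) 3 ∨ σ = swap (0 : Fin 6) 2 * swap (1 : Fin 6) 3 ∨ σ = swap (0 : Fin 6) 3 * swap (1 : Fin 6) 2 := by (simp only [↓Cfsg.Agent.PermCode.M, Cfsg.Agent.PermCode.P6.R, Cfsg.Agent.PermCode.B]; decide +kernel)

theorem mem_E0 (a : A6) : a ∈ E0 ↔ a * a = 1 ∧ (a : Perm (Fin 6)) 4 = 4 ∧ (a : Perm (Fin 6)) 5 = 5 := by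
  constructor
  · intro h
    simp only [E0, Finset.mem_insert, Finset.mem_singleton] at h
    rcases h with rfl | rfl | rfl | rfl <;> decide
  · rintro ⟨h1, h4, h5⟩
    have h2 : ∀ i, (a : Perm (Fin 6)) ((a : Perm (Fin 6)) i) = i := by
      intro i
      have := congrArg (fun b : A6 => (b : Perm (Fin 6)) i) h1
      exact this
    have h6 := four_aux a h4 h5 h2 (Perm.mem_alternatingGroup.1 a.2)
    simp only [E0, Finset.mem_insert, Finset.mem_singleton]
    rcases h6 with h6 | h6 | h6 | h6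
    · exact Or.inl (Subtype.ext h6)
    · exact Or.inr (Or.inl (Subtype.ext h6))
    · exact Or.inr (Or.inr (Or.inl (Subtype.ext h6)))
    · exact Or.inr (Or.inr (Or.inr (Subtype.ext h6)))

attribute [local instance high] _root_.Finset.decidableDforallFinset in
theorem E0_closed : ∀ a ∈ E0, ∀ b ∈ E0, a * b = b * a ∧ a * b ∈ E0 := by decide +kernel

/-- stabilizer of the pair `{4, 5}` -/
def Pr (a : A6) : Prop := ((a : Perm (Fin 6)) 4 = 4 ∧ (a : Perm (Fin 6)) 5 = 5) ∨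
  ((a : Perm (Fin 6)) 4 = 5 ∧ (a : Perm (Fin 6)) 5 = 4)

instance (a : A6) : Decidable (Pr a) := by unfold Pr; infer_instance

/-- representatives of the pairs -/
def ns : List A6 := [1, a1, a2, a3, mk (swap (4 : Fin 6) 5 * swap (0 : Fin 6) 1) (by decide), mk (swap (4 : Fin 6) 5 * swap (0 : Fin 6) 3) (by decide),
  mk (swap (4 : Fin 6) 5 * swap (1 : Fin 6) 3) (by decide), mk (swap (4 : Fin 6) 5 * swap (2 : Fin 6) 3) (by decide),
  mk (swap (0 : Fin 6) 1 * swap (1 : Fin 6) 3) (by decide), mk (swap (0 : Fin 6) 1 * swap (0 : Fin 6) 3) (by decide), mk (swap (0 : Fin 6) 1 * swap (1 : Fin 6) 2) (by decide),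
  mk (swap (0 : Fin 6) 1 * swap (0 : Fin 6) 2) (by decide)]

theorem pairs : ∀ p q : Fin 6, p ≠ q → ∃ n ∈ ns, Pr n ∧ ∃ k ∈ ([1, g1, g2] : List A6),
    (((n * k : A6)⁻¹ : A6) : Perm (Fin 6)) p = 4 ∧ (((n * k : A6)⁻¹ : A6) : Perm (Fin 6)) q = 5 ∨
    (((n * k : A6)⁻¹ : A6) : Perm (Fin 6)) p = 5 ∧ (((n * k : A6)⁻¹ : A6) : Perm (Fin 6)) q = 4 := by
  delta Pr
  simp only [↓Cfsg.Agent.PermCode.M, Cfsg.Agent.PermCode.P6.R, Cfsg.Agent.PermCode.B]
  decide +kernel

/-! ### lifts of involutions -/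

/-- a central extension with kernel of exponent 3 -/
structure Ext {P : Type*} [Group P] (π : P →* A6) : Prop where
  surj : Function.Surjective π
  cen : ∀ z, π z = 1 → ∀ b, b * z = z * b
  cube : ∀ z, π z = 1 → z ^ 3 = 1

section ext

variable {P : Type*} [Group P] {π : P →* A6}

theorem Ext.exists_sq (h : Ext π) {a : A6} (ha : a * a = 1) : ∃ b, π b = a ∧ b * b = 1 := by
  obtain ⟨b, rfl⟩ := h.surj a
  have hz : π (b * b) = 1 := by rw [map_mul, ha]
  have h1 := h.cen _ hz b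
  have h3 := h.cube _ hz
  refine ⟨b * (b * b), by rw [map_mul, map_mul, ha, mul_one], ?_⟩
  have h4 : b * (b * b) * (b * (b * b)) = (b * b) ^ 3 := by
    rw [pow_succ, pow_succ, pow_one]
    simp only [mul_assoc]
  rw [h4, h3]

theorem Ext.sq_unique (h : Ext π) {b b' : P} (hb : π b = π b') (h1 : b * b = 1) (h2 : b' * b' = 1) : b = b' := by
  obtain ⟨z, rfl⟩ : ∃ z, b' = b * z := ⟨b⁻¹ * b', by group⟩
  have hz : π z = 1 := by
    rw [map_mul] at hb
    exact (mul_eq_left.1 hb.symm)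
  have h3 := h.cen z hz b
  have h4 : z * z = 1 := by
    have h5 : b * z * (b * z) = b * b * (z * z) := by
      calc b * z * (b * z) = b * (z * b) * z := by simp only [mul_assoc]
        _ = b * (b * z) * z := by rw [h3]
        _ = b * b * (z * z) := by simp only [mul_assoc]
    rw [h5, h1, one_mul] at h2
    exact h2
  have h5 := h.cube z hz
  rw [pow_succ, pow_two, h4, one_mul] at h5
  rw [h5, mul_one]

/-- the lift of order two -/
noncomputable def Ext.s (h : Ext π) (a : A6) : P := if ha : a * a = 1 then (h.exists_sq ha).choose else 1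

theorem Ext.s_spec (h : Ext π) {a : A6} (ha : a * a = 1) : π (h.s a) = a ∧ h.s a * h.s a = 1 := by
  rw [Ext.s, dif_pos ha]
  exact (h.exists_sq ha).choose_spec

theorem Ext.s_one (h : Ext π) : h.s 1 = 1 := by
  have h1 := h.s_spec (one_mul (1 : A6))
  exact h.sq_unique (h1.1.trans (map_one π).symm) h1.2 (one_mul 1)

theorem Ext.s_conj (h : Ext π) {a : A6} (ha : a * a = 1) (b : P) : b * h.s a * b⁻¹ = h.s (π b * a * (π b)⁻¹) := by
  have h1 := h.s_spec ha
  have ha' : π b * a * (π b)⁻¹ * (π b * a * (π b)⁻¹) = 1 := by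
    have : π b * a * (π b)⁻¹ * (π b * a * (π b)⁻¹) = π b * (a * a) * (π b)⁻¹ := by group
    rw [this, ha]
    group
  have h2 := h.s_spec ha'
  refine h.sq_unique ?_ ?_ h2.2
  · rw [map_mul, map_mul, map_inv, h1.1, h2.1]
  · have : b * h.s a * b⁻¹ * (b * h.s a * b⁻¹) = b * (h.s a * h.s a) * b⁻¹ := by group
    rw [this, h1.2]
    group

theorem Ext.s_mul (h : Ext π) {a a' : A6} (ha : a * a = 1) (ha' : a' * a' = 1) (hc : a * a' = a' * a) :
    h.s a * h.s a' = h.s (a * a') := by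
  have h1 := h.s_spec ha
  have h1' := h.s_spec ha'
  have hcc : h.s a * h.s a' = h.s a' * h.s a := by
    have h2 := h.s_conj ha' (h.s a)
    rw [h1.1, hc, mul_inv_cancel_right] at h2
    rw [← mul_inv_eq_iff_eq_mul, h2]
  have haa : a * a' * (a * a') = 1 := by
    calc a * a' * (a * a') = a * (a' * a) * a' := by simp only [mul_assoc]
      _ = a * (a * a') * a' := by rw [hc]
      _ = a * a * (a' * a') := by simp only [mul_assoc]
      _ = 1 := by rw [ha, ha', one_mul]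
  have h2 := h.s_spec haa
  refine h.sq_unique (by rw [map_mul, h1.1, h1'.1, h2.1]) ?_ h2.2
  calc h.s a * h.s a' * (h.s a * h.s a') = h.s a * (h.s a' * h.s a) * h.s a' := by simp only [mul_assoc]
    _ = h.s a * (h.s a * h.s a') * h.s a' := by rw [hcc]
    _ = h.s a * h.s a * (h.s a' * h.s a') := by simp only [mul_assoc]
    _ = 1 := by rw [h1.2, h1'.2, one_mul]

end ext

/-! ### the lines and the operator `N` -/

section main

variable {F : Type*} [Field F] [CharP F 2] {U : Type*} [AddCommGroup U] [Module F U] {P : Type*} [Group P]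
  {π : P →* A6} {ρ : Representation F P U}

omit [CharP F 2] in
theorem rho_mul (b b' : P) (u : U) : ρ (b * b') u = ρ b (ρ b' u) := by rw [map_mul]; rfl

omit [CharP F 2] in
theorem rho_one (u : U) : ρ 1 u = u := by rw [map_one]; rfl

omit [CharP F 2] in
theorem rho_inj (b : P) {u w : U} (h : ρ b u = ρ b w) : u = w := by
  have h1 := congrArg (ρ b⁻¹) h
  rwa [← rho_mul, ← rho_mul, inv_mul_cancel, rho_one, rho_one] at h1

/-- the situation -/
structure Six (h : Ext π) (ρ : Representation F P U) (vv : Fin 6 → U) : Prop where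
  ne : ∀ i, vv i ≠ 0
  line : ∀ b i, ∃ c : F, ρ b (vv i) = c • vv ((π b : Perm (Fin 6)) i)

variable {h : Ext π} {vv : Fin 6 → U}

omit [CharP F 2] in
theorem Six.coef_ne (S : Six h ρ vv) {b : P} {i j : Fin 6} {c : F} (hc : ρ b (vv i) = c • vv j) : c ≠ 0 := by
  rintro rfl
  rw [zero_smul] at hc
  exact S.ne i (rho_inj b (hc.trans (map_zero (ρ b)).symm))

theorem Six.fix (S : Six h ρ vv) {a : A6} (ha : a * a = 1) {i : Fin 6} (hi : (a : Perm (Fin 6)) i = i) :
    ρ (h.s a) (vv i) = vv i := by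
  obtain ⟨c, hc⟩ := S.line (h.s a) i
  have h1 := h.s_spec ha
  rw [h1.1, hi] at hc
  have h2 : (c * c) • vv i = vv i := by
    rw [mul_smul, ← hc, ← map_smul, ← hc, ← rho_mul, h1.2, rho_one]
  have h3 : (c * c - 1) • vv i = 0 := by rw [sub_smul, h2, one_smul, sub_self]
  have h4 : c * c - 1 = 0 := (smul_eq_zero.1 h3).resolve_right (S.ne i)
  have h5 : (c - 1) * (c - 1) = 0 := by
    have h6 : (2 : F) = 0 := CharTwo.two_eq_zero
    linear_combination h4 + (1 - c) * h6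
  have h6 : c = 1 := sub_eq_zero.1 (mul_self_eq_zero.1 h5)
  rw [hc, h6, one_smul]

/-- the norm of the Klein group -/
noncomputable def Nm (h : Ext π) (ρ : Representation F P U) (u : U) : U := ∑ a ∈ E0, ρ (h.s a) u

omit [CharP F 2] in
theorem Nm_add (u w : U) : Nm h ρ (u + w) = Nm h ρ u + Nm h ρ w := by
  rw [Nm, Nm, Nm, ← Finset.sum_add_distrib]
  exact Finset.sum_congr rfl fun a _ => map_add _ _ _

omit [CharP F 2] in
theorem Nm_smul (c : F) (u : U) : Nm h ρ (c • u) = c • Nm h ρ u := by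
  rw [Nm, Nm, Finset.smul_sum]
  exact Finset.sum_congr rfl fun a _ => map_smul _ _ _

omit [CharP F 2] in
theorem Nm_eq (u : U) : Nm h ρ u = u + ρ (h.s a1) u + ρ (h.s a2) u + ρ (h.s a3) u := by
  rw [Nm, E0, Finset.sum_insert (by decide), Finset.sum_insert (by decide), Finset.sum_insert (by decide),
    Finset.sum_singleton, h.s_one, rho_one]
  abel

omit [CharP F 2] in
theorem sq_of_mem {a : A6} (ha : a ∈ E0) : a * a = 1 := ((mem_E0 a).1 ha).1

omit [CharP F 2] in
/-- elements stabilizing the pair `{4, 5}` commute with the norm -/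
theorem Nm_comm (b : P) (hb : Pr (π b)) (u : U) : Nm h ρ (ρ b u) = ρ b (Nm h ρ u) := by
  rw [Nm, Nm, map_sum]
  symm
  refine Finset.sum_bij (fun a _ => π b * a * (π b)⁻¹) ?_ ?_ ?_ ?_
  · intro a ha
    rw [mem_E0] at ha ⊢
    obtain ⟨h1, h4, h5⟩ := ha
    refine ⟨?_, ?_, ?_⟩
    · have : π b * a * (π b)⁻¹ * (π b * a * (π b)⁻¹) = π b * (a * a) * (π b)⁻¹ := by group
      rw [this, h1]
      group
    · show (π b : Perm (Fin 6)) ((a : Perm (Fin 6)) ((π b : Perm (Fin 6))⁻¹ 4)) = 4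
      rcases hb with ⟨h6, h7⟩ | ⟨h6, h7⟩
      · have h8 : (π b : Perm (Fin 6))⁻¹ 4 = 4 := by rw [Perm.inv_eq_iff_eq, h6]
        rw [h8, h4, h6]
      · have h8 : (π b : Perm (Fin 6))⁻¹ 4 = 5 := by rw [Perm.inv_eq_iff_eq, h7]
        rw [h8, h5, h7]
    · show (π b : Perm (Fin 6)) ((a : Perm (Fin 6)) ((π b : Perm (Fin 6))⁻¹ 5)) = 5
      rcases hb with ⟨h6, h7⟩ | ⟨h6, h7⟩
      · have h8 : (π b : Perm (Fin 6))⁻¹ 5 = 5 := by rw [Perm.inv_eq_iff_eq, h7]
        rw [h8, h5, h7]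
      · have h8 : (π b : Perm (Fin 6))⁻¹ 5 = 4 := by rw [Perm.inv_eq_iff_eq, h6]
        rw [h8, h4, h6]
  · intro a _ a' _ haa
    have := mul_right_cancel haa
    exact mul_left_cancel this
  · intro a ha
    refine ⟨(π b)⁻¹ * a * π b, ?_, by group⟩
    rw [mem_E0] at ha ⊢
    obtain ⟨h1, h4, h5⟩ := ha
    refine ⟨?_, ?_, ?_⟩
    · have : (π b)⁻¹ * a * π b * ((π b)⁻¹ * a * π b) = (π b)⁻¹ * (a * a) * π b := by group
      rw [this, h1]
      group
    · show (π b : Perm (Fin 6))⁻¹ ((a : Perm (Fin 6)) ((π b : Perm (Fin 6)) 4)) = 4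
      rw [Perm.inv_eq_iff_eq]
      rcases hb with ⟨h6, h7⟩ | ⟨h6, h7⟩
      · rw [h6, h4]
      · rw [h6, h5]
    · show (π b : Perm (Fin 6))⁻¹ ((a : Perm (Fin 6)) ((π b : Perm (Fin 6)) 5)) = 5
      rw [Perm.inv_eq_iff_eq]
      rcases hb with ⟨h6, h7⟩ | ⟨h6, h7⟩
      · rw [h7, h5]
      · rw [h7, h4]
  · intro a ha
    rw [← h.s_conj (sq_of_mem ha) b, ← rho_mul, ← rho_mul, inv_mul_cancel_right]

omit [CharP F 2] in
/-- the norm absorbs the Klein group -/
theorem Nm_absorb {e : A6} (he : e ∈ E0) (u : U) : Nm h ρ (ρ (h.s e) u) = Nm h ρ u := by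
  rw [Nm, Nm]
  refine Finset.sum_bij (fun a _ => a * e) ?_ ?_ ?_ ?_
  · exact fun a ha => (E0_closed a ha e he).2
  · exact fun a _ a' _ haa => mul_right_cancel haa
  · intro a ha
    refine ⟨a * e, (E0_closed a ha e he).2, ?_⟩
    rw [mul_assoc, sq_of_mem he, mul_one]
  · intro a ha
    rw [← h.s_mul (sq_of_mem ha) (sq_of_mem he) (E0_closed a ha e he).1, rho_mul]

theorem add_self (F : Type*) [Field F] [CharP F 2] {U : Type*} [AddCommGroup U] [Module F U] (u : U) : u + u = 0 := by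
  rw [← two_smul F, CharTwo.two_eq_zero, zero_smul]

theorem four_smul (F : Type*) [Field F] [CharP F 2] {U : Type*} [AddCommGroup U] [Module F U] (u : U) :
    u + u + u + u = 0 := by
  rw [add_self F, zero_add, add_self F]

theorem Nm_Nm (u : U) : Nm h ρ (Nm h ρ u) = 0 := by
  rw [Nm_eq (ρ := ρ) u, Nm_add, Nm_add, Nm_add, Nm_absorb (by decide), Nm_absorb (by decide), Nm_absorb (by decide)]
  exact four_smul F _

/-- the lines outside the support -/
theorem Six.Nm_out (S : Six h ρ vv) {i : Fin 6} (hi : i = 4 ∨ i = 5) : Nm h ρ (vv i) = 0 := by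
  have key : ∀ a ∈ E0, ρ (h.s a) (vv i) = vv i := by
    intro a ha
    have h1 := (mem_E0 a).1 ha
    refine S.fix h1.1 ?_
    rcases hi with rfl | rfl
    · exact h1.2.1
    · exact h1.2.2
  rw [Nm_eq, key a1 (by decide), key a2 (by decide), key a3 (by decide)]
  exact four_smul F _

omit [CharP F 2] in
theorem trans_E0 : ∀ i j : Fin 6, i ≠ 4 → i ≠ 5 → j ≠ 4 → j ≠ 5 → ∃ e ∈ E0, (e : Perm (Fin 6)) j = i := by
  decide +kernel

omit [CharP F 2] in
/-- the lines of the support -/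
theorem Six.Nm_in (S : Six h ρ vv) {i j : Fin 6} (hi4 : i ≠ 4) (hi5 : i ≠ 5) (hj4 : j ≠ 4) (hj5 : j ≠ 5) :
    ∃ c : F, Nm h ρ (vv i) = c • Nm h ρ (vv j) := by
  obtain ⟨e, he, hei⟩ := trans_E0 i j hi4 hi5 hj4 hj5
  obtain ⟨c, hc⟩ := S.line (h.s e) j
  rw [(h.s_spec (sq_of_mem he)).1, hei] at hc
  have hc0 := S.coef_ne hc
  refine ⟨c⁻¹, ?_⟩
  rw [← Nm_absorb he (vv j), hc, Nm_smul, smul_smul, inv_mul_cancel₀ hc0, one_smul]

omit [CharP F 2] in
/-- an element past a lift -/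
theorem push {a : A6} (ha : a * a = 1) (b : P) (u : U) :
    ρ b (ρ (h.s a) u) = ρ (h.s (π b * a * (π b)⁻¹)) (ρ b u) := by
  rw [← h.s_conj ha b, ← rho_mul, ← rho_mul, inv_mul_cancel_right]

/-- second double coset -/
theorem Six.kill_two (S : Six h ρ vv) : Nm h ρ (ρ (h.s g2) (Nm h ρ (vv 0))) = 0 := by
  have hg2 : g2 * g2 = 1 := by decide
  have hk := (h.s_spec hg2).1
  have h0 : ρ (h.s g2) (vv 0) = vv 0 := S.fix hg2 (by decide)
  have e1 : g2 * a1 * g2⁻¹ = h1 := by decide +kernel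
  have e2 : g2 * a2 * g2⁻¹ = h2 := by decide +kernel
  have e3 : g2 * a3 * g2⁻¹ = h3 := by decide +kernel
  rw [Nm_eq (ρ := ρ) (vv 0), map_add, map_add, map_add, push (a := a1) (by decide) (h.s g2) (vv 0),
    push (a := a2) (by decide) (h.s g2) (vv 0), push (a := a3) (by decide) (h.s g2) (vv 0), hk, e1, e2, e3,
    h0, Nm_add, Nm_add, Nm_add]
  have k1 : Nm h ρ (ρ (h.s h1) (vv 0)) = Nm h ρ (vv 0) := by
    rw [← Nm_absorb (e := a1) (by decide) (ρ (h.s h1) (vv 0)), ← rho_mul, h.s_mul (by decide) (by decide) (by decide +kernel),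
      S.fix (by decide +kernel) (by decide)]
  have k2 : Nm h ρ (ρ (h.s h2) (vv 0)) = 0 := by
    obtain ⟨c, hc⟩ := S.line (h.s h2) 0
    rw [(h.s_spec (a := h2) (by decide)).1, show (h2 : Perm (Fin 6)) 0 = 4 by decide] at hc
    rw [hc, Nm_smul, S.Nm_out (Or.inl rfl), smul_zero]
  have k3 : Nm h ρ (ρ (h.s h3) (vv 0)) = 0 := by
    obtain ⟨c, hc⟩ := S.line (h.s h3) 0
    rw [(h.s_spec (a := h3) (by decide)).1, show (h3 : Perm (Fin 6)) 0 = 5 by decide] at hc
    rw [hc, Nm_smul, S.Nm_out (Or.inr rfl), smul_zero]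
  rw [k1, k2, k3, add_zero, add_zero, add_self F]

/-- the commuting 3-elements -/
structure XY (π : P →* A6) (ρ : Representation F P U) (x y : P) (ω : F) : Prop where
  hx : π x = tx
  hy : π y = ty
  comm : ∀ u, ρ x (ρ y u) = ω • ρ y (ρ x u)
  ne : ω ≠ 1
  cube : ω ^ 3 = 1

omit [CharP F 2] in
theorem XY.quad {x y : P} {ω : F} (T : XY π ρ x y ω) : ω ^ 2 + ω + 1 = 0 := by
  have h1 : (ω - 1) * (ω ^ 2 + ω + 1) = 0 := by linear_combination T.cube
  exact (mul_eq_zero.1 h1).resolve_left (sub_ne_zero.2 T.ne)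

omit [CharP F 2] in
theorem XY.ne_zero {x y : P} {ω : F} (T : XY π ρ x y ω) : ω ≠ 0 := by
  rintro rfl
  have := T.cube
  simp at this

/-- first double coset -/
theorem Six.kill_one (S : Six h ρ vv) {x y : P} {ω : F} (T : XY π ρ x y ω) :
    Nm h ρ (ρ (h.s g1) (Nm h ρ (vv 0))) = 0 := by
  obtain ⟨c, hc⟩ := S.Nm_in (i := 0) (j := 3) (by decide) (by decide) (by decide) (by decide)
  have hg1 : g1 * g1 = 1 := by decide
  have hk := (h.s_spec hg1).1
  obtain ⟨d, hd⟩ := S.line (h.s g1) 3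
  rw [hk, show (g1 : Perm (Fin 6)) 3 = 4 by decide] at hd
  have q1 : g1 * a1 * g1⁻¹ = e2 := by decide +kernel
  have q2 : g1 * a2 * g1⁻¹ = e0 := by decide +kernel
  have q3 : g1 * a3 * g1⁻¹ = e1 := by decide +kernel
  rw [hc, map_smul, Nm_smul, Nm_eq (ρ := ρ) (vv 3), map_add, map_add, map_add,
    push (a := a1) (by decide) (h.s g1) (vv 3), push (a := a2) (by decide) (h.s g1) (vv 3),
    push (a := a3) (by decide) (h.s g1) (vv 3), hk, q1, q2, q3, hd, map_smul, map_smul, map_smul, Nm_add, Nm_add, Nm_add, Nm_smul, Nm_smul, Nm_smul,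
    Nm_smul, S.Nm_out (Or.inl rfl), smul_zero, zero_add]
  have hprx : Pr (π x) := by rw [T.hx]; decide
  -- the eigenvalues of `x`
  obtain ⟨α3, h3⟩ := S.line x 3
  obtain ⟨α4, h4⟩ := S.line x 4
  rw [T.hx, show (tx : Perm (Fin 6)) 3 = 3 by decide] at h3
  rw [T.hx, show (tx : Perm (Fin 6)) 4 = 4 by decide] at h4
  obtain ⟨β, hβ⟩ := S.line y 3
  rw [T.hy, show (ty : Perm (Fin 6)) 3 = 4 by decide] at hβ
  have hβ0 := S.coef_ne hβ
  have hα : α4 = ω * α3 := by
    have h5 := T.comm (vv 3)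
    rw [h3, hβ, map_smul, map_smul, h4, hβ, smul_smul, smul_smul, smul_smul] at h5
    have h6 : (β * α4 - ω * α3 * β) • vv 4 = 0 := by rw [sub_smul, h5, sub_self]
    have h7 := (smul_eq_zero.1 h6).resolve_right (S.ne 4)
    have h8 : β * (α4 - ω * α3) = 0 := by linear_combination h7
    exact sub_eq_zero.1 ((mul_eq_zero.1 h8).resolve_left hβ0)
  have hα4 := S.coef_ne h4
  have hα3 : α3 ≠ 0 := by
    rintro rfl
    rw [mul_zero] at hα
    exact hα4 hα
  -- `x` acts on the norm of the line 3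
  have hxN : ρ x (Nm h ρ (vv 3)) = α3 • Nm h ρ (vv 3) := by
    rw [← Nm_comm x hprx, h3, Nm_smul]
  -- one step
  have step : ∀ e e' : A6, e * e = 1 → tx * e * tx⁻¹ = e' → ∀ t : F, Nm h ρ (ρ (h.s e) (vv 4)) = t • Nm h ρ (vv 3) →
      Nm h ρ (ρ (h.s e') (vv 4)) = (α4⁻¹ * (t * α3)) • Nm h ρ (vv 3) := by
    intro e e' he hee t ht
    have h5 := push (h := h) (ρ := ρ) he x (vv 4)
    rw [T.hx, hee, h4, map_smul] at h5
    have h6 : Nm h ρ (ρ (h.s e') (vv 4)) = α4⁻¹ • Nm h ρ (ρ x (ρ (h.s e) (vv 4))) := by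
      rw [h5, Nm_smul, smul_smul, inv_mul_cancel₀ hα4, one_smul]
    rw [h6, Nm_comm x hprx, ht, map_smul, hxN, smul_smul, smul_smul, mul_assoc]
  obtain ⟨c0, hc0⟩ := S.line (h.s e0) 4
  rw [(h.s_spec (a := e0) (by decide)).1, show (e0 : Perm (Fin 6)) 4 = 0 by decide] at hc0
  have s0 : Nm h ρ (ρ (h.s e0) (vv 4)) = (c0 * c) • Nm h ρ (vv 3) := by
    rw [hc0, Nm_smul, hc, smul_smul]
  have s1 := step e0 e1 (by decide) (by decide +kernel) _ s0
  have s2 := step e1 e2 (by decide) (by decide +kernel) _ s1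
  rw [s0, s1, s2, smul_smul, smul_smul, smul_smul, ← add_smul, ← add_smul]
  have key : d * (α4⁻¹ * (α4⁻¹ * (c0 * c * α3) * α3)) + d * (c0 * c) + d * (α4⁻¹ * (c0 * c * α3)) = 0 := by
    have hω := T.ne_zero
    rw [hα]
    field_simp
    linear_combination (d * c0 * c) * T.quad
  rw [key, zero_smul, smul_zero]

attribute [local instance high] _root_.List.decidableBAll in
theorem Six.kill_all (S : Six h ρ vv) {x y : P} {ω : F} (T : XY π ρ x y ω) (b : P) :
    Nm h ρ (ρ b (Nm h ρ (vv 0))) = 0 := by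
  have hne : (π b : Perm (Fin 6)) 4 ≠ (π b : Perm (Fin 6)) 5 := by
    intro he
    have h45 : (4 : Fin 6) = 5 := (π b : Perm (Fin 6)).injective he
    exact absurd h45 (by decide)
  obtain ⟨n, -, hn, k, hk, hb⟩ := pairs ((π b : Perm (Fin 6)) 4) ((π b : Perm (Fin 6)) 5) hne
  obtain ⟨bn, rfl⟩ := h.surj n
  have hkk : k * k = 1 := by
    have : ∀ k ∈ ([1, g1, g2] : List A6), k * k = 1 := by decide +kernel
    exact this k hk
  have hs := (h.s_spec hkk).1
  obtain ⟨b', rfl⟩ : ∃ b', b = bn * (h.s k) * b' := ⟨(bn * h.s k)⁻¹ * b, by group⟩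
  have hb' : Pr (π b') := by
    have h1 : π (bn * h.s k * b') = (π bn * k) * π b' := by rw [map_mul, map_mul, hs]
    rw [h1] at hb
    have h2 : ∀ i : Fin 6, (((π bn * k : A6)⁻¹ : A6) : Perm (Fin 6)) ((((π bn * k) * π b' : A6) : Perm (Fin 6)) i)
        = (π b' : Perm (Fin 6)) i := by
      intro i
      have h3 : (π bn * k : A6)⁻¹ * ((π bn * k) * π b') = π b' := inv_mul_cancel_left _ _
      have h4 := congrArg (fun t : A6 => (t : Perm (Fin 6)) i) h3
      exact h4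
    rw [h2, h2] at hb
    exact hb
  rw [rho_mul, rho_mul, Nm_comm bn hn, ← Nm_comm b' hb']
  obtain ⟨c, hc⟩ := S.line b' 0
  have hi : ∀ i : Fin 6, i ≠ 4 → i ≠ 5 → ((π b' : Perm (Fin 6)) i ≠ 4 ∧ (π b' : Perm (Fin 6)) i ≠ 5) := by
    intro i h4 h5
    have hinj := (π b' : Perm (Fin 6)).injective
    rcases hb' with ⟨h6, h7⟩ | ⟨h6, h7⟩
    · exact ⟨fun he => h4 (hinj (he.trans h6.symm)), fun he => h5 (hinj (he.trans h7.symm))⟩
    · exact ⟨fun he => h5 (hinj (he.trans h7.symm)), fun he => h4 (hinj (he.trans h6.symm))⟩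
  have h00 := hi 0 (by decide) (by decide)
  obtain ⟨c', hc'⟩ := S.Nm_in (i := (π b' : Perm (Fin 6)) 0) (j := 0) h00.1 h00.2 (by decide) (by decide)
  rw [hc, Nm_smul, hc', smul_smul, map_smul, Nm_smul]
  have h9 : Nm h ρ (ρ (h.s k) (Nm h ρ (vv 0))) = 0 := by
    simp only [List.mem_cons, List.not_mem_nil, or_false] at hk
    rcases hk with rfl | rfl | rfl
    · rw [h.s_one, rho_one, Nm_Nm]
    · exact S.kill_one T
    · exact S.kill_two
  rw [h9, smul_zero, map_zero]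

/-! ### dimensions -/

omit [CharP F 2] in
/-- the dimension of a stable subspace is divisible by 3 -/
theorem XY.three_dvd [Module.Finite F U] {x y : P} {ω : F} (T : XY π ρ x y ω) (W : Submodule F U)
    (hW : ∀ b, ∀ w ∈ W, ρ b w ∈ W) : 3 ∣ finrank F W := by
  have hres : ∀ b, ∃ A : W →ₗ[F] W, (∀ w : W, ((A w : W) : U) = ρ b w) ∧ LinearMap.det A ≠ 0 := by
    intro b
    refine ⟨(ρ b).restrict (hW b), fun w => rfl, ?_⟩
    have h1 : (ρ b).restrict (hW b) * (ρ b⁻¹).restrict (hW b⁻¹) = 1 := by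
      refine LinearMap.ext fun w => Subtype.ext ?_
      show ρ b (ρ b⁻¹ w) = w
      rw [← rho_mul, mul_inv_cancel, rho_one]
    have h2 := congrArg LinearMap.det h1
    rw [map_mul, map_one] at h2
    exact left_ne_zero_of_mul_eq_one h2
  obtain ⟨A, hA, hA0⟩ := hres x
  obtain ⟨B, hB, hB0⟩ := hres y
  have h1 : A * B = ω • (B * A) := by
    refine LinearMap.ext fun w => Subtype.ext ?_
    show ((A (B w) : W) : U) = ω • ((B (A w) : W) : U)
    rw [hA, hB, hB, hA, T.comm]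
  have h2 := congrArg LinearMap.det h1
  rw [map_mul, LinearMap.det_smul, map_mul] at h2
  have h3 : ω ^ finrank F W = 1 := by
    have h4 : (LinearMap.det A * LinearMap.det B) * (ω ^ finrank F W - 1) = 0 := by linear_combination -h2
    exact sub_eq_zero.1 ((mul_eq_zero.1 h4).resolve_left (mul_ne_zero hA0 hB0))
  have h5 : orderOf ω = 3 := orderOf_eq_prime T.cube T.ne
  rw [← h5]
  exact orderOf_dvd_of_pow_eq_one h3

theorem trans_five : ∀ i : Fin 6, ∃ a ∈ ([1, mk (swap (0 : Fin 6) 5 * swap (1 : Fin 6) 2) (by decide), mk (swap (1 : Fin 6) 5 * swap (0 : Fin 6) 2) (by decide),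
    mk (swap (2 : Fin 6) 5 * swap (0 : Fin 6) 1) (by decide), mk (swap (3 : Fin 6) 5 * swap (0 : Fin 6) 1) (by decide),
    mk (swap (4 : Fin 6) 5 * swap (0 : Fin 6) 1) (by decide)] : List A6), (a : Perm (Fin 6)) 5 = i := by decide +kernel

/-- a stable subspace of dimension three, the lines given -/
theorem Six.exists_three [Module.Finite F U] (S : Six h ρ vv) {x y : P} {ω : F} (T : XY π ρ x y ω) :
    ∃ W : Submodule F U, (∀ b, ∀ w ∈ W, ρ b w ∈ W) ∧ finrank F W = 3 := by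
  obtain ⟨M, hM⟩ : ∃ M, M = Submodule.span F (Set.range vv) := ⟨_, rfl⟩
  have hvM : ∀ i, vv i ∈ M := fun i => hM ▸ Submodule.subset_span ⟨i, rfl⟩
  have hMs : ∀ b, ∀ w ∈ M, ρ b w ∈ M := by
    intro b
    have h1 : M ≤ M.comap (ρ b) := by
      conv_lhs => rw [hM]
      rw [Submodule.span_le]
      rintro _ ⟨i, rfl⟩
      obtain ⟨c, hc⟩ := S.line b i
      show ρ b (vv i) ∈ M
      rw [hc]
      exact M.smul_mem _ (hvM _)
    exact fun w hw => h1 hw
  have hM6 : finrank F M ≤ 6 := by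
    rw [hM]
    exact (finrank_range_le_card vv).trans (by simp)
  have hM0 : 0 < finrank F M := by
    rw [Module.finrank_pos_iff_exists_ne_zero]
    exact ⟨⟨vv 0, hvM 0⟩, fun he => S.ne 0 (congrArg Subtype.val he)⟩
  obtain ⟨m, hm⟩ := T.three_dvd M hMs
  have hm2 : m = 1 ∨ m = 2 := by omega
  rcases hm2 with rfl | rfl
  · exact ⟨M, hMs, hm⟩
  -- dimension 6
  have hli : LinearIndependent F vv := by
    rw [linearIndependent_iff_card_eq_finrank_span, Set.finrank, ← hM, hm]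
    simp
  have hN0 : Nm h ρ (vv 0) ≠ 0 := by
    intro hN
    obtain ⟨c1, hc1⟩ := S.line (h.s a1) 0
    obtain ⟨c2, hc2⟩ := S.line (h.s a2) 0
    obtain ⟨c3, hc3⟩ := S.line (h.s a3) 0
    rw [(h.s_spec (a := a1) (by decide)).1, show (a1 : Perm (Fin 6)) 0 = 1 by decide] at hc1
    rw [(h.s_spec (a := a2) (by decide)).1, show (a2 : Perm (Fin 6)) 0 = 2 by decide] at hc2
    rw [(h.s_spec (a := a3) (by decide)).1, show (a3 : Perm (Fin 6)) 0 = 3 by decide] at hc3
    rw [Nm_eq, hc1, hc2, hc3] at hN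
    have h1 := Fintype.linearIndependent_iff.1 hli ![1, c1, c2, c3, 0, 0] (by
      rw [Fin.sum_univ_six]
      simpa using hN) 0
    simp at h1
  obtain ⟨C, hC⟩ : ∃ C, C = Submodule.span F (Set.range fun b : P => ρ b (Nm h ρ (vv 0))) := ⟨_, rfl⟩
  have hCs : ∀ b, ∀ w ∈ C, ρ b w ∈ C := by
    intro b
    have h1 : C ≤ C.comap (ρ b) := by
      conv_lhs => rw [hC]
      rw [Submodule.span_le]
      rintro _ ⟨b', rfl⟩
      show ρ b (ρ b' (Nm h ρ (vv 0))) ∈ C
      rw [← rho_mul, hC]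
      exact Submodule.subset_span ⟨b * b', rfl⟩
    exact fun w hw => h1 hw
  have hNC : Nm h ρ (vv 0) ∈ C := by
    rw [hC]
    exact Submodule.subset_span ⟨1, rho_one _⟩
  have hNM : Nm h ρ (vv 0) ∈ M := by
    rw [Nm]
    exact M.sum_mem fun a _ => hMs _ _ (hvM 0)
  have hCM : C ≤ M := by
    rw [hC, Submodule.span_le]
    rintro _ ⟨b, rfl⟩
    exact hMs b _ hNM
  have hCN : ∀ w ∈ C, Nm h ρ w = 0 := by
    intro w hw
    rw [hC] at hw
    induction hw using Submodule.span_induction with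
    | mem w hw =>
      obtain ⟨b, rfl⟩ := hw
      exact S.kill_all T b
    | zero =>
      have := Nm_smul (h := h) (ρ := ρ) (0 : F) (0 : U)
      rwa [zero_smul, zero_smul] at this
    | add u w _ _ hu hw => rw [Nm_add, hu, hw, add_zero]
    | smul c w _ hw => rw [Nm_smul, hw, smul_zero]
  have hC0 : 0 < finrank F C := by
    rw [Module.finrank_pos_iff_exists_ne_zero]
    exact ⟨⟨_, hNC⟩, fun he => hN0 (congrArg Subtype.val he)⟩
  have hC6 : finrank F C < 6 := by
    refine lt_of_le_of_ne ((Submodule.finrank_mono hCM).trans hM6) fun he => hN0 (hCN _ ?_)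
    have : C = M := Submodule.eq_of_le_of_finrank_eq hCM (by rw [he, hm])
    rw [this]
    exact hvM 0
  obtain ⟨k, hk⟩ := T.three_dvd C hCs
  exact ⟨C, hCs, by omega⟩

/-- **a stable subspace of dimension three** -/
theorem exists_three [Module.Finite F U] (h : Ext π) {x y : P} {ω : F} (T : XY π ρ x y ω) {v : U} (hv : v ≠ 0)
    (hl : ∀ b, (π b : Perm (Fin 6)) 5 = 5 → ∃ c : F, ρ b v = c • v) :
    ∃ W : Submodule F U, (∀ b, ∀ w ∈ W, ρ b w ∈ W) ∧ finrank F W = 3 := by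
  have h1 : ∀ i : Fin 6, ∃ g : P, (π g : Perm (Fin 6)) 5 = i := by
    intro i
    obtain ⟨a, -, ha⟩ := trans_five i
    obtain ⟨g, rfl⟩ := h.surj a
    exact ⟨g, ha⟩
  choose g hg using h1
  have S : Six h ρ fun i => ρ (g i) v := by
    refine ⟨fun i h0 => hv (rho_inj (g i) (h0.trans (map_zero (ρ (g i))).symm)), fun b i => ?_⟩
    obtain ⟨j, hj⟩ : ∃ j, j = (π b : Perm (Fin 6)) i := ⟨_, rfl⟩
    rw [← hj]
    obtain ⟨c, hc⟩ := hl ((g j)⁻¹ * b * g i) (by
      have h2 : (π ((g j)⁻¹ * b * g i) : Perm (Fin 6)) 5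
          = (π (g j) : Perm (Fin 6))⁻¹ ((π b : Perm (Fin 6)) ((π (g i) : Perm (Fin 6)) 5)) := by
        rw [map_mul, map_mul, map_inv]
        rfl
      rw [h2, hg, ← hj, Perm.inv_eq_iff_eq, hg])
    refine ⟨c, ?_⟩
    rw [← map_smul, ← hc, ← rho_mul, ← rho_mul]
    congr 2
    group
  exact S.exists_three T

end main

end Cfsg.Agent.H906.E6.Hexa

namespace Cfsg.Agent.H906.E6.SixC

open Cfsg Cfsg.Lie Module Equiv
open Cfsg.Agent.ChevalleyStructure.E6Min.Tables Cfsg.Agent.ChevalleyStructure.E6Min.Basic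
  Cfsg.Agent.ChevalleyStructure.E6Min.Adjoint
open Cfsg.Agent.H952.F4 (ev es matRep tf MaxAlt)
open Cfsg.Agent.H163.E6
open Cfsg.Agent.H906.E6.Hexa (A6 tx ty Ext XY)

universe u

/-! ### the embedding of `A₅` as a point stabilizer -/

/-- the embedding -/
def j : ↥(alternatingGroup (Fin 5)) →* A6 where
  toFun σ := ⟨Perm.extendDomain (σ : Perm (Fin 5)) (finSuccAboveEquiv (5 : Fin 6)), by
    rw [Perm.mem_alternatingGroup, Perm.sign_extendDomain]
    exact Perm.mem_alternatingGroup.1 σ.2⟩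
  map_one' := Subtype.ext (Perm.extendDomain_one _)
  map_mul' σ τ := Subtype.ext (Perm.extendDomain_mul _ _ _).symm

theorem j_injective : Function.Injective j := by
  intro σ τ h
  exact Subtype.ext (Perm.extendDomainHom_injective (finSuccAboveEquiv (5 : Fin 6)) (congrArg Subtype.val h))

theorem j_surj {g : A6} (hg : (g : Perm (Fin 6)) 5 = 5) : ∃ σ, j σ = g := by
  have hp : ∀ x : Fin 6, (x ≠ 5) ↔ ((g : Perm (Fin 6)) x ≠ 5) := by
    intro x
    have h1 : (g : Perm (Fin 6)) x = 5 ↔ x = 5 := by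
      constructor
      · intro h
        exact (g : Perm (Fin 6)).injective (h.trans hg.symm)
      · rintro rfl
        exact hg
    exact not_iff_not.2 h1.symm
  let e := finSuccAboveEquiv (5 : Fin 6)
  let τ : Perm {x : Fin 6 // x ≠ 5} := (g : Perm (Fin 6)).subtypePerm fun x => (hp x).symm
  let σ : Perm (Fin 5) := e.symm.permCongr τ
  have hσ : Perm.extendDomain σ e = (g : Perm (Fin 6)) := by
    ext x
    by_cases hx : x = 5
    · subst hx
      rw [Perm.extendDomain_apply_not_subtype (p := fun x : Fin 6 => x ≠ 5) σ e (by simp), hg]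
    · rw [Perm.extendDomain_apply_subtype (p := fun x : Fin 6 => x ≠ 5) σ e hx]
      simp [σ, τ, Equiv.permCongr_apply]
  have hs : Perm.sign σ = 1 := by
    rw [← Perm.sign_extendDomain σ e, hσ]
    exact Perm.mem_alternatingGroup.1 g.2
  exact ⟨⟨σ, Perm.mem_alternatingGroup.2 hs⟩, Subtype.ext hσ⟩

theorem real_five : ∀ a : ↥(alternatingGroup (Fin 5)), a ^ 5 = 1 → ∃ k : ↥(alternatingGroup (Fin 5)), k * a * k⁻¹ = a⁻¹ := by
  simp only [↓Cfsg.Agent.PermCode.M, Cfsg.Agent.PermCode.P5.R, Cfsg.Agent.PermCode.B]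
  decide +kernel

variable {F : Type u} [Field F] [Finite F] {H : Subgroup ↥(chevE6.group F)} {φ : A6 →* ↥(chevE6.group F)}

omit [Finite F] in
theorem eq_one_of_id {z : ↥(Zgrp F)} {ρ : Representation F ↥(Zgrp F) (I27 → F)} (hρ : ρ = V F ∨ ρ = V' F)
    (hz : ∀ w, ρ z w = w) : z = 1 := by
  rcases hρ with rfl | rfl
  · exact V_injective fun x => by rw [hz, map_one]; rfl
  · have h1 : Act.gz z = 1 := V_injective fun x => by rw [Act.V_gz, hz, map_one]; rfl
    have h2 := congrArg Act.gz h1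
    have h3 : Act.gz (1 : ↥(Zgrp F)) = 1 := by
      have := Act.gz_mul (1 : ↥(Zgrp F)) 1
      rw [mul_one] at this
      exact (mul_eq_left.1 this.symm)
    rwa [Act.gz_gz, h3] at h2

/-- a vector whose line is stable under a point stabilizer -/
theorem exists_line [CharP F 2] (hφ : Function.Injective φ) {ω : Fˣ} (hc : Cover φ ω) :
    ∃ ρ : Representation F ↥(Zgrp F) (I27 → F), (ρ = V F ∨ ρ = V' F) ∧ ∃ v, v ≠ 0 ∧
      ∀ b : ↥(φ.range.comap (ad F)), (Cov.pr hφ b : Perm (Fin 6)) 5 = 5 → ∃ c : F, ρ b v = c • v := by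
  have : Fact (Nat.Prime 2) := ⟨Nat.prime_two⟩
  obtain ⟨ψ, hψ⟩ : ∃ ψ : ↥(alternatingGroup (Fin 5)) →* ↥(Zgrp F), Lift (φ.comp j) ψ := by
    rcases Cov.exists_lift (n := 5) le_rfl (φ := φ.comp j) (hφ.comp j_injective) with h | ⟨h | h, -⟩
    · exact h
    · omega
    · omega
  have hψ' : ∀ a, ad F (ψ a) = φ (j a) := hψ
  -- it is enough to have a fixed vector
  have key : ∀ ρ : Representation F ↥(Zgrp F) (I27 → F), (ρ = V F ∨ ρ = V' F) →
      Representation.invariants (MonoidHom.comp ρ ψ) ≠ ⊥ →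
      ∃ ρ : Representation F ↥(Zgrp F) (I27 → F), (ρ = V F ∨ ρ = V' F) ∧ ∃ v, v ≠ 0 ∧
      ∀ b : ↥(φ.range.comap (ad F)), (Cov.pr hφ b : Perm (Fin 6)) 5 = 5 → ∃ c : F, ρ b v = c • v := by
    intro ρ hρ hne
    obtain ⟨v, hv, hv0⟩ := Submodule.exists_mem_ne_zero_of_ne_bot hne
    refine ⟨ρ, hρ, v, hv0, fun b hb => ?_⟩
    obtain ⟨a, ha⟩ := j_surj hb
    rw [Representation.mem_invariants] at hv
    have h1 : ad F (b : ↥(Zgrp F)) = ad F (ψ a) := by rw [hψ', ha, Cov.phi_pr]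
    obtain ⟨d, hd⟩ := exists_smul (z := (b : ↥(Zgrp F)) * (ψ a)⁻¹) (by rw [map_mul, map_inv, h1, mul_inv_cancel]) hρ
    refine ⟨d, ?_⟩
    have h2 : ρ (ψ a) v = v := hv a
    rw [← hd]
    conv_rhs => rw [← h2]
    rw [← rho_mul, inv_mul_cancel_right]
  by_contra hcon
  have h1 : Representation.invariants (MonoidHom.comp (V F) ψ) = ⊥ := by
    by_contra hne
    exact hcon (key (V F) (Or.inl rfl) hne)
  have h2 : Representation.invariants (MonoidHom.comp (V' F) ψ) = ⊥ := by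
    by_contra hne
    exact hcon (key (V' F) (Or.inr rfl) hne)
  have h3 := H882.E6Five.dual_bot Act.tf_act ψ h2
  obtain ⟨x, y, hgen, hx, hy, hxy⟩ := H952.F4.Gen.gen5
  have hsc := H952.F4.Scott.scott (MonoidHom.comp (V F) ψ : Representation F _ (I27 → F)) hgen
  rw [h1, h3, finrank_bot, finrank_bot] at hsc
  have hord : ∀ {a : ↥(alternatingGroup (Fin 5))} {m : Multiset ℕ} {k : ℕ}, (a : Perm (Fin 5)).cycleType = m → m.lcm = k →
      orderOf a = k := by
    intro a m k ha hm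
    rw [← Subgroup.orderOf_coe, ← Perm.lcm_cycleType, ha, hm]
  have ox : orderOf x = 2 := hord hx (by decide)
  have oy : orderOf y = 3 := hord hy (by decide)
  have oz : orderOf (x * y) = 5 := hord hxy (by decide)
  have e2 : 15 ≤ ev (V F (ψ x)) 1 := Tor.two_two _ (by
    rw [← map_mul, ← pow_two, ← ox, pow_orderOf_eq_one, map_one])
  have e3 : ev (V F (ψ y)) 1 = 9 := by
    have h4 : orderOf (j y) = 3 := by rw [orderOf_injective j j_injective, oy]
    exact (Cov.type_thirty (Or.inl rfl) hφ hc h4 (hψ' y)).2.1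
  have e5 : 5 ≤ ev (V F (ψ (x * y))) 1 := by
    have h4 : (x * y) ^ 5 = 1 := orderOf_dvd_iff_pow_eq_one.1 (by rw [oz])
    have h5 : ψ (x * y) ≠ 1 := by
      intro h6
      have h7 : φ (j (x * y)) = 1 := by rw [← hψ', h6, map_one]
      have h8 : x * y = 1 := j_injective (hφ (by rw [h7, map_one, map_one]))
      rw [h8, orderOf_one] at oz
      omega
    obtain ⟨k, hk⟩ := real_five _ h4
    have h6 := (Tor.tab (F := F) 2).five (by norm_num) (ψ (x * y)) h5 (by rw [← map_pow, h4, map_one])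
      ⟨ψ k, by rw [← map_inv, ← map_mul, ← map_mul, hk, map_inv]⟩
    omega
  have hdim : finrank F (I27 → F) = 27 := by
    rw [Module.finrank_fintype_fun_eq_card]
    decide
  rw [hdim] at hsc
  have hsc' : ev (V F (ψ x)) 1 + ev (V F (ψ y)) 1 + ev (V F (ψ (x * y))) 1 ≤ 27 + 0 + 0 := hsc
  omega

/-- **A stable subspace of dimension three.** -/
theorem exists_three [CharP F 2] (hφ : Function.Injective φ) {ω : Fˣ} (hc : Cover φ ω) :
    ∃ ρ : Representation F ↥(Zgrp F) (I27 → F), (ρ = V F ∨ ρ = V' F) ∧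
      ∃ W : Submodule F (I27 → F), Stab ρ φ.range W ∧ finrank F ↥W = 3 := by
  obtain ⟨ρ, hρ, v, hv, hl⟩ := exists_line hφ hc
  have hE : Ext (Cov.pr hφ) := by
    refine ⟨Cov.pr_surjective hφ, fun z hz b => ?_, fun z hz => ?_⟩
    · exact Subtype.ext (Cov.ker_comm ((Cov.pr_eq_one hφ z).1 hz) b)
    · exact Subtype.ext (Cov.ker_pow ((Cov.pr_eq_one hφ z).1 hz))
  obtain ⟨x, hx⟩ := Cov.pr_surjective hφ tx
  obtain ⟨y, hy⟩ := Cov.pr_surjective hφ ty
  have hx' : ad F (x : ↥(Zgrp F)) = φ tx := by rw [← hx, Cov.phi_pr]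
  have hy' : ad F (y : ↥(Zgrp F)) = φ ty := by rw [← hy, Cov.phi_pr]
  have hcm : tx * ty = ty * tx := by decide +kernel
  obtain ⟨z, hz⟩ : ∃ z : ↥(Zgrp F), z = x * y * (x : ↥(Zgrp F))⁻¹ * (y : ↥(Zgrp F))⁻¹ := ⟨_, rfl⟩
  have hz1 : ad F z = 1 := by
    rw [hz, map_mul, map_mul, map_mul, map_inv, map_inv, hx', hy', ← map_inv, ← map_inv, ← map_mul, ← map_mul, ← map_mul,
      hcm, mul_inv_cancel_right, mul_inv_cancel, map_one]
  have hz0 : z ≠ 1 := by
    intro h0
    have h1 := Cov.not_comm (n := 6) (Or.inl rfl) hφ hc (a := tx) (b := ty) (by decide +kernel) (by decide +kernel)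
      (show ∀ i, _ from by decide +kernel) hx' hy'
    rw [← hz, h0] at h1
    have h2 : ((1 : ↥(Zgrp F)) : GL I27 F) = scal 1 := by rw [Cov.scal_one]; rfl
    rw [h2] at h1
    rcases h1 with ⟨-, h1⟩ | ⟨-, h1⟩
    · exact hc.1 (Cov.scal_injective h1).symm
    · exact hc.1 (inv_eq_one.1 (Cov.scal_injective h1).symm)
  obtain ⟨d, hd⟩ := exists_smul hz1 hρ
  have hd1 : d ≠ 1 := by
    rintro rfl
    exact hz0 (eq_one_of_id hρ fun w => by rw [hd, one_smul])
  have hd3 : d ^ 3 = 1 := by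
    have h1 : ρ (z ^ 3) v = v := by rw [Cov.ker_pow hz1, map_one]; rfl
    rw [pow_succ, pow_two, rho_mul, rho_mul, hd, hd, hd, smul_smul, smul_smul] at h1
    have h2 : (d * d * d - 1) • v = 0 := by rw [sub_smul, h1, one_smul, sub_self]
    have h3 := (smul_eq_zero.1 h2).resolve_right hv
    linear_combination h3
  have hT : XY (Cov.pr hφ) (MonoidHom.comp ρ (φ.range.comap (ad F)).subtype : Representation F _ (I27 → F)) x y d := by
    refine ⟨hx, hy, fun w => ?_, hd1, hd3⟩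
    show ρ (x : ↥(Zgrp F)) (ρ (y : ↥(Zgrp F)) w) = d • ρ (y : ↥(Zgrp F)) (ρ (x : ↥(Zgrp F)) w)
    rw [← hd, ← rho_mul, ← rho_mul, ← rho_mul, hz]
    congr 2
    group
  obtain ⟨W, hW, h3⟩ := H906.E6.Hexa.exists_three hE hT hv fun b hb => hl b hb
  exact ⟨ρ, hρ, W, fun g hg w hw => hW ⟨g, hg⟩ w hw, h3⟩

end Cfsg.Agent.H906.E6.SixC

private theorem dce_5c7be2c95c62 : _root_.True := by
  try have : _root_.True := by simp only [_root_.Cfsg.Agent.H906.E6.Hexa.E0.eq_1]
  try have : _root_.True := by simp only [_root_.Cfsg.Agent.H906.E6.Hexa.Nm.eq_1]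
  try have : _root_.True := by simp only [_root_.Cfsg.Agent.H906.E6.Hexa.Ext.s.eq_1]
  try have : _root_.True := by simp only [_root_.Cfsg.Agent.H906.E6.Hexa.Ext.s.congr_simp]
  exact _root_.True.intro
end

-- part: H958/SixC/Hex2_mg
section
prune_inst 0x15000100044002000000808003000000200000000000000000000a060a01a04200000000022000020000008000050040000000000000000000000000000000000000000080080000020018000000000000000000000000000000000000010000000000000
set_option linter.all false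
open scoped Cfsg.Agent.FastGrp

-- part: H958/SixC/Hex
section
/-!
# S5927, S5928: `sixc_two`, the hexacode (helper958)
-/

set_option autoImplicit false

namespace Cfsg.Agent.H958.SixC

open Module
open Cfsg.Agent.H952.F4 (ev es)

variable {F P M : Type*} [Field F] [Group P] [AddCommGroup M] [Module F M]

/-- the scalar `b` of the central element `β`, characteristic 2 -/
structure Sc (ρ : Representation F P M) (β : P) (b : F) : Prop where
  act : ∀ v, ρ β v = b • v
  b2 : b * b + b + 1 = 0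
  two : (2 : F) = 0

theorem mul_ap (ρ : Representation F P M) (x y : P) (v : M) : ρ (x * y) v = ρ x (ρ y v) := by
  rw [map_mul]; rfl

theorem inv_ap (ρ : Representation F P M) (x : P) (v : M) : ρ x⁻¹ (ρ x v) = v := by
  rw [← mul_ap, inv_mul_cancel, map_one]; rfl

theorem ap_inv (ρ : Representation F P M) (x : P) (v : M) : ρ x (ρ x⁻¹ v) = v := by
  rw [← mul_ap, mul_inv_cancel, map_one]; rfl

theorem inv_eq {ρ : Representation F P M} {x : P} {v w : M} (h : ρ x v = w) : ρ x⁻¹ w = v := by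
  rw [← h, inv_ap]

theorem five_mul (z : P) : z * z * z * z * z = z ^ 5 := by
  rw [pow_succ, pow_succ, pow_succ, pow_succ, pow_one]

/-- monomial action of `z` and `g` on six vectors -/
structure Hx (ρ : Representation F P M) (z g : P) (b : F) (w0 w1 w2 w3 w4 w5 : M) : Prop where
  z0 : ρ z w0 = w1
  z1 : ρ z w1 = w2
  z2 : ρ z w2 = w3
  z3 : ρ z w3 = w4
  z4 : ρ z w4 = w0
  z5 : ρ z w5 = w5
  g0 : ρ g w0 = w5
  g1 : ρ g w1 = b • w2
  g2 : ρ g w2 = (b * b) • w1
  g3 : ρ g w3 = w3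
  g4 : ρ g w4 = w4
  g5 : ρ g w5 = w0

attribute [-instance] instNoNatZeroDivisorsOfIsAddTorsionFree instIsCharPOfIsLeftCancelAddOfCharP in
theorem Hx.of_KF {ζ z g β : P} (hh : Half ζ z g β) {ρ : Representation F P M} {b : F} (hs : Sc ρ β b) {w : M}
    (k : KF ρ z g w) :
    Hx ρ z g b (ρ g w) (ρ z (ρ g w)) (ρ z (ρ z (ρ g w))) (ρ z (ρ z (ρ z (ρ g w)))) (ρ z (ρ z (ρ z (ρ z (ρ g w))))) w := by
  obtain ⟨kz, kx⟩ := k
  have z5 : ∀ v, ρ z (ρ z (ρ z (ρ z (ρ z v)))) = v := fun v => by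
    have h := hh.z5
    rw [← mul_ap, ← mul_ap, ← mul_ap, ← mul_ap, show z * z * z * z * z = z ^ 5 from five_mul z, h, map_one]
    rfl
  have gg : ∀ v, ρ g (ρ g v) = v := fun v => by
    rw [← mul_ap, hh.gg, map_one]
    rfl
  set w0 := ρ g w with hw0
  set w1 := ρ z w0 with hw1
  set w2 := ρ z w1 with hw2
  set w3 := ρ z w2 with hw3
  set w4 := ρ z w3 with hw4
  have h4 : ρ z w4 = w0 := z5 w0
  have i0 : ρ z⁻¹ w0 = w4 := inv_eq h4
  have i4 : ρ z⁻¹ w4 = w3 := inv_eq rfl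
  have i3 : ρ z⁻¹ w3 = w2 := inv_eq rfl
  have i2 : ρ z⁻¹ w2 = w1 := inv_eq rfl
  have i1 : ρ z⁻¹ w1 = w0 := inv_eq rfl
  have iz : ρ z⁻¹ w = w := inv_eq kz
  have g3 : ρ g w3 = w3 := by
    have h := kx
    rw [xx] at h
    simp only [mul_ap] at h
    rw [← hw0, i0, i4] at h
    have h1 := congrArg (ρ g) h
    rw [gg, ← hw0] at h1
    have h2 := congrArg (ρ z⁻¹) h1
    rw [inv_ap, i0] at h2
    have h3 := congrArg (ρ z⁻¹) h2
    rw [inv_ap, i4] at h3
    exact h3
  have g4 : ρ g w4 = w4 := by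
    have h : ρ (g * z * g * z⁻¹ * g) w = w := by
      rw [hh.r4]
      simp only [mul_ap]
      rw [kx, iz, kx, kz, kx]
    simp only [mul_ap] at h
    rw [← hw0, i0] at h
    have h1 := congrArg (ρ g) h
    rw [gg, ← hw0] at h1
    have h2 := congrArg (ρ z⁻¹) h1
    rw [inv_ap, i0] at h2
    exact h2
  have g1 : ρ g w1 = b • w2 := by
    have h : ρ (g * z⁻¹ * z⁻¹ * g * z * g) w = b • w := by
      rw [hh.r2]
      simp only [mul_ap]
      rw [hs.act, map_smul, map_smul, map_smul, map_smul, map_smul, iz, kx, iz, kx, kz]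
    simp only [mul_ap] at h
    rw [← hw0, ← hw1] at h
    have h1 := congrArg (ρ g) h
    rw [gg, map_smul, ← hw0] at h1
    have h2 := congrArg (ρ z) h1
    rw [ap_inv, map_smul, ← hw1] at h2
    have h3 := congrArg (ρ z) h2
    rw [ap_inv, map_smul, ← hw2] at h3
    exact h3
  have g2 : ρ g w2 = (b * b) • w1 := by
    have h := congrArg (ρ g) g1
    rw [gg, map_smul] at h
    rw [h, smul_smul]
    have hb := hs.b2
    have h2 := hs.two
    have : b * b * b = 1 := by (clear * - hb h2; grobner)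
    rw [this, one_smul]
  exact ⟨rfl, rfl, rfl, rfl, h4, kz, gg w, g1, g2, g3, g4, rfl⟩

/-- the hexacode relation -/
def rr (ρ : Representation F P M) (z g : P) (b : F) (w : M) : M :=
  ρ g w + b • ρ z (ρ g w) + b • ρ z (ρ z (ρ g w)) + ρ z (ρ z (ρ z (ρ g w)))

section
variable {ρ : Representation F P M} {z g : P} {b : F} {w0 w1 w2 w3 w4 w5 : M}

theorem stab_of_gen {ζ β : P} (hh : Half ζ z g β) {W : Submodule F M} (hz : ∀ w ∈ W, ρ z w ∈ W)
    (hg : ∀ w ∈ W, ρ g w ∈ W) : St ρ W := by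
  have key : ∀ a : P, (∀ w ∈ W, ρ a w ∈ W) ∧ (∀ w ∈ W, ρ a⁻¹ w ∈ W) := by
    intro a
    have ha : a ∈ Subgroup.closure {z, g} := by rw [hh.gen]; exact Subgroup.mem_top a
    induction ha using Subgroup.closure_induction with
    | mem x hx =>
      rcases hx with rfl | rfl
      · refine ⟨hz, fun w hw => ?_⟩
        have h1 : x⁻¹ = x * x * x * x := by
          have := hh.z5
          rw [eq_comm, eq_inv_iff_mul_eq_one]
          rw [← this, ← five_mul]
        rw [h1]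
        simp only [mul_ap]
        exact hz _ (hz _ (hz _ (hz _ hw)))
      · refine ⟨hg, fun w hw => ?_⟩
        have h1 : x⁻¹ = x := by
          rw [inv_eq_iff_mul_eq_one]
          exact hh.gg
        rw [h1]
        exact hg _ hw
    | one =>
      refine ⟨fun w hw => ?_, fun w hw => ?_⟩
      · rw [map_one]; exact hw
      · rw [inv_one, map_one]; exact hw
    | mul x y _ _ hx hy =>
      refine ⟨fun w hw => ?_, fun w hw => ?_⟩
      · rw [mul_ap]; exact hx.1 _ (hy.1 _ hw)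
      · rw [mul_inv_rev, mul_ap]; exact hy.2 _ (hx.2 _ hw)
    | inv x _ hx =>
      refine ⟨hx.2, fun w hw => ?_⟩
      rw [inv_inv]; exact hx.1 _ hw
  exact fun g w hw => (key g).1 w hw

theorem span3_stable {x y v : M} {T : M →ₗ[F] M} (h1 : T x ∈ Submodule.span F {x, y, v})
    (h2 : T y ∈ Submodule.span F {x, y, v}) (h3 : T v ∈ Submodule.span F {x, y, v}) :
    ∀ w ∈ Submodule.span F {x, y, v}, T w ∈ Submodule.span F {x, y, v} := by
  intro w hw
  induction hw using Submodule.span_induction with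
  | mem a ha =>
    rcases ha with rfl | rfl | rfl
    · exact h1
    · exact h2
    · exact h3
  | zero => rw [map_zero]; exact Submodule.zero_mem _
  | add a c _ _ ha hc => rw [map_add]; exact Submodule.add_mem _ ha hc
  | smul s a _ ha => rw [map_smul]; exact Submodule.smul_mem _ _ ha

theorem mem3 {x y v : M} (r s t : F) : r • x + s • y + t • v ∈ Submodule.span F {x, y, v} := by
  refine Submodule.add_mem _ (Submodule.add_mem _ ?_ ?_) ?_
  · exact Submodule.smul_mem _ _ (Submodule.subset_span (by simp))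
  · exact Submodule.smul_mem _ _ (Submodule.subset_span (by simp))
  · exact Submodule.smul_mem _ _ (Submodule.subset_span (by simp))

attribute [-instance] instNoNatZeroDivisorsOfIsAddTorsionFree instIsCharPOfIsLeftCancelAddOfCharP in
/-- the stable subspace generated by the hexacode relation -/
theorem Hx.U_stable {ζ β : P} (hh : Half ζ z g β) (h : Hx ρ z g b w0 w1 w2 w3 w4 w5) (hb : b * b + b + 1 = 0)
    (h2 : (2 : F) = 0) : St ρ (Submodule.span F {w0 + b • w1 + b • w2 + w3, w1 + b • w2 + b • w3 + w4,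
      w5 + (b * b) • w2 + w1 + w3}) := by
  apply stab_of_gen hh
  · apply span3_stable
    · rw [map_add, map_add, map_add, map_smul, map_smul, h.z0, h.z1, h.z2, h.z3]
      exact Submodule.subset_span (by simp only [_root_.Set.mem_insert_iff, _root_.Set.mem_singleton_iff, _root_.true_or, _root_.or_true])
    · rw [map_add, map_add, map_add, map_smul, map_smul, h.z1, h.z2, h.z3, h.z4]
      have : w2 + b • w3 + b • w4 + w0 = (1 : F) • (w0 + b • w1 + b • w2 + w3) + b • (w1 + b • w2 + b • w3 + w4) +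
          (0 : F) • (w5 + (b * b) • w2 + w1 + w3) := by
        match_scalars <;> grobner
      rw [this]
      exact mem3 _ _ _
    · rw [map_add, map_add, map_add, map_smul, h.z1, h.z2, h.z3, h.z5]
      have : w5 + (b * b) • w3 + w2 + w4 = (0 : F) • (w0 + b • w1 + b • w2 + w3) + (1 : F) • (w1 + b • w2 + b • w3 + w4) +
          (1 : F) • (w5 + (b * b) • w2 + w1 + w3) := by
        match_scalars <;> grobner
      rw [this]
      exact mem3 _ _ _
  · apply span3_stable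
    · rw [map_add, map_add, map_add, map_smul, map_smul, h.g0, h.g1, h.g2, h.g3]
      have : w5 + b • b • w2 + b • (b * b) • w1 + w3 = (0 : F) • (w0 + b • w1 + b • w2 + w3) +
          (0 : F) • (w1 + b • w2 + b • w3 + w4) + (1 : F) • (w5 + (b * b) • w2 + w1 + w3) := by
        match_scalars <;> grobner
      rw [this]
      exact mem3 _ _ _
    · rw [map_add, map_add, map_add, map_smul, map_smul, h.g1, h.g2, h.g3, h.g4]
      have : b • w2 + b • (b * b) • w1 + b • w3 + w4 = (0 : F) • (w0 + b • w1 + b • w2 + w3) +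
          (1 : F) • (w1 + b • w2 + b • w3 + w4) + (0 : F) • (w5 + (b * b) • w2 + w1 + w3) := by
        match_scalars <;> grobner
      rw [this]
      exact mem3 _ _ _
    · rw [map_add, map_add, map_add, map_smul, h.g1, h.g2, h.g3, h.g5]
      have : w0 + (b * b) • (b * b) • w1 + b • w2 + w3 = (1 : F) • (w0 + b • w1 + b • w2 + w3) +
          (0 : F) • (w1 + b • w2 + b • w3 + w4) + (0 : F) • (w5 + (b * b) • w2 + w1 + w3) := by
        match_scalars <;> grobner
      rw [this]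
      exact mem3 _ _ _

attribute [-instance] instNoNatZeroDivisorsOfIsAddTorsionFree instIsCharPOfIsLeftCancelAddOfCharP in
/-- if the relation `r` is zero, all the relations hold -/
theorem Hx.rels (h : Hx ρ z g b w0 w1 w2 w3 w4 w5) (hb : b * b + b + 1 = 0)
    (h2 : (2 : F) = 0) (hr : w0 + b • w1 + b • w2 + w3 = 0) :
    w3 = w0 + b • w1 + b • w2 ∧ w5 = w0 + (b * b) • w1 + w2 ∧ w4 = b • w0 + b • w1 + w2 := by
  have e1 : w3 = w0 + b • w1 + b • w2 := by
    have : w3 = (w0 + b • w1 + b • w2 + w3) - (w0 + b • w1 + b • w2) := by abel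
    rw [hr] at this
    rw [this]
    match_scalars <;> (clear * - h2; grobner)
  have e2 : w5 + (b * b) • w2 + w1 + w3 = 0 := by
    have := congrArg (ρ g) hr
    rw [map_add, map_add, map_add, map_smul, map_smul, h.g0, h.g1, h.g2, h.g3, map_zero] at this
    rw [← this]
    match_scalars <;> (clear * - hb h2; grobner)
  have e3 : w1 + b • w2 + b • w3 + w4 = 0 := by
    have := congrArg (ρ z) hr
    rw [map_add, map_add, map_add, map_smul, map_smul, h.z0, h.z1, h.z2, h.z3, map_zero] at this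
    exact this
  refine ⟨e1, ?_, ?_⟩
  · have : w5 = (w5 + (b * b) • w2 + w1 + w3) - ((b * b) • w2 + w1 + w3) := by abel
    rw [e2] at this
    rw [this, e1]
    match_scalars <;> (clear * - hb h2; grobner)
  · have : w4 = (w1 + b • w2 + b • w3 + w4) - (w1 + b • w2 + b • w3) := by abel
    rw [e3] at this
    rw [this, e1]
    match_scalars <;> (clear * - hb h2; grobner)

theorem Hx.S_stable {ζ β : P} (hh : Half ζ z g β) (h : Hx ρ z g b w0 w1 w2 w3 w4 w5) (hb : b * b + b + 1 = 0)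
    (h2 : (2 : F) = 0) (hr : w0 + b • w1 + b • w2 + w3 = 0) : St ρ (Submodule.span F {w0, w1, w2}) := by
  obtain ⟨e3, e5, -⟩ := h.rels hb h2 hr
  apply stab_of_gen hh
  · apply span3_stable
    · rw [h.z0]; exact Submodule.subset_span (by simp)
    · rw [h.z1]; exact Submodule.subset_span (by simp)
    · rw [h.z2, e3]
      have : w0 + b • w1 + b • w2 = (1 : F) • w0 + b • w1 + b • w2 := by rw [one_smul]
      rw [this]; exact mem3 _ _ _
  · apply span3_stable
    · rw [h.g0, e5]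
      have : w0 + (b * b) • w1 + w2 = (1 : F) • w0 + (b * b) • w1 + (1 : F) • w2 := by rw [one_smul, one_smul]
      rw [this]; exact mem3 _ _ _
    · rw [h.g1]
      exact Submodule.smul_mem _ _ (Submodule.subset_span (by simp))
    · rw [h.g2]
      exact Submodule.smul_mem _ _ (Submodule.subset_span (by simp))

theorem Hx.w5_mem (h : Hx ρ z g b w0 w1 w2 w3 w4 w5) (hb : b * b + b + 1 = 0)
    (h2 : (2 : F) = 0) (hr : w0 + b • w1 + b • w2 + w3 = 0) : w5 ∈ Submodule.span F {w0, w1, w2} := by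
  obtain ⟨e3, e5, -⟩ := h.rels hb h2 hr
  have : w0 + (b * b) • w1 + w2 = (1 : F) • w0 + (b * b) • w1 + (1 : F) • w2 := by rw [one_smul, one_smul]
  rw [e5, this]; exact mem3 _ _ _

end

end Cfsg.Agent.H958.SixC
end

-- part: H958/SixC/Hex2
section
/-!
# S5927, S5928: `sixc_two`, the hexacode, dimensions (helper958)
-/

set_option autoImplicit false
set_option linter.unusedSectionVars false

namespace Cfsg.Agent.H958.SixC

open Module
open Cfsg.Agent.H952.F4 (ev es)

section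
variable {F M : Type*} [Field F] [AddCommGroup M] [Module F M]

theorem range3 (x y v : M) : Set.range ![x, y, v] = {x, y, v} := by
  ext a
  simp [eq_comm]
  itauto

theorem finrank_span3 (x y v : M) : finrank F ↥(Submodule.span F ({x, y, v} : Set M)) ≤ 3 := by
  have h := finrank_range_le_card (R := F) ![x, y, v]
  rw [range3] at h
  exact h

theorem indep3 {x y v : M} (h : finrank F ↥(Submodule.span F ({x, y, v} : Set M)) = 3) {r s t : F}
    (h0 : r • x + s • y + t • v = 0) : r = 0 ∧ s = 0 ∧ t = 0 := by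
  have h1 : LinearIndependent F ![x, y, v] := by
    rw [linearIndependent_iff_card_eq_finrank_span, range3]
    exact h.symm
  have h2 := Fintype.linearIndependent_iff.1 h1 ![r, s, t] (by
    simpa only [Fin.sum_univ_three, _root_.Nat.succ_eq_add_one, _root_.Nat.reduceAdd, _root_.Fin.isValue, _root_.Matrix.cons_val_zero, _root_.Matrix.cons_val_one, _root_.Matrix.cons_val] using h0)
  exact ⟨h2 0, h2 1, h2 2⟩

theorem indep3' {x y v : M} (h : finrank F ↥(Submodule.span F ({x, y, v} : Set M)) = 3) {r s t r' s' t' : F}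
    (h0 : r • x + s • y + t • v = r' • x + s' • y + t' • v) : r = r' ∧ s = s' ∧ t = t' := by
  have h1 : (r - r') • x + (s - s') • y + (t - t') • v = 0 := by
    have : (r - r') • x + (s - s') • y + (t - t') • v = (r • x + s • y + t • v) - (r' • x + s' • y + t' • v) := by
      module
    rw [this, h0, sub_self]
  obtain ⟨a, b, c⟩ := indep3 h h1
  exact ⟨sub_eq_zero.1 a, sub_eq_zero.1 b, sub_eq_zero.1 c⟩

theorem three_of {W : Submodule F M} [FiniteDimensional F ↥W] (h3 : finrank F ↥W ≤ 3) (hd : 3 ∣ finrank F ↥W) {w : M}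
    (hw : w ∈ W) (h0 : w ≠ 0) : finrank F ↥W = 3 := by
  have h1 : 0 < finrank F ↥W := by
    rw [Module.finrank_pos_iff]
    exact ⟨⟨⟨w, hw⟩, 0, fun h => h0 (congrArg Subtype.val h)⟩⟩
  omega

end

variable {F P M : Type*} [Field F] [Group P] [AddCommGroup M] [Module F M] [FiniteDimensional F M]
variable {ρ : Representation F P M} {ζ z g β : P} {b : F}

theorem S3_stable (hh : Half ζ z g β) (hs : Sc ρ β b) {w : M} (k : KF ρ z g w) (hr : rr ρ z g b w = 0) :
    St ρ (S3 ρ z g w) ∧ w ∈ S3 ρ z g w := by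
  have h := Hx.of_KF hh hs k
  exact ⟨h.S_stable hh hs.b2 hs.two hr, h.w5_mem hs.b2 hs.two hr⟩

theorem S3_le {X : Submodule F M} (hX : St ρ X) {w : M} (hw : w ∈ X) : S3 ρ z g w ≤ X := by
  rw [S3, Submodule.span_le]
  rintro x (rfl | rfl | rfl)
  · exact hX _ _ hw
  · exact hX _ _ (hX _ _ hw)
  · exact hX _ _ (hX _ _ (hX _ _ hw))

theorem S3_three (hd : ∀ W : Submodule F M, St ρ W → 3 ∣ finrank F ↥W) (hh : Half ζ z g β) (hs : Sc ρ β b) {w : M}
    (k : KF ρ z g w) (hr : rr ρ z g b w = 0) (h0 : w ≠ 0) : finrank F ↥(S3 ρ z g w) = 3 := by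
  obtain ⟨h1, h2⟩ := S3_stable hh hs k hr
  exact three_of (finrank_span3 _ _ _) (hd _ h1) h2 h0

/-- the subspace generated by the relation -/
def U3 (ρ : Representation F P M) (z g : P) (b : F) (w : M) : Submodule F M :=
  Submodule.span F {rr ρ z g b w, ρ z (rr ρ z g b w), ρ g (rr ρ z g b w)}

attribute [-instance] instNoNatZeroDivisorsOfIsAddTorsionFree instIsCharPOfIsLeftCancelAddOfCharP in
theorem U3_stable (hh : Half ζ z g β) (hs : Sc ρ β b) {w : M} (k : KF ρ z g w) : St ρ (U3 ρ z g b w) := by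
  have h := Hx.of_KF hh hs k
  have h1 := h.U_stable hh hs.b2 hs.two
  have e1 : ρ z (rr ρ z g b w) = ρ z (ρ g w) + b • ρ z (ρ z (ρ g w)) + b • ρ z (ρ z (ρ z (ρ g w))) +
      ρ z (ρ z (ρ z (ρ z (ρ g w)))) := by
    rw [rr, map_add, map_add, map_add, map_smul, map_smul]
  have hb := hs.b2
  have h2 := hs.two
  have e2 : ρ g (rr ρ z g b w) = w + (b * b) • ρ z (ρ z (ρ g w)) + ρ z (ρ g w) + ρ z (ρ z (ρ z (ρ g w))) := by
    rw [rr, map_add, map_add, map_add, map_smul, map_smul, h.g0, h.g1, h.g2, h.g3]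
    match_scalars <;> (clear * - hb h2; grobner)
  rw [U3, e1, e2]
  exact h1

theorem U3_le {X : Submodule F M} (hX : St ρ X) {w : M} (hw : w ∈ X) : U3 ρ z g b w ≤ X := by
  have hr : rr ρ z g b w ∈ X := by
    rw [rr]
    have h1 := hX g _ hw
    have h2 := hX z _ h1
    have h3 := hX z _ h2
    have h4 := hX z _ h3
    exact X.add_mem (X.add_mem (X.add_mem h1 (X.smul_mem _ h2)) (X.smul_mem _ h3)) h4
  rw [U3, Submodule.span_le]
  rintro x (rfl | rfl | rfl)
  · exact hr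
  · exact hX _ _ hr
  · exact hX _ _ hr

attribute [-instance] instNoNatZeroDivisorsOfIsAddTorsionFree instIsCharPOfIsLeftCancelAddOfCharP in
/-- action on the basis of `U3` -/
theorem U3_act (hh : Half ζ z g β) (hs : Sc ρ β b) {w : M} (k : KF ρ z g w) {r r1 r2 : M} (hr : r = rr ρ z g b w)
    (hr1 : r1 = ρ z r) (hr2 : r2 = ρ g r) :
    ρ z r1 = r + b • r1 ∧ ρ z r2 = r1 + r2 ∧ ρ g r1 = r1 ∧ ρ g r2 = r := by
  have h := Hx.of_KF hh hs k
  have hb := hs.b2
  have h2 := hs.two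
  have e1 : r1 = ρ z (ρ g w) + b • ρ z (ρ z (ρ g w)) + b • ρ z (ρ z (ρ z (ρ g w))) +
      ρ z (ρ z (ρ z (ρ z (ρ g w)))) := by
    rw [hr1, hr, rr, map_add, map_add, map_add, map_smul, map_smul]
  have e2 : r2 = w + (b * b) • ρ z (ρ z (ρ g w)) + ρ z (ρ g w) + ρ z (ρ z (ρ z (ρ g w))) := by
    rw [hr2, hr, rr, map_add, map_add, map_add, map_smul, map_smul, h.g0, h.g1, h.g2, h.g3]
    match_scalars <;> (clear * - hb h2; grobner)
  rw [rr] at hr
  refine ⟨?_, ?_, ?_, ?_⟩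
  · rw [e1, hr, map_add, map_add, map_add, map_smul, map_smul, h.z4]
    match_scalars <;> (clear * - hb h2; grobner)
  · rw [e1, e2, map_add, map_add, map_add, map_smul, h.z5]
    match_scalars <;> (clear * - hb h2; grobner)
  · rw [e1, map_add, map_add, map_add, map_smul, map_smul, h.g1, h.g2, h.g3, h.g4]
    match_scalars <;> (clear * - hb h2; grobner)
  · rw [e2, hr, map_add, map_add, map_add, map_smul, h.g1, h.g2, h.g3]
    match_scalars <;> (clear * - hb h2; grobner)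

attribute [-instance] instNoNatZeroDivisorsOfIsAddTorsionFree instIsCharPOfIsLeftCancelAddOfCharP in
/-- a vector fixed by `A₅` in a 3-dimensional stable subspace satisfies the relation -/
theorem rr_zero (hd : ∀ W : Submodule F M, St ρ W → 3 ∣ finrank F ↥W) (hh : Half ζ z g β) (hs : Sc ρ β b)
    {W : Submodule F M} (hW : St ρ W) (h3 : finrank F ↥W = 3) {w : M} (hw : w ∈ W) (k : KF ρ z g w) (h0 : w ≠ 0) :
    rr ρ z g b w = 0 := by
  by_contra hne
  have hU := U3_stable hh hs k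
  have hUW := U3_le (b := b) (z := z) (g := g) hW hw
  have hmem : rr ρ z g b w ∈ U3 ρ z g b w := Submodule.subset_span (by simp)
  have hU3 : finrank F ↥(U3 ρ z g b w) = 3 := three_of (finrank_span3 _ _ _) (hd _ hU) hmem hne
  have hUe : U3 ρ z g b w = W := Submodule.eq_of_le_of_finrank_eq hUW (hU3.trans h3.symm)
  rw [← hUe] at hw
  obtain ⟨a1, a2, a3, a4⟩ := U3_act hh hs k (r := rr ρ z g b w) rfl rfl rfl
  have hrdef : rr ρ z g b w = rr ρ z g b w := rfl
  conv_rhs at hrdef => rw [rr]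
  rw [U3] at hw hU3
  set r := rr ρ z g b w with hr
  set r1 := ρ z r with hr1
  set r2 := ρ g r with hr2
  rw [Submodule.mem_span_triple] at hw
  obtain ⟨p, q, s, hpq⟩ := hw
  have hb := hs.b2
  have h2 := hs.two
  -- `z w = w`
  have hz : q • r + (p + q * b + s) • r1 + s • r2 = p • r + q • r1 + s • r2 := by
    have hk := k.1
    rw [← hpq, map_add, map_add, map_smul, map_smul, map_smul, a1, a2, ← hr1] at hk
    rw [← hk]
    module
  obtain ⟨e1, e2, -⟩ := indep3' hU3 hz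
  have e3 : s = q * b := by (clear * - h2 e1 e2; grobner)
  subst e1
  rw [e3] at hpq
  clear hz e2 e3
  -- the relation in terms of `r, r1, r2`
  have w0 : ρ g w = (q * b) • r + q • r1 + q • r2 := by
    rw [← hpq, map_add, map_add, map_smul, map_smul, map_smul, a3, a4, ← hr2]
    module
  have w1 : ρ z (ρ g w) = q • r + q • r1 + q • r2 := by
    rw [w0, map_add, map_add, map_smul, map_smul, map_smul, a1, a2, ← hr1]
    match_scalars <;> (clear * - h2; grobner)
  have w2 : ρ z (ρ z (ρ g w)) = q • r + (q * b) • r1 + q • r2 := by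
    rw [w1, map_add, map_add, map_smul, map_smul, map_smul, a1, a2, ← hr1]
    match_scalars <;> (clear * - h2; grobner)
  have w3 : ρ z (ρ z (ρ z (ρ g w))) = (q * b) • r + (q * (b * b)) • r1 + q • r2 := by
    rw [w2, map_add, map_add, map_smul, map_smul, map_smul, a1, a2, ← hr1]
    match_scalars <;> (clear * - h2; grobner)
  rw [w3, w2, w1, w0] at hrdef
  have hfin : (1 : F) • r + (0 : F) • r1 + (0 : F) • r2 = (0 : F) • r + (q * (b * b)) • r1 + (0 : F) • r2 := by
    conv_lhs => rw [one_smul, hrdef]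
    match_scalars <;> (clear * - h2 hb; grobner)
  obtain ⟨e4, -, -⟩ := indep3' hU3 hfin
  exact one_ne_zero e4

end Cfsg.Agent.H958.SixC
end

-- part: H944/E6Kil
section
/-!
# The invariant form of the Lie algebra of `E₆` (helper944)

`KB F` : the symmetric bilinear form with Gram matrix `Ca` (Cartan matrix) on the fundamental coroots and
`(e_r, e_{-r}) = 1`: one sixth of the trace form. It is invariant over every field (`KB_inv`) and nondegenerate if
`3 ≠ 0` (`KB_nondeg`).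
-/

set_option autoImplicit false

namespace Cfsg.Agent.H944.E6Kil

open Cfsg Cfsg.Lie Module
open Cfsg.Agent.ChevalleyStructure.E6Min.Tables Cfsg.Agent.ChevalleyStructure.E6Min.Basic
  Cfsg.Agent.ChevalleyStructure.E6Min.Adjoint Cfsg.Agent.ChevalleyStructure.E6Min.Checks
open Cfsg.Agent.H65.E6Inv (ng ng_ng)
open Cfsg.Agent.H251.E6 (Ca Ka CaKa tr_HH tr_HN tr_NN tr_NN')
open scoped Matrix

/-- the Gram matrix -/
def Gm : Matrix chevE6.Idx chevE6.Idx ℤ := Matrix.of fun a b =>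
  match a with
  | Sum.inl i => (match b with | Sum.inl j => Ca (i : Fin 6) (j : Fin 6) | Sum.inr _ => 0)
  | Sum.inr r => (match b with | Sum.inl _ => 0 | Sum.inr s => if s.val + r.val = 71 then 1 else 0)

/-- the Gram matrix over a ring -/
def GF (F : Type*) [CommRing F] : Matrix chevE6.Idx chevE6.Idx F := Gm.map (Int.castRingHom F)

section field

variable {F : Type*} [Field F]

theorem tr_BB (a b : chevE6.Idx) : (B F a * B F b).trace = 6 * GF F a b := by
  rcases a with i | r <;> rcases b with j | s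
  · rw [B_inl, B_inl]
    have h := tr_HH (F := F) (i : Fin 6) (j : Fin 6)
    refine h.trans ?_
    show ((6 * Ca i j : ℤ) : F) = 6 * ((Ca i j : ℤ) : F)
    push_cast
    ring
  · rw [B_inl, B_inr, tr_HN (lt72 s)]
    show (0 : F) = 6 * ((0 : ℤ) : F)
    simp
  · rw [B_inl, B_inr, Matrix.trace_mul_comm, tr_HN (lt72 r)]
    show (0 : F) = 6 * ((0 : ℤ) : F)
    simp
  · rw [B_inr, B_inr]
    show _ = 6 * (((if s.val + r.val = 71 then 1 else 0 : ℤ)) : F)
    split_ifs with h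
    · have h1 : s.val = 71 - r.val := by omega
      rw [h1, tr_NN' (lt72 r)]
      simp
    · rw [tr_NN (lt72 r) (lt72 s) h]
      simp

theorem tr_comb (c d : chevE6.Idx → F) : (comb c * comb d).trace = 6 * (c ⬝ᵥ (GF F *ᵥ d)) := by
  rw [comb_def, comb_def, Finset.sum_mul_sum, Matrix.trace_sum, dotProduct, Finset.mul_sum]
  refine Finset.sum_congr rfl fun a _ => ?_
  rw [Matrix.trace_sum, Matrix.mulVec, dotProduct, Finset.mul_sum, Finset.mul_sum]
  refine Finset.sum_congr rfl fun b _ => ?_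
  rw [smul_mul_smul_comm, Matrix.trace_smul, tr_BB, smul_eq_mul]
  ring

theorem xMat_inv_of_six (h6 : (6 : F) ≠ 0) (r : Fin chevE6.nroots) (t : F) :
    (chevE6.xMat F r t)ᵀ * GF F * chevE6.xMat F r t = GF F := by
  have hP := P_root r t
  have hu : ((zU r.val t : GL I27 F) : Matrix I27 I27 F) = zM r.val t := coe_zU (lt72 r) t
  rw [← hu] at hP
  set g : GL I27 F := zU r.val t
  have h1 : ∀ c, comb (fun row => chevE6.xMat F r t row c) =
      (g : Matrix I27 I27 F) * B F c * ((g⁻¹ : GL I27 F) : Matrix I27 I27 F) := by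
    intro c
    rw [hP c, mul_assoc, ← Units.val_mul, mul_inv_cancel, Units.val_one, mul_one]
  ext a b
  apply mul_left_cancel₀ h6
  rw [← tr_BB]
  have h2 : ((chevE6.xMat F r t)ᵀ * GF F * chevE6.xMat F r t) a b =
      (fun row => chevE6.xMat F r t row a) ⬝ᵥ (GF F *ᵥ fun row => chevE6.xMat F r t row b) := by
    rw [Matrix.mul_assoc, Matrix.mul_apply, dotProduct]
    refine Finset.sum_congr rfl fun c _ => ?_
    rw [Matrix.transpose_apply, Matrix.mul_apply, Matrix.mulVec, dotProduct]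
  rw [h2, ← tr_comb, h1, h1]
  have h3 : (g : Matrix I27 I27 F) * B F a * ((g⁻¹ : GL I27 F) : Matrix I27 I27 F) *
      ((g : Matrix I27 I27 F) * B F b * ((g⁻¹ : GL I27 F) : Matrix I27 I27 F)) =
      (g : Matrix I27 I27 F) * (B F a * B F b) * ((g⁻¹ : GL I27 F) : Matrix I27 I27 F) := by
    have h4 : ((g⁻¹ : GL I27 F) : Matrix I27 I27 F) * (g : Matrix I27 I27 F) = 1 := by
      rw [← Units.val_mul, inv_mul_cancel, Units.val_one]
    calc _ = (g : Matrix I27 I27 F) * B F a * (((g⁻¹ : GL I27 F) : Matrix I27 I27 F) * (g : Matrix I27 I27 F)) *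
        B F b * ((g⁻¹ : GL I27 F) : Matrix I27 I27 F) := by simp only [mul_assoc]
      _ = _ := by rw [h4, mul_one]; simp only [mul_assoc]
  rw [h3, Matrix.trace_mul_cycle, ← Units.val_mul, inv_mul_cancel, Units.val_one, one_mul]

end field

/-! ### all characteristics -/

open Polynomial in
/-- the matrix of `x_r(X)` over `ℤ[X]` -/
noncomputable def XM (r : Fin chevE6.nroots) : Matrix chevE6.Idx chevE6.Idx ℤ[X] :=
  Matrix.of fun row col =>
    match col with
    | Sum.inl i =>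
      (match row with
       | Sum.inl i' => if i' = i then 1 else 0
       | Sum.inr u => if u = r then - (((chevE6.cartanSR.getD i.val #[]).getD r.val 0 : ℤ) : ℤ[X]) * X else 0)
    | Sum.inr s =>
      if s = r then (match row with | Sum.inr u => if u = r then 1 else 0 | Sum.inl _ => 0)
      else if s.val = chevE6.negIdx.getD r.val 0 then
        (match row with
         | Sum.inl i => (((chevE6.coroot.getD r.val #[]).getD i.val 0 : ℤ) : ℤ[X]) * X
         | Sum.inr u => if u = s then 1 else if u = r then -(X ^ 2) else 0)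
      else
        (match row with
         | Sum.inl _ => 0
         | Sum.inr u => (if u = s then 1 else 0) +
             ((chevE6.chainCoeff r.val s.val u.val).map fun km => ((km.2 : ℤ) : ℤ[X]) * X ^ km.1).sum)

open Polynomial in
theorem XM_map {F : Type*} [Field F] (f : ℤ[X] →+* F) (r : Fin chevE6.nroots) :
    (XM r).map f = chevE6.xMat F r (f X) := by
  ext row col
  rw [Matrix.map_apply]
  unfold XM ChevalleyDatum.xMat
  rw [Matrix.of_apply, Matrix.of_apply]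
  rcases col with i | s
  · rcases row with i' | u
    · show f (if i' = i then 1 else 0) = if i' = i then 1 else 0
      rw [apply_ite f, map_one, map_zero]
    · show f (if u = r then _ else 0) = if u = r then _ else 0
      rw [apply_ite f, map_mul, map_neg, map_intCast, map_zero]
  · show f (if s = r then _ else if s.val = _ then _ else _) = if s = r then _ else if s.val = _ then _ else _
    split_ifs with h1 h2
    · rcases row with i' | u
      · show f 0 = 0
        rw [map_zero]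
      · show f (if u = r then 1 else 0) = if u = r then 1 else 0
        rw [apply_ite f, map_one, map_zero]
    · rcases row with i' | u
      · show f ((_ : ℤ[X]) * X) = _
        rw [map_mul, map_intCast]
      · show f (if u = s then 1 else if u = r then -(X ^ 2) else 0) = if u = s then 1 else if u = r then -(f X ^ 2) else 0
        rw [apply_ite f, apply_ite f, map_one, map_zero, map_neg, map_pow]
    · rcases row with i' | u
      · show f 0 = 0
        rw [map_zero]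
      · show f ((if u = s then 1 else 0) + List.sum _) = (if u = s then 1 else 0) + List.sum _
        rw [map_add, apply_ite f, map_one, map_zero, map_list_sum, List.map_map]
        congr 3
        funext km
        show f (((km.2 : ℤ) : ℤ[X]) * X ^ km.1) = _
        rw [map_mul, map_intCast, map_pow]

theorem GF_map {R S : Type*} [CommRing R] [CommRing S] (f : R →+* S) : (GF R).map f = GF S := by
  ext a b
  show f ((Gm a b : ℤ) : R) = ((Gm a b : ℤ) : S)
  rw [map_intCast]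

open Polynomial in
theorem XM_inv (r : Fin chevE6.nroots) : (XM r)ᵀ * GF ℤ[X] * XM r = GF ℤ[X] := by
  have hinj := IsFractionRing.injective ℤ[X] (FractionRing ℤ[X])
  set f := algebraMap ℤ[X] (FractionRing ℤ[X]) with hf
  have h6 : (6 : FractionRing ℤ[X]) ≠ 0 := by
    have h1 : (6 : ℤ[X]) ≠ 0 := by norm_num
    have h2 : f 6 ≠ 0 := (map_ne_zero_iff f hinj).2 h1
    rwa [map_ofNat] at h2
  have h1 := xMat_inv_of_six h6 r (f X)
  rw [← XM_map, ← GF_map f, ← Matrix.transpose_map, ← Matrix.map_mul, ← Matrix.map_mul] at h1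
  exact Matrix.map_injective hinj h1

section field

variable {F : Type*} [Field F]

open Polynomial in
theorem xMat_inv (r : Fin chevE6.nroots) (t : F) : (chevE6.xMat F r t)ᵀ * GF F * chevE6.xMat F r t = GF F := by
  have h := congrArg (fun M : Matrix chevE6.Idx chevE6.Idx ℤ[X] => M.map (Polynomial.eval₂RingHom (Int.castRingHom F) t))
    (XM_inv r)
  simp only [Matrix.map_mul, Matrix.transpose_map, XM_map, GF_map] at h
  have hX : (Polynomial.eval₂RingHom (Int.castRingHom F) t) X = t := by simp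
  rwa [hX] at h

theorem group_inv {g : GL chevE6.Idx F} (hg : g ∈ chevE6.group F) :
    (g : Matrix chevE6.Idx chevE6.Idx F)ᵀ * GF F * (g : Matrix chevE6.Idx chevE6.Idx F) = GF F := by
  unfold ChevalleyDatum.group at hg
  induction hg using Subgroup.closure_induction with
  | mem x hx =>
    obtain ⟨r, t, h⟩ := hx
    rw [h]
    exact xMat_inv r t
  | one => rw [Units.val_one, Matrix.transpose_one, one_mul, mul_one]
  | mul x y _ _ h1 h2 =>
    rw [Units.val_mul, Matrix.transpose_mul]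
    calc _ = (y : Matrix chevE6.Idx chevE6.Idx F)ᵀ * ((x : Matrix chevE6.Idx chevE6.Idx F)ᵀ * GF F *
        (x : Matrix chevE6.Idx chevE6.Idx F)) * (y : Matrix chevE6.Idx chevE6.Idx F) := by simp only [mul_assoc]
      _ = _ := by rw [h1, h2]
  | inv x _ h1 =>
    have h2 : (x : Matrix chevE6.Idx chevE6.Idx F) * ((x⁻¹ : GL chevE6.Idx F) : Matrix chevE6.Idx chevE6.Idx F) = 1 := by
      rw [← Units.val_mul, mul_inv_cancel, Units.val_one]
    have h3 : ((x⁻¹ : GL chevE6.Idx F) : Matrix chevE6.Idx chevE6.Idx F)ᵀ * (x : Matrix chevE6.Idx chevE6.Idx F)ᵀ = 1 := by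
      rw [← Matrix.transpose_mul, h2, Matrix.transpose_one]
    calc _ = ((x⁻¹ : GL chevE6.Idx F) : Matrix chevE6.Idx chevE6.Idx F)ᵀ * ((x : Matrix chevE6.Idx chevE6.Idx F)ᵀ *
        GF F * (x : Matrix chevE6.Idx chevE6.Idx F)) * ((x⁻¹ : GL chevE6.Idx F) : Matrix chevE6.Idx chevE6.Idx F) := by
          rw [h1]
      _ = (((x⁻¹ : GL chevE6.Idx F) : Matrix chevE6.Idx chevE6.Idx F)ᵀ * (x : Matrix chevE6.Idx chevE6.Idx F)ᵀ) *
        GF F * ((x : Matrix chevE6.Idx chevE6.Idx F) *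
          ((x⁻¹ : GL chevE6.Idx F) : Matrix chevE6.Idx chevE6.Idx F)) := by simp only [mul_assoc]
      _ = _ := by rw [h2, h3, one_mul, mul_one]

variable (F) in
/-- the invariant form -/
noncomputable def KB : (chevE6.Idx → F) →ₗ[F] (chevE6.Idx → F) →ₗ[F] F := Matrix.toLinearMap₂' F (GF F)

theorem KB_apply (v w : chevE6.Idx → F) : KB F v w = v ⬝ᵥ (GF F *ᵥ w) := Matrix.toLinearMap₂'_apply' _ _ _

theorem KB_inv (g : ↥(chevE6.group F)) (v w : chevE6.Idx → F) :
    KB F (Cfsg.Agent.H163.E6.LK F g v) (Cfsg.Agent.H163.E6.LK F g w) = KB F v w := by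
  have h1 : ∀ x, Cfsg.Agent.H163.E6.LK F g x = ((g : GL chevE6.Idx F) : Matrix chevE6.Idx chevE6.Idx F) *ᵥ x :=
    fun x => rfl
  rw [KB_apply, KB_apply, h1, h1]
  conv_rhs => rw [← group_inv g.2]
  rw [← Matrix.mulVec_mulVec, ← Matrix.mulVec_mulVec, Matrix.dotProduct_mulVec v, Matrix.vecMul_transpose]

/-- **the form is nondegenerate** -/
theorem KB_nondeg (h3 : (3 : F) ≠ 0) (v : chevE6.Idx → F) (h : ∀ w, KB F v w = 0) : v = 0 := by
  have h1 : ∀ b, ∑ a, v a * GF F a b = 0 := by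
    intro b
    have h2 := h (Pi.single b 1)
    rw [KB_apply, dotProduct] at h2
    rw [← h2]
    refine Finset.sum_congr rfl fun a _ => ?_
    rw [Matrix.mulVec_single_one, Matrix.col_apply]
  have hr : ∀ r : Fin chevE6.nroots, v (Sum.inr r) = 0 := by
    intro r
    have h2 := h1 (Sum.inr (ng r))
    have hng : (ng r).val = 71 - r.val := rfl
    have hlt := lt72 r
    rw [Finset.sum_eq_single (Sum.inr r)] at h2
    · have h4 : GF F (Sum.inr r) (Sum.inr (ng r)) = 1 := by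
        show (((if (ng r).val + r.val = 71 then 1 else 0 : ℤ)) : F) = 1
        rw [if_pos (by omega), Int.cast_one]
      rw [h4, mul_one] at h2
      exact h2
    · intro a _ ha
      rcases a with i | s
      · show _ * (((0 : ℤ)) : F) = 0
        rw [Int.cast_zero, mul_zero]
      · show _ * (((if (ng r).val + s.val = 71 then 1 else 0 : ℤ)) : F) = 0
        rw [if_neg, Int.cast_zero, mul_zero]
        intro h5
        apply ha
        congr 1
        apply Fin.ext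
        omega
    · intro h; exact absurd (Finset.mem_univ _) h
  have hi : ∀ j : Fin 6, ∑ i : Fin 6, v (Sum.inl (i : Fin chevE6.rank)) * ((Ca i j : ℤ) : F) = 0 := by
    intro j
    have h2 := h1 (Sum.inl (j : Fin chevE6.rank))
    rw [Fintype.sum_sum_type] at h2
    rw [Finset.sum_eq_zero (s := (Finset.univ : Finset (Fin chevE6.nroots))) fun r _ => by rw [hr r, zero_mul],
      add_zero] at h2
    exact h2
  have hl : ∀ k : Fin 6, v (Sum.inl (k : Fin chevE6.rank)) = 0 := by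
    intro k
    have h1 : ∑ j : Fin 6, (∑ i : Fin 6, v (Sum.inl (i : Fin chevE6.rank)) * ((Ca i j : ℤ) : F)) * ((Ka j k : ℤ) : F) = 0 :=
      Finset.sum_eq_zero fun j _ => by rw [hi j, zero_mul]
    have h4 : ∑ j : Fin 6, (∑ i : Fin 6, v (Sum.inl (i : Fin chevE6.rank)) * ((Ca i j : ℤ) : F)) * ((Ka j k : ℤ) : F) =
        ∑ i : Fin 6, v (Sum.inl (i : Fin chevE6.rank)) * ((∑ j, Ca i j * Ka j k : ℤ) : F) := by
      simp only [Finset.sum_mul, Int.cast_sum, Int.cast_mul, Finset.mul_sum]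
      rw [Finset.sum_comm]
      refine Finset.sum_congr rfl fun i _ => Finset.sum_congr rfl fun j _ => ?_
      ring
    rw [h4, Finset.sum_eq_single k] at h1
    · rw [CaKa, if_pos rfl] at h1
      have h5 : ((3 : ℤ) : F) ≠ 0 := by
        rw [Int.cast_ofNat]
        exact h3
      exact (mul_eq_zero.1 h1).resolve_right h5
    · intro i _ hik
      rw [CaKa, if_neg hik, Int.cast_zero, mul_zero]
    · intro h
      exact absurd (Finset.mem_univ _) h
  funext row
  rcases row with i | r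
  · exact hl i
  · exact hr r

end field

end Cfsg.Agent.H944.E6Kil
end

-- part: H944/E6CovTwo
section
/-!
# Derivations commuting with the three-fold cover of `A₆` in characteristic 2 (helper944)

* `inv_six_two` : the Lie algebra has fixed vectors under `A₆` (Scott's lemma, `30 + 30 + 20 > 78`);
* `exists_der` : a derivation `D c ≠ 0` commuting with the preimage of the alternating group;
* `no_nilp` : a nilpotent one of rank at most 8 contradicts `Sit.no_add`.
-/

set_option autoImplicit false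

namespace Cfsg.Agent.H944.E6CovTwo

open Cfsg Cfsg.Lie Module
open Cfsg.Agent.ChevalleyStructure.E6Min.Tables Cfsg.Agent.ChevalleyStructure.E6Min.Basic
  Cfsg.Agent.ChevalleyStructure.E6Min.Adjoint
open Cfsg.Agent.H163.E6 Cfsg.Agent.H163.E6.Der
open Cfsg.Agent.H952.F4 (ev es matRep sh cr tf MaxAlt GenT)
open Cfsg.Agent.H952.F4.Jord
open Cfsg.Agent.H944.E6Kil (KB KB_inv KB_nondeg)
open scoped Matrix

universe u

section lin

variable {K : Type*} [Field K] {W : Type*} [AddCommGroup W] [Module K W] [FiniteDimensional K W]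

/-- kernels of products -/
theorem finrank_ker_mul_le (f g : Module.End K W) :
    finrank K (LinearMap.ker (f * g)) ≤ finrank K (LinearMap.ker f) + finrank K (LinearMap.ker g) := by
  let h : LinearMap.ker (f * g) →ₗ[K] LinearMap.ker f :=
    g.restrict (p := LinearMap.ker (f * g)) (q := LinearMap.ker f) (fun v hv => hv)
  have h1 := LinearMap.finrank_range_add_finrank_ker h
  have h2 : finrank K (LinearMap.range h) ≤ finrank K (LinearMap.ker f) := Submodule.finrank_le _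
  have h3 : finrank K (LinearMap.ker h) ≤ finrank K (LinearMap.ker g) := by
    let j : LinearMap.ker h →ₗ[K] W := (LinearMap.ker (f * g)).subtype ∘ₗ (LinearMap.ker h).subtype
    have hj : ∀ v, j v ∈ LinearMap.ker g := by
      rintro ⟨⟨v, hv⟩, h0⟩
      exact congrArg Subtype.val (LinearMap.mem_ker.1 h0)
    refine LinearMap.finrank_le_finrank_of_injective (f := j.codRestrict _ hj) ?_
    intro u v huv
    have h : j u = j v := by
      have h1 : ((j.codRestrict _ hj u : LinearMap.ker g) : W) = (j.codRestrict _ hj v : LinearMap.ker g) := by rw [huv]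
      exact h1
    exact Subtype.ext (Subtype.ext h)
  omega

theorem finrank_ker_pow_le (f : Module.End K W) (n : ℕ) :
    finrank K (LinearMap.ker (f ^ n)) ≤ n * finrank K (LinearMap.ker f) := by
  induction n with
  | zero =>
    rw [pow_zero, zero_mul]
    have : LinearMap.ker (1 : Module.End K W) = ⊥ := LinearMap.ker_id
    rw [this, finrank_bot]
  | succ n ih =>
    have := finrank_ker_mul_le (f ^ n) f
    rw [← pow_succ] at this
    rw [add_mul, one_mul]
    omega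

/-- an operator of order 4 in characteristic 2 -/
theorem four_mul_ev [CharP K 2] {T : Module.End K W} (hT : T ^ 4 = 1) : finrank K W ≤ 4 * ev T 1 := by
  by_cases hW : Nontrivial W
  · have : CharP (Module.End K W) 2 := charP_of_injective_algebraMap (algebraMap K (Module.End K W)).injective 2
    have h1 : (T - 1) ^ 4 = 0 := by
      have h2 : Commute T 1 := Commute.one_right _
      rw [show (4 : ℕ) = 2 ^ 2 by norm_num, sub_pow_char_pow_of_commute 2 2 h2, one_pow, show (2 ^ 2 : ℕ) = 4 by norm_num,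
        hT, sub_self]
    have h2 := finrank_ker_pow_le (T - 1) 4
    rw [h1] at h2
    have h3 : LinearMap.ker (0 : Module.End K W) = ⊤ := LinearMap.ker_zero
    have h4 : LinearMap.ker (T - 1) = Module.End.eigenspace T 1 := by
      rw [Module.End.eigenspace_def, one_smul]
    rw [h3, h4, finrank_top] at h2
    exact h2
  · rw [not_nontrivial_iff_subsingleton] at hW
    rw [finrank_zero_of_subsingleton]
    exact Nat.zero_le _

end lin

variable {F : Type u} [Field F] [Finite F]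

/-- **`L^A ≠ 0` for the three-fold cover of `A₆`, `p = 2`** -/
theorem inv_six_two [CharP F 2] {φ : ↥(alternatingGroup (Fin 6)) →* ↥(chevE6.group F)} (hφ : Function.Injective φ)
    {ω : Fˣ} (hc : Cover φ ω) :
    Representation.invariants (MonoidHom.comp (LK F) φ : Representation F ↥(alternatingGroup (Fin 6)) _) ≠ ⊥ := by
  have h3 : (3 : F) ≠ 0 := by
    intro h
    have h1 : ((3 : ℕ) : F) = 0 := by exact_mod_cast h
    rw [CharP.cast_eq_zero_iff F 2] at h1
    omega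
  have ord : ∀ {m : ℕ} {a : ↥(alternatingGroup (Fin 6))} {s : Multiset ℕ},
      (a : Equiv.Perm (Fin 6)).cycleType = s → s.lcm = m → orderOf a = m := by
    intro m a s ha hs
    rw [← Subgroup.orderOf_coe, ← Equiv.Perm.lcm_cycleType, ha, hs]
  have hthree : ∀ a : ↥(alternatingGroup (Fin 6)), orderOf a = 3 → ev (LK F (φ a)) 1 = 30 := by
    intro a ha
    obtain ⟨g, hg⟩ := ad_surjective (φ a)
    have h1 := (Cov.type_thirty (Or.inl rfl) hφ hc ha hg).2.2
    rwa [L_eq, hg] at h1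
  obtain ⟨x, y, hgen, hx, hy, hxy⟩ := H251.E6.gen6c
  have h1 := H952.F4.Scott.scott_form (MonoidHom.comp (LK F) φ : Representation F _ (chevE6.Idx → F)) hgen
    (KB F) (KB_nondeg h3) (fun g v w => KB_inv (φ g) v w)
  have h78 : finrank F (chevE6.Idx → F) = 78 := by
    rw [Module.finrank_fintype_fun_eq_card]
    rfl
  have h5 : ∀ a, (MonoidHom.comp (LK F) φ : Representation F _ (chevE6.Idx → F)) a = LK F (φ a) := fun a => rfl
  rw [h78, h5, h5, h5, hthree x (ord hx (by decide)), hthree y (ord hy (by decide))] at h1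
  have h4 : (LK F (φ (x * y))) ^ 4 = 1 := by
    have h6 := ord hxy (m := 4) (by decide)
    rw [← map_pow, ← map_pow, ← h6, pow_orderOf_eq_one, map_one, map_one]
  have h7 := four_mul_ev h4
  rw [h78] at h7
  intro hbot
  rw [hbot, finrank_bot] at h1
  omega

/-- **a derivation commuting with the preimage of the alternating group** -/
theorem exists_der [CharP F 2] {φ : ↥(alternatingGroup (Fin 6)) →* ↥(chevE6.group F)} (hφ : Function.Injective φ)
    {ω : Fˣ} (hc : Cover φ ω) : ∃ c : chevE6.Idx → F, c ≠ 0 ∧ ∀ g : ↥(Zgrp F), ad F g ∈ φ.range → L F g c = c := by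
  obtain ⟨c, hc1, hc2⟩ := (Submodule.ne_bot_iff _).1 (inv_six_two hφ hc)
  refine ⟨c, hc2, ?_⟩
  rintro g ⟨a, ha⟩
  rw [L_eq, ← ha]
  exact (Representation.mem_invariants (ρ := (MonoidHom.comp (LK F) φ : Representation F _ (chevE6.Idx → F))) c).1 hc1 a

/-! ### derivations commuting with group elements -/

section comm

omit [Finite F]

theorem D_comm {g : ↥(Zgrp F)} {c : chevE6.Idx → F} (h : L F g c = c) (x : I27 → F) :
    V F g (D c x) = D c (V F g x) := by
  rw [D_act, h]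

/-- conversely -/
theorem L_of_comm {g : ↥(Zgrp F)} {c : chevE6.Idx → F} (h : ∀ x, V F g (D c x) = D c (V F g x)) : L F g c = c := by
  apply D_injective
  apply LinearMap.ext
  intro x
  obtain ⟨z, rfl⟩ : ∃ z, V F g z = x := ⟨V F g⁻¹ x, Act.V_apply_inv g x⟩
  rw [← D_act, h]

theorem D_smul (t : F) (c : chevE6.Idx → F) (x : I27 → F) : D (t • c) x = t • D c x := by
  rw [D_sum, D_sum, Finset.smul_sum]
  refine Finset.sum_congr rfl fun row _ => ?_
  rw [smul_smul, Pi.smul_apply, smul_eq_mul]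

theorem D_zero (x : I27 → F) : D (0 : chevE6.Idx → F) x = 0 := by
  have := D_smul (0 : F) 0 x
  rwa [zero_smul, zero_smul] at this

theorem D_ne_zero {c : chevE6.Idx → F} (hc : c ≠ 0) : D c ≠ 0 := by
  intro h
  apply hc
  apply D_injective
  rw [h]
  apply LinearMap.ext
  intro x
  rw [D_zero]
  rfl

end comm

/-- **nilpotent derivations of small rank are impossible** -/
theorem no_nilp [CharP F 2] (h3 : 3 ≤ Nat.card F) {H : Subgroup ↥(chevE6.group F)} {n : ℕ}
    {φ : ↥(alternatingGroup (Fin n)) →* ↥(chevE6.group F)} (hS : Sit H n φ) {c : chevE6.Idx → F} (hc : c ≠ 0)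
    (hfix : ∀ g : ↥(Zgrp F), ad F g ∈ φ.range → L F g c = c) (hr : finrank F ↥(LinearMap.range (D c)) ≤ 8)
    (hn : IsNilpotent (D c)) : False := by
  have hp : (2 : ℕ).Prime := Nat.prime_two
  have hF3 : (3 : F) ≠ 0 := by
    intro h
    have h1 : ((3 : ℕ) : F) = 0 := by exact_mod_cast h
    rw [CharP.cast_eq_zero_iff F 2] at h1
    omega
  obtain ⟨m, hm⟩ := hn
  have hex : ∃ k, D c ^ (2 ^ k) = 0 := by
    refine ⟨m, ?_⟩
    have h1 : m ≤ 2 ^ m := Nat.lt_two_pow_self.le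
    rw [← Nat.sub_add_cancel h1, pow_add, hm, mul_zero]
  classical
  obtain ⟨k, hk⟩ : ∃ k, k = Nat.find hex := ⟨_, rfl⟩
  have hk0 : D c ^ (2 ^ k) = 0 := by rw [hk]; exact Nat.find_spec hex
  have hkpos : k ≠ 0 := by
    rintro rfl
    rw [pow_zero, pow_one] at hk0
    exact D_ne_zero hc hk0
  obtain ⟨j, rfl⟩ := Nat.exists_eq_succ_of_ne_zero hkpos
  have hj : D c ^ (2 ^ j) ≠ 0 := Nat.find_min hex (by omega)
  obtain ⟨c', hc'⟩ := _root_.Cfsg.Agent.H163.E6.Der.pow_mem hp c j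
  have hsq : ∀ x, D c' (D c' x) = 0 := by
    intro x
    have h1 : D c' * D c' = 0 := by rw [hc', ← pow_add, ← two_mul, ← pow_succ', hk0]
    exact LinearMap.congr_fun h1 x
  have hr' : finrank F ↥(LinearMap.range (D c')) ≤ 8 := by
    refine le_trans (Submodule.finrank_mono ?_) hr
    rw [hc']
    have h1 : (2 : ℕ) ^ j = (2 ^ j - 1) + 1 := by have := Nat.one_le_two_pow (n := j); omega
    rw [h1, pow_succ']
    rintro _ ⟨x, rfl⟩
    exact ⟨(D c ^ (2 ^ j - 1)) x, rfl⟩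
  have hfix' : ∀ g : ↥(Zgrp F), ad F g ∈ φ.range → L F g c' = c' := by
    intro g hg
    apply L_of_comm
    intro x
    rw [hc']
    have h1 : ∀ i x, V F g ((D c ^ i) x) = (D c ^ i) (V F g x) := by
      intro i
      induction i with
      | zero => intro x; rfl
      | succ i ih =>
        intro x
        rw [pow_succ', Module.End.mul_apply, Module.End.mul_apply, D_comm (hfix g hg), ih]
    exact h1 _ x
  refine hS.no_add (D c') (by rw [hc']; exact hj) hsq fun t => ?_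
  obtain ⟨g, hg⟩ := one_add_mem_of_ts h3 (isDer_D (t • c')) (fun x => by rw [D_smul, D_smul, map_smul, hsq, smul_zero, smul_zero])
    (fun y => by
      rw [D_smul, sh_smul, sh_D_eq_zero h3 hF3 c' hsq hr' y, smul_zero])
  refine ⟨g, fun x => by rw [hg, D_smul], fun b => ?_⟩
  obtain ⟨h, hh⟩ := ad_surjective (φ b)
  have h1 : h * g = g * h := by
    apply Cfsg.Agent.H65.E6Ext.V_injective
    intro x
    rw [map_mul, map_mul, Module.End.mul_apply, Module.End.mul_apply, hg, hg, map_add, D_smul, D_smul, map_smul,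
      D_comm (hfix' h ⟨b, hh.symm⟩)]
  rw [← hh, ← map_mul, ← map_mul, h1]

end Cfsg.Agent.H944.E6CovTwo
end

-- part: H944/E6CovFit
section
/-!
# Derivations commuting with the three-fold cover of `A₆` in characteristic 2: the semisimple part (helper944)

* `Fit.exists_three` : a stable subspace of dimension three inside a stable subspace which contains a vector with a line
  stable under a point stabilizer;
* `no_der` : a derivation `D c ≠ 0` commuting with the preimage, of rank at most 6, such that `D c` and `D' c` are 0 on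
  all stable subspaces of dimension three, is impossible.
-/

set_option autoImplicit false

namespace Cfsg.Agent.H944.E6CovFit

open Cfsg Cfsg.Lie Module Equiv
open Cfsg.Agent.ChevalleyStructure.E6Min.Tables Cfsg.Agent.ChevalleyStructure.E6Min.Basic
  Cfsg.Agent.ChevalleyStructure.E6Min.Adjoint
open Cfsg.Agent.H163.E6 Cfsg.Agent.H163.E6.Der
open Cfsg.Agent.H952.F4 (ev es matRep sh cr tf MaxAlt)
open Cfsg.Agent.H952.F4.Jord
open Cfsg.Agent.H944.E6CovTwo
open Cfsg.Agent.H906.E6.Hexa (A6 tx ty Ext XY)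
open Cfsg.Agent.H906.E6.SixC (j j_injective j_surj eq_one_of_id)

universe u

/-! ### linear algebra -/

section lin

variable {K : Type*} [Field K] {W : Type*} [AddCommGroup W] [Module K W] [FiniteDimensional K W]

/-- an involution in characteristic 2 -/
theorem two_mul_ev [CharP K 2] {T : Module.End K W} (hT : T ^ 2 = 1) : finrank K W ≤ 2 * ev T 1 := by
  have h2 : (2 : K) = 0 := CharTwo.two_eq_zero
  have h1 : (T - 1) ^ 2 = 0 := by
    refine LinearMap.ext fun v => ?_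
    have h3 : T (T v) = v := by
      have := LinearMap.congr_fun hT v
      rwa [pow_two] at this
    rw [pow_two]
    show T (T v - v) - (T v - v) = 0
    rw [map_sub, h3]
    have h4 : v - T v - (T v - v) = (2 : K) • (v - T v) := by rw [two_smul]; abel
    rw [h4, h2, zero_smul]
  have h5 := finrank_ker_pow_le (T - 1) 2
  have h3 : LinearMap.ker (0 : Module.End K W) = ⊤ := LinearMap.ker_zero
  have h4 : LinearMap.ker (T - 1) = Module.End.eigenspace T 1 := by
    rw [Module.End.eigenspace_def, one_smul]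
  rw [h1, h4, h3, finrank_top] at h5
  exact h5

/-- eigenspaces of `T` are permuted by an operator commuting with `T` up to a scalar -/
theorem ev_le {T B : Module.End K W} {d m : K} (hd : d ≠ 0) (hB : Function.Injective B)
    (h : ∀ w, B (T w) = d • T (B w)) : ev T m ≤ ev T (d⁻¹ * m) := by
  rw [ev, ev]
  let f : Module.End.eigenspace T m →ₗ[K] W := B ∘ₗ (Module.End.eigenspace T m).subtype
  have hf : ∀ v, f v ∈ Module.End.eigenspace T (d⁻¹ * m) := by
    rintro ⟨v, hv⟩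
    rw [Module.End.mem_eigenspace_iff] at hv ⊢
    show T (B v) = (d⁻¹ * m) • B v
    rw [mul_smul, ← map_smul, ← hv, h, smul_smul, inv_mul_cancel₀ hd, one_smul]
  refine LinearMap.finrank_le_finrank_of_injective (f := f.codRestrict _ hf) ?_
  intro u v huv
  have h1 : f u = f v := congrArg Subtype.val huv
  exact Subtype.ext (hB h1)

/-- an element of order three -/
theorem three_mul_ev {T B : Module.End K W} {d : K} (hd1 : d ≠ 1) (hd3 : d ^ 3 = 1) (hT : T ^ 3 = 1)
    (hB : Function.Injective B) (h : ∀ w, B (T w) = d • T (B w)) : finrank K W ≤ 3 * ev T 1 := by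
  have hd : d ≠ 0 := by
    rintro rfl
    rw [zero_pow (by norm_num)] at hd3
    exact zero_ne_one hd3
  have hq : d ^ 2 + d + 1 = 0 := by
    have h1 : (d - 1) * (d ^ 2 + d + 1) = 0 := by linear_combination hd3
    exact (mul_eq_zero.1 h1).resolve_left (sub_ne_zero.2 hd1)
  have e1 := ev_le (m := d⁻¹ * (d⁻¹ * 1)) hd hB h
  have e2 := ev_le (m := d⁻¹ * 1) hd hB h
  have e3 : d⁻¹ * (d⁻¹ * (d⁻¹ * 1)) = 1 := by
    have h7 := inv_mul_cancel₀ hd
    have h8 : d⁻¹ ^ 3 = 1 := by rw [inv_pow, hd3, inv_one]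
    linear_combination h8
  rw [e3] at e1
  have e4 : ∀ m : K, LinearMap.ker (T - m • 1) = Module.End.eigenspace T m := by
    intro m
    rw [Module.End.eigenspace_def]
  have h1 : (T - (d⁻¹ * (d⁻¹ * 1)) • 1) * ((T - (d⁻¹ * 1) • 1) * (T - (1 : K) • (1 : Module.End K W))) = 0 := by
    refine LinearMap.ext fun v => ?_
    have h5 : T (T (T v)) = v := by
      have := LinearMap.congr_fun hT v
      rwa [pow_succ, pow_two] at this
    show T (T (T v - (1 : K) • v) - (d⁻¹ * 1) • (T v - (1 : K) • v))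
      - (d⁻¹ * (d⁻¹ * 1)) • (T (T v - (1 : K) • v) - (d⁻¹ * 1) • (T v - (1 : K) • v)) = 0
    simp only [map_sub, map_smul, one_smul, mul_one]
    rw [h5]
    have h6 : d⁻¹ ^ 2 + d⁻¹ + 1 = 0 := by
      have h7 := inv_mul_cancel₀ hd
      linear_combination d⁻¹ ^ 2 * hq - (d⁻¹ * d + 1) * h7 - d⁻¹ * h7
    have h7 : d⁻¹ * (d⁻¹ * d⁻¹) = 1 := by rw [mul_one] at e3; exact e3
    obtain ⟨e, he⟩ : ∃ e, e = d⁻¹ := ⟨_, rfl⟩
    rw [← he] at h6 h7 ⊢
    have h8 : v - T (T v) - e • (T (T v) - T v) - (e * e) • (T (T v) - T v - e • (T v - v)) =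
        (1 - e * (e * e)) • v + (-(1 + e + e ^ 2)) • T (T v) + (e * (1 + e + e * e)) • T v := by
      module
    rw [h8]
    have h9 : 1 - e * (e * e) = 0 := by linear_combination -h7
    have h10 : -(1 + e + e ^ 2) = 0 := by linear_combination -h6
    have h11 : e * (1 + e + e * e) = 0 := by linear_combination e * h6
    rw [h9, h10, h11, zero_smul, zero_smul, zero_smul, add_zero, add_zero]
  have h2 := finrank_ker_mul_le (T - (d⁻¹ * (d⁻¹ * 1)) • 1) ((T - (d⁻¹ * 1) • 1) * (T - (1 : K) • (1 : Module.End K W)))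
  have h3 := finrank_ker_mul_le (T - (d⁻¹ * 1) • 1) (T - (1 : K) • (1 : Module.End K W))
  rw [h1] at h2
  have h4 : LinearMap.ker (0 : Module.End K W) = ⊤ := LinearMap.ker_zero
  rw [h4, finrank_top, e4] at h2
  rw [e4, e4] at h3
  have h5 : ∀ m, finrank K ↥(Module.End.eigenspace T m) = ev T m := fun m => rfl
  rw [h5] at h2 h3
  rw [h5] at h3
  omega

omit [FiniteDimensional K W] in
/-- restriction to a stable subspace -/
theorem ev_restrict {T : Module.End K W} {U : Submodule K W} (hU : ∀ w ∈ U, T w ∈ U) (m : K) :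
    ev (T.restrict hU) m = finrank K ↥(U ⊓ Module.End.eigenspace T m) := by
  have h1 : (Module.End.eigenspace (T.restrict hU) m).map U.subtype = U ⊓ Module.End.eigenspace T m := by
    ext w
    constructor
    · rintro ⟨u, hu, rfl⟩
      rw [SetLike.mem_coe, Module.End.mem_eigenspace_iff] at hu
      exact ⟨u.2, Module.End.mem_eigenspace_iff.2 (congrArg Subtype.val hu)⟩
    · rintro ⟨hu, hw⟩
      exact ⟨⟨w, hu⟩, Module.End.mem_eigenspace_iff.2 (Subtype.ext (Module.End.mem_eigenspace_iff.1 hw)), rfl⟩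
  rw [ev, ← Submodule.finrank_map_subtype_eq U, h1]

/-- eigenspaces and stable decompositions -/
theorem ev_le_add {T : Module.End K W} {U1 U2 : Submodule K W} (h1 : ∀ w ∈ U1, T w ∈ U1) (h2 : ∀ w ∈ U2, T w ∈ U2)
    (hc : IsCompl U1 U2) (m : K) :
    ev T m ≤ finrank K ↥(U1 ⊓ Module.End.eigenspace T m) + finrank K ↥(U2 ⊓ Module.End.eigenspace T m) := by
  have h3 : Module.End.eigenspace T m ≤ (U1 ⊓ Module.End.eigenspace T m) ⊔ (U2 ⊓ Module.End.eigenspace T m) := by
    intro w hw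
    obtain ⟨u1, hu1, u2, hu2, rfl⟩ := Submodule.mem_sup.1 (hc.sup_eq_top ▸ Submodule.mem_top : w ∈ U1 ⊔ U2)
    rw [Module.End.mem_eigenspace_iff] at hw
    have h4 : T u1 - m • u1 = -(T u2 - m • u2) := by
      rw [map_add, smul_add] at hw
      rw [neg_sub, sub_eq_sub_iff_add_eq_add, hw]
      abel
    have h5 : T u1 - m • u1 ∈ U1 ⊓ U2 := by
      refine ⟨U1.sub_mem (h1 _ hu1) (U1.smul_mem _ hu1), ?_⟩
      rw [h4]
      exact U2.neg_mem (U2.sub_mem (h2 _ hu2) (U2.smul_mem _ hu2))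
    rw [hc.inf_eq_bot, Submodule.mem_bot] at h5
    have h6 : T u2 - m • u2 = 0 := by rw [h5, eq_comm, neg_eq_zero] at h4; exact h4
    refine Submodule.add_mem_sup ⟨hu1, ?_⟩ ⟨hu2, ?_⟩
    · exact Module.End.mem_eigenspace_iff.2 (sub_eq_zero.1 h5)
    · exact Module.End.mem_eigenspace_iff.2 (sub_eq_zero.1 h6)
  exact (Submodule.finrank_mono h3).trans (Submodule.finrank_add_le_finrank_add_finrank _ _)

end lin

/-! ### stable subspaces of the preimage of the alternating group -/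

section sub

variable {K : Type*} [Field K] {W : Type*} [AddCommGroup W] [Module K W] {P : Type*} [Group P]

/-- restriction of a representation to a stable subspace -/
def subrep (ρ : Representation K P W) (U : Submodule K W) (hU : ∀ b, ∀ w ∈ U, ρ b w ∈ U) : Representation K P ↥U where
  toFun b := (ρ b).restrict (hU b)
  map_one' := by
    refine LinearMap.ext fun w => Subtype.ext ?_
    show ρ 1 (w : W) = w
    rw [map_one]
    rfl
  map_mul' a b := by
    refine LinearMap.ext fun w => Subtype.ext ?_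
    show ρ (a * b) (w : W) = ρ a (ρ b w)
    rw [map_mul]
    rfl

end sub

variable {F : Type u} [Field F] [Finite F] {φ : A6 →* ↥(chevE6.group F)}

/-- the representation of the preimage -/
noncomputable abbrev rP (φ : A6 →* ↥(chevE6.group F)) (ρ : Representation F ↥(Zgrp F) (I27 → F)) :
    Representation F ↥(φ.range.comap (ad F)) (I27 → F) :=
  MonoidHom.comp ρ (φ.range.comap (ad F)).subtype

omit [Finite F] in
theorem stab_rP {ρ : Representation F ↥(Zgrp F) (I27 → F)} {U : Submodule F (I27 → F)} (hU : Stab ρ φ.range U) :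
    ∀ b, ∀ w ∈ U, rP φ ρ b w ∈ U := fun b w hw => hU b b.2 w hw

omit [Finite F] in
theorem ext_pr (hφ : Function.Injective φ) : _root_.Cfsg.Agent.H906.E6.Hexa.Ext (Cov.pr hφ) := by
  refine ⟨Cov.pr_surjective hφ, fun z hz b => ?_, fun z hz => ?_⟩
  · exact Subtype.ext (Cov.ker_comm ((Cov.pr_eq_one hφ z).1 hz) b)
  · exact Subtype.ext (Cov.ker_pow ((Cov.pr_eq_one hφ z).1 hz))

/-- lifts of disjoint 3-cycles commute up to a scalar of order three -/
theorem comm_smul (hφ : Function.Injective φ) {ω : Fˣ} (hc : Cover φ ω) {ρ : Representation F ↥(Zgrp F) (I27 → F)}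
    (hρ : ρ = V F ∨ ρ = V' F) {a b : A6} (ha : (a : Perm (Fin 6)).cycleType = {3}) (hb : (b : Perm (Fin 6)).cycleType = {3})
    (hab : (a : Perm (Fin 6)).Disjoint b) {x y : ↥(Zgrp F)} (hx : ad F x = φ a) (hy : ad F y = φ b) :
    ∃ d : F, d ≠ 1 ∧ d ^ 3 = 1 ∧ ∀ w, ρ x (ρ y w) = d • ρ y (ρ x w) := by
  have hcm : a * b = b * a := Subtype.ext hab.commute.eq
  obtain ⟨z, hz⟩ : ∃ z : ↥(Zgrp F), z = x * y * x⁻¹ * y⁻¹ := ⟨_, rfl⟩
  have hz1 : ad F z = 1 := by
    rw [hz, map_mul, map_mul, map_mul, map_inv, map_inv, hx, hy, ← map_inv, ← map_inv, ← map_mul, ← map_mul, ← map_mul,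
      hcm, mul_inv_cancel_right, mul_inv_cancel, map_one]
  have hz0 : z ≠ 1 := by
    intro h0
    have h1 := Cov.not_comm (n := 6) (Or.inl rfl) hφ hc ha hb hab hx hy
    rw [← hz, h0] at h1
    have h2 : ((1 : ↥(Zgrp F)) : GL I27 F) = scal 1 := by rw [Cov.scal_one]; rfl
    rw [h2] at h1
    rcases h1 with ⟨-, h1⟩ | ⟨-, h1⟩
    · exact hc.1 (Cov.scal_injective h1).symm
    · exact hc.1 (inv_eq_one.1 (Cov.scal_injective h1).symm)
  obtain ⟨d, hd⟩ := exists_smul hz1 hρ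
  have hd1 : d ≠ 1 := by
    rintro rfl
    exact hz0 (eq_one_of_id hρ fun w => by rw [hd, one_smul])
  obtain ⟨v, hv⟩ : ∃ v : I27 → F, v ≠ 0 := ⟨fun _ => 1, fun h => one_ne_zero (congrFun h (0 : I27))⟩
  have hd3 : d ^ 3 = 1 := by
    have h1 : ρ (z ^ 3) v = v := by rw [Cov.ker_pow hz1, map_one]; rfl
    rw [pow_succ, pow_two, rho_mul, rho_mul, hd, hd, hd, smul_smul, smul_smul] at h1
    have h2 : (d * d * d - 1) • v = 0 := by rw [sub_smul, h1, one_smul, sub_self]
    have h3 := (smul_eq_zero.1 h2).resolve_right hv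
    linear_combination h3
  refine ⟨d, hd1, hd3, fun w => ?_⟩
  rw [← hd, ← rho_mul, ← rho_mul, ← rho_mul, hz]
  congr 2
  group

/-- the commuting 3-elements -/
theorem exists_xy (hφ : Function.Injective φ) {ω : Fˣ} (hc : Cover φ ω) {ρ : Representation F ↥(Zgrp F) (I27 → F)}
    (hρ : ρ = V F ∨ ρ = V' F) : ∃ x y, ∃ d : F, XY (Cov.pr hφ) (rP φ ρ) x y d := by
  obtain ⟨x, hx⟩ := Cov.pr_surjective hφ tx
  obtain ⟨y, hy⟩ := Cov.pr_surjective hφ ty
  have hx' : ad F (x : ↥(Zgrp F)) = φ tx := by rw [← hx, Cov.phi_pr]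
  have hy' : ad F (y : ↥(Zgrp F)) = φ ty := by rw [← hy, Cov.phi_pr]
  obtain ⟨d, hd1, hd3, hd⟩ := comm_smul hφ hc hρ (a := tx) (b := ty) (by decide +kernel) (by decide +kernel)
    (show ∀ i, _ from by decide +kernel) hx' hy'
  exact ⟨x, y, d, hx, hy, hd, hd1, hd3⟩

/-- stable subspaces have dimension divisible by 3 -/
theorem three_dvd (hφ : Function.Injective φ) {ω : Fˣ} (hc : Cover φ ω) {ρ : Representation F ↥(Zgrp F) (I27 → F)}
    (hρ : ρ = V F ∨ ρ = V' F) {U : Submodule F (I27 → F)} (hU : Stab ρ φ.range U) : 3 ∣ finrank F ↥U := by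
  obtain ⟨x, y, d, hT⟩ := exists_xy hφ hc hρ
  exact hT.three_dvd U (stab_rP hU)

/-- a stable subspace of dimension three in a given stable subspace -/
theorem exists_three [CharP F 2] (hφ : Function.Injective φ) {ω : Fˣ} (hc : Cover φ ω)
    {ρ : Representation F ↥(Zgrp F) (I27 → F)}
    (hρ : ρ = V F ∨ ρ = V' F) {U : Submodule F (I27 → F)} (hU : Stab ρ φ.range U) {v : I27 → F} (hv : v ∈ U) (hv0 : v ≠ 0)
    (hl : ∀ b : ↥(φ.range.comap (ad F)), (Cov.pr hφ b : Perm (Fin 6)) 5 = 5 → ∃ c : F, ρ b v = c • v) :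
    ∃ W : Submodule F (I27 → F), W ≤ U ∧ Stab ρ φ.range W ∧ finrank F ↥W = 3 := by
  obtain ⟨x, y, d, hT⟩ := exists_xy hφ hc hρ
  have hT' : XY (Cov.pr hφ) (subrep (rP φ ρ) U (stab_rP hU)) x y d :=
    ⟨hT.hx, hT.hy, fun u => Subtype.ext ((hT.comm u :)), hT.ne, hT.cube⟩
  obtain ⟨W, hW, h3⟩ := H906.E6.Hexa.exists_three (ext_pr hφ) hT' (v := (⟨v, hv⟩ : ↥U))
    (fun h => hv0 (congrArg Subtype.val h)) fun b hb => by
      obtain ⟨c, hc⟩ := hl b hb
      exact ⟨c, Subtype.ext hc⟩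
  refine ⟨W.map U.subtype, ?_, ?_, ?_⟩
  · rintro _ ⟨w, -, rfl⟩
    exact w.2
  · rintro g hg _ ⟨w, hw, rfl⟩
    exact ⟨_, hW ⟨g, hg⟩ w hw, rfl⟩
  · rw [Submodule.finrank_map_subtype_eq, h3]

/-! ### the theorem -/

omit [Finite F] in
/-- `tf` is a perfect pairing -/
theorem exists_tf (f : (I27 → F) →ₗ[F] F) : ∃ y : I27 → F, ∀ x, f x = tf x y := by
  let Φ : (I27 → F) →ₗ[F] Module.Dual F (I27 → F) :=
    LinearMap.mk₂ F (fun y x => tf x y) (fun y y' x => tf_add_right x y y') (fun c y x => tf_smul_right c x y)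
      (fun y x x' => tf_add_left x x' y) (fun c y x => tf_smul_left c x y)
  have hΦ : ∀ y x, Φ y x = tf x y := fun y x => rfl
  have hinj : Function.Injective Φ := by
    rw [← LinearMap.ker_eq_bot, eq_bot_iff]
    intro y hy
    rw [LinearMap.mem_ker] at hy
    rw [Submodule.mem_bot]
    apply tf_nondeg
    intro x
    rw [tf_comm, ← hΦ, hy, LinearMap.zero_apply]
  have hsurj : Function.Surjective Φ :=
    (LinearMap.injective_iff_surjective_of_finrank_eq_finrank (by exact (Subspace.dual_finrank_eq).symm)).1 hinj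
  obtain ⟨y, hy⟩ := hsurj f
  exact ⟨y, fun x => by rw [← hy, hΦ]⟩

/-- a 3-cycle disjoint to a given one -/
theorem exists_disj {a : A6} (ha : (a : Perm (Fin 6)).cycleType = {3}) :
    ∃ b : A6, (b : Perm (Fin 6)).cycleType = {3} ∧ (b : Perm (Fin 6)).Disjoint a := by
  have h1 : (a : Perm (Fin 6)).support.card = 3 := Perm.IsThreeCycle.card_support ha
  have h2 : ((a : Perm (Fin 6)).supportᶜ).card = 3 := by
    rw [Finset.card_compl, h1, Fintype.card_fin]
  obtain ⟨p, q, r, hpq, hpr, hqr, he⟩ := Finset.card_eq_three.1 h2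
  have h3 : Perm.IsThreeCycle (swap p q * swap p r) := Perm.isThreeCycle_swap_mul_swap_same hpq hpr hqr
  refine ⟨⟨swap p q * swap p r, h3.mem_alternatingGroup⟩, h3, fun x => ?_⟩
  by_cases hx : (a : Perm (Fin 6)) x = x
  · exact Or.inr hx
  · left
    have h4 : x ∉ (a : Perm (Fin 6)).supportᶜ := by
      rw [Finset.mem_compl, not_not, Perm.mem_support]
      exact hx
    rw [he] at h4
    simp only [Finset.mem_insert, Finset.mem_singleton, not_or] at h4
    show (swap p q * swap p r) x = x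
    rw [Perm.mul_apply, swap_apply_of_ne_of_ne h4.1 h4.2.2, swap_apply_of_ne_of_ne h4.1 h4.2.1]

/-- **a derivation commuting with the three-fold cover of `A₆`, of rank at most six and 0 on the small stable subspaces** -/
theorem no_der [CharP F 2] {H : Subgroup ↥(chevE6.group F)} (hS : Sit H 6 φ) {ω : Fˣ} (hc : Cover φ ω)
    {c : chevE6.Idx → F} (hc0 : c ≠ 0) (hfix : ∀ g : ↥(Zgrp F), ad F g ∈ φ.range → L F g c = c)
    (hD : ∀ W : Submodule F (I27 → F), Stab (V F) φ.range W → finrank F ↥W = 3 → ∀ w ∈ W, D c w = 0)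
    (hD' : ∀ W : Submodule F (I27 → F), Stab (V' F) φ.range W → finrank F ↥W = 3 → ∀ w ∈ W, D' c w = 0)
    (hr : finrank F ↥(LinearMap.range (D c)) ≤ 6)
    (h5 : finrank F ↥(LinearMap.range (D c)) = 6 → ∀ z : ↥(Zgrp F), ad F z ∈ φ.range → z ≠ 1 → z ^ 5 = 1 →
      2 + finrank F ↥(LinearMap.ker (D c) ⊓ Module.End.eigenspace (V F z) 1) ≤ ev (V F z) 1) : False := by
  have hφ := hS.inj
  have : Fact (Nat.Prime 2) := ⟨Nat.prime_two⟩
  obtain ⟨N, hN⟩ := ((LinearMap.eventually_isCompl_ker_pow_range_pow (D c)).and (Filter.eventually_ge_atTop 1)).exists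
  obtain ⟨hcompl, hN1⟩ := hN
  have hNs : D c ^ N = D c ^ (N - 1) * D c := by rw [← pow_succ, Nat.sub_add_cancel hN1]
  have hNs' : D c ^ N = D c * D c ^ (N - 1) := by rw [← pow_succ', Nat.sub_add_cancel hN1]
  have hcomm : ∀ g : ↥(Zgrp F), ad F g ∈ φ.range → ∀ i x, V F g ((D c ^ i) x) = (D c ^ i) (V F g x) := by
    intro g hg i
    induction i with
    | zero => intro x; rfl
    | succ i ih =>
      intro x
      rw [pow_succ', Module.End.mul_apply, Module.End.mul_apply, D_comm (hfix g hg), ih]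
  obtain ⟨K1, hK1⟩ : ∃ K1, K1 = LinearMap.ker (D c ^ N) := ⟨_, rfl⟩
  obtain ⟨R1, hR1⟩ : ∃ R1, R1 = LinearMap.range (D c ^ N) := ⟨_, rfl⟩
  rw [← hK1, ← hR1] at hcompl
  have hKs : Stab (V F) φ.range K1 := by
    intro g hg w hw
    rw [hK1, LinearMap.mem_ker] at hw ⊢
    rw [← hcomm g hg, hw, map_zero]
  have hRs : Stab (V F) φ.range R1 := by
    rintro g hg w hw
    rw [hR1] at hw ⊢
    obtain ⟨x, rfl⟩ := hw
    exact ⟨V F g x, (hcomm g hg N x).symm⟩
  have hRinj : ∀ w ∈ R1, D c w = 0 → w = 0 := by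
    intro w hw h0
    have h1 : w ∈ K1 := by
      rw [hK1, LinearMap.mem_ker, hNs, Module.End.mul_apply, h0, map_zero]
    have h2 : w ∈ K1 ⊓ R1 := ⟨h1, hw⟩
    rwa [hcompl.inf_eq_bot, Submodule.mem_bot] at h2
  have hR6 : finrank F ↥R1 ≤ finrank F ↥(LinearMap.range (D c)) := by
    refine Submodule.finrank_mono ?_
    rw [hR1, hNs']
    rintro _ ⟨x, rfl⟩
    exact ⟨(D c ^ (N - 1)) x, rfl⟩
  have h3 : 3 ≤ Nat.card F := by
    classical
    have := Fintype.ofFinite F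
    have h0 : (ω : F) ≠ 1 := fun h => hc.1 (Units.ext h)
    have h1 : ({0, 1, (ω : F)} : Finset F).card = 3 := by
      rw [Finset.card_insert_of_notMem, Finset.card_insert_of_notMem, Finset.card_singleton]
      · rw [Finset.mem_singleton]
        exact fun h => h0 h.symm
      · rw [Finset.mem_insert, Finset.mem_singleton]
        rintro (h | h)
        · exact zero_ne_one h
        · exact ω.ne_zero h.symm
    rw [Nat.card_eq_fintype_card, ← h1]
    exact Finset.card_le_univ _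
  -- the contradiction from a stable subspace of dimension 3
  have key : ∀ W : Submodule F (I27 → F), W ≤ R1 → Stab (V F) φ.range W → finrank F ↥W = 3 → False := by
    intro W hW hs h3
    have h4 : W = ⊥ := by
      rw [Submodule.eq_bot_iff]
      exact fun w hw => hRinj w (hW hw) (hD W hs h3 w hw)
    rw [h4, finrank_bot] at h3
    omega
  have key' : ∀ W : Submodule F (I27 → F), (∀ w ∈ W, ∀ x ∈ K1, tf x w = 0) → Stab (V' F) φ.range W → finrank F ↥W = 3 →
      False := by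
    intro W hW hs h3
    have h4 : W = ⊥ := by
      rw [Submodule.eq_bot_iff]
      intro w hw
      apply tf_nondeg
      intro x
      rw [tf_comm]
      obtain ⟨u1, hu1, u2, hu2, rfl⟩ := Submodule.mem_sup.1 (hcompl.sup_eq_top ▸ Submodule.mem_top : x ∈ K1 ⊔ R1)
      rw [hR1, hNs'] at hu2
      obtain ⟨t, rfl⟩ := hu2
      have h5 := adj_D c ((D c ^ (N - 1)) t) w
      rw [hD' W hs h3 w hw, tf_zero_right, add_zero] at h5
      rw [tf_add_left, hW w hw u1 hu1, zero_add]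
      exact h5
    rw [h4, finrank_bot] at h3
    omega
  obtain ⟨m, hm⟩ := three_dvd hφ hc (Or.inl rfl) hRs
  have hm3 : m = 0 ∨ m = 1 ∨ m = 2 := by omega
  rcases hm3 with rfl | rfl | rfl
  · -- nilpotent
    rw [mul_zero, Submodule.finrank_eq_zero] at hm
    refine no_nilp h3 hS hc0 hfix (by omega) ⟨N, ?_⟩
    rw [← LinearMap.range_eq_bot, ← hR1, hm]
  · exact key R1 le_rfl hRs hm
  -- dimension 6
  have hdim : finrank F (I27 → F) = 27 := by
    rw [Module.finrank_fintype_fun_eq_card]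
    decide
  have hr6 : finrank F ↥(LinearMap.range (D c)) = 6 := by omega
  have hKK : K1 = LinearMap.ker (D c) := by
    symm
    refine Submodule.eq_of_le_of_finrank_eq ?_ ?_
    · intro w hw
      rw [LinearMap.mem_ker] at hw
      rw [hK1, LinearMap.mem_ker, hNs, Module.End.mul_apply, hw, map_zero]
    · have h6 := LinearMap.finrank_range_add_finrank_ker (D c)
      have h7 := Submodule.finrank_add_eq_of_isCompl hcompl
      omega
  obtain ⟨ψ, hψ⟩ : ∃ ψ : ↥(alternatingGroup (Fin 5)) →* ↥(Zgrp F), Lift (φ.comp j) ψ := by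
    rcases Cov.exists_lift (n := 5) le_rfl (φ := φ.comp j) (hφ.comp j_injective) with h | ⟨h | h, -⟩
    · exact h
    · omega
    · omega
  have hψ' : ∀ a, ad F (ψ a) = φ (j a) := hψ
  have hψm : ∀ a, ad F (ψ a) ∈ φ.range := fun a => ⟨j a, (hψ' a).symm⟩
  have hline : ∀ {ρ : Representation F ↥(Zgrp F) (I27 → F)}, (ρ = V F ∨ ρ = V' F) → ∀ v : I27 → F,
      (∀ a, ρ (ψ a) v = v) → ∀ b : ↥(φ.range.comap (ad F)), (Cov.pr hφ b : Perm (Fin 6)) 5 = 5 →
        ∃ c : F, ρ b v = c • v := by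
    intro ρ hρ v hv b hb
    obtain ⟨a, ha⟩ := j_surj hb
    have h1 : ad F (b : ↥(Zgrp F)) = ad F (ψ a) := by rw [hψ', ha, Cov.phi_pr]
    obtain ⟨d, hd⟩ := exists_smul (z := (b : ↥(Zgrp F)) * (ψ a)⁻¹) (by rw [map_mul, map_inv, h1, mul_inv_cancel]) hρ
    refine ⟨d, ?_⟩
    rw [← hd]
    conv_rhs => rw [← hv a]
    rw [← rho_mul, inv_mul_cancel_right]
  -- the restriction to `R1`
  let ρ1 : Representation F ↥(alternatingGroup (Fin 5)) ↥R1 :=
    subrep (MonoidHom.comp (V F) ψ) R1 fun a w hw => hRs (ψ a) (hψm a) w hw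
  have hρ1 : ∀ a (w : ↥R1), ((ρ1 a w : ↥R1) : I27 → F) = V F (ψ a) w := fun a w => rfl
  have hi1 : ρ1.invariants = ⊥ := by
    rw [Submodule.eq_bot_iff]
    rintro ⟨v, hv⟩ hvi
    by_contra hv0
    have hv0' : v ≠ 0 := fun h => hv0 (Subtype.ext h)
    obtain ⟨W, hW, hs, h3⟩ := exists_three hφ hc (Or.inl rfl) hRs hv hv0'
      (hline (Or.inl rfl) v fun a => congrArg Subtype.val ((Representation.mem_invariants (ρ := ρ1) _).1 hvi a))
    exact key W hW hs h3
  have hi2 : ρ1.dual.invariants = ⊥ := by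
    rw [Submodule.eq_bot_iff]
    intro f hf
    by_contra hf0
    have hf1 : ∀ a w, f (ρ1 a⁻¹ w) = f w := fun a w =>
      LinearMap.congr_fun ((Representation.mem_invariants (ρ := ρ1.dual) _).1 hf a) w
    obtain ⟨pj, hpj⟩ : ∃ pj : (I27 → F) →ₗ[F] ↥R1, (∀ w : ↥R1, pj w = w) ∧ ∀ w ∈ K1, pj w = 0 :=
      ⟨Submodule.projectionOnto R1 K1 hcompl.symm, fun w => Submodule.projectionOnto_apply_left _ w,
        fun w hw => (Submodule.projectionOnto_apply_eq_zero_iff _).2 hw⟩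
    obtain ⟨y, hy⟩ := exists_tf (f ∘ₗ pj)
    have hyK : ∀ x ∈ K1, tf x y = 0 := by
      intro x hx
      rw [← hy, LinearMap.comp_apply, hpj.2 x hx, map_zero]
    have hyR : ∀ x : ↥R1, tf (x : I27 → F) y = f x := by
      intro x
      rw [← hy, LinearMap.comp_apply, hpj.1]
    have hy0 : y ≠ 0 := by
      rintro rfl
      apply hf0
      refine LinearMap.ext fun x => ?_
      rw [← hyR, tf_zero_right]
      rfl
    have hyi : ∀ a, V' F (ψ a) y = y := by
      intro a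
      rw [← sub_eq_zero]
      apply tf_nondeg
      intro x
      obtain ⟨z, hz⟩ : ∃ z, V F (ψ a) z = x := ⟨V F (ψ a)⁻¹ x, Act.V_apply_inv (ψ a) x⟩
      rw [tf_comm, sub_eq_add_neg, tf_add_right, tf_neg_right, ← hz, Act.tf_act]
      obtain ⟨u1, hu1, u2, hu2, rfl⟩ := Submodule.mem_sup.1 (hcompl.sup_eq_top ▸ Submodule.mem_top : z ∈ K1 ⊔ R1)
      rw [map_add, tf_add_left, tf_add_left, hyK u1 hu1, hyK _ (hKs (ψ a) (hψm a) u1 hu1), zero_add, zero_add]
      have h6 := hyR ⟨u2, hu2⟩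
      have h7 := hyR ⟨V F (ψ a) u2, hRs (ψ a) (hψm a) u2 hu2⟩
      have h8 := hf1 a⁻¹ ⟨u2, hu2⟩
      rw [inv_inv] at h8
      have h9 : ρ1 a ⟨u2, hu2⟩ = ⟨V F (ψ a) u2, hRs (ψ a) (hψm a) u2 hu2⟩ := rfl
      rw [h9] at h8
      change tf u2 y = _ at h6
      change tf (V F (ψ a) u2) y = _ at h7
      rw [h6, h7, h8, add_neg_cancel]
    let U : Submodule F (I27 → F) :=
      { carrier := {w | ∀ x ∈ K1, tf x w = 0}
        zero_mem' := fun x _ => tf_zero_right x
        add_mem' := fun {a b} ha hb x hx => by rw [tf_add_right, ha x hx, hb x hx, add_zero]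
        smul_mem' := fun t a ha x hx => by rw [tf_smul_right, ha x hx, mul_zero] }
    have hU : ∀ w, w ∈ U ↔ ∀ x ∈ K1, tf x w = 0 := fun w => Iff.rfl
    have hUs : Stab (V' F) φ.range U := by
      intro g hg w hw
      rw [hU] at hw ⊢
      intro x hx
      have h6 := hw _ (hKs g⁻¹ (by rw [map_inv]; exact inv_mem hg) x hx)
      rwa [← Act.tf_act g, Act.V_apply_inv] at h6
    obtain ⟨W, hW, hs, h3⟩ := exists_three hφ hc (Or.inr rfl) hUs ((hU y).2 hyK) hy0 (hline (Or.inr rfl) y hyi)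
    exact key' W (fun w hw => (hU w).1 (hW hw)) hs h3
  obtain ⟨x, y, hgen, hx, hy, hxy⟩ := H952.F4.Gen.gen5
  have hsc := H952.F4.Scott.scott ρ1 hgen
  rw [hi1, hi2, finrank_bot, finrank_bot, hm] at hsc
  have hord : ∀ {a : ↥(alternatingGroup (Fin 5))} {m : Multiset ℕ} {k : ℕ}, (a : Perm (Fin 5)).cycleType = m → m.lcm = k →
      orderOf a = k := by
    intro a m k ha hm
    rw [← Subgroup.orderOf_coe, ← Perm.lcm_cycleType, ha, hm]
  have ox : orderOf x = 2 := hord hx (by decide)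
  have oy : orderOf y = 3 := hord hy (by decide)
  have oz : orderOf (x * y) = 5 := hord hxy (by decide)
  have e2 := two_mul_ev (T := ρ1 x) (by rw [← map_pow, ← ox, pow_orderOf_eq_one, map_one])
  rw [hm] at e2
  have e3 : 2 ≤ ev (ρ1 y) 1 := by
    -- an element commuting with the lift of `y` up to a scalar
    obtain ⟨b, d, hd1, hd3, hbd⟩ : ∃ b : ↥(Zgrp F), ∃ d : F, d ≠ 1 ∧ d ^ 3 = 1 ∧ ad F b ∈ φ.range ∧
        ∀ w, V F b (V F (ψ y) w) = d • V F (ψ y) (V F b w) := by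
      have hjy : ((j y : A6) : Perm (Fin 6)).cycleType = {3} := (Perm.cycleType_extendDomain _).trans hy
      obtain ⟨a, ha, hda⟩ := exists_disj hjy
      obtain ⟨b, hb⟩ := ad_surjective (φ a)
      obtain ⟨d, hd1, hd3, hd⟩ := comm_smul hφ hc (Or.inl rfl) ha hjy hda hb (hψ' y)
      exact ⟨b, d, hd1, hd3, ⟨a, hb.symm⟩, hd⟩
    have h6 := three_mul_ev (T := ρ1 y) (B := (V F b).restrict (hRs b hbd.1)) hd1 hd3
      (by rw [← map_pow, ← oy, pow_orderOf_eq_one, map_one]) (fun u w huw => Subtype.ext (by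
        have h7 : V F b u = V F b w := congrArg Subtype.val huw
        have h8 := congrArg (V F b⁻¹) h7
        rwa [Act.V_inv_apply, Act.V_inv_apply] at h8)) fun w => Subtype.ext ((hbd.2 w :))
    rw [hm] at h6
    omega
  have hz5 : (x * y) ^ 5 = 1 := orderOf_dvd_iff_pow_eq_one.1 (by rw [oz])
  have e5 : 2 ≤ ev (ρ1 (x * y)) 1 := by
    have h6 := h5 hr6 (ψ (x * y)) (hψm _) (by
      intro h6
      have h7 : φ (j (x * y)) = 1 := by rw [← hψ', h6, map_one]
      have h8 : x * y = 1 := j_injective (hφ (by rw [h7, map_one, map_one]))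
      rw [h8, orderOf_one] at oz
      omega) (by rw [← map_pow, hz5, map_one])
    have h7 := ev_le_add (T := V F (ψ (x * y))) (hKs _ (hψm _)) (hRs _ (hψm _)) hcompl 1
    have h8 : ev (ρ1 (x * y)) 1 = _ := ev_restrict (T := V F (ψ (x * y))) (U := R1) (hRs _ (hψm _)) 1
    rw [hKK] at h7
    omega
  omega

end Cfsg.Agent.H944.E6CovFit
end

private theorem dce_5dc33fa22f75 : _root_.True := by
  try have : _root_.True := by simp only [_root_.Cfsg.Agent.H958.SixC.U3.eq_1]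
  try have : _root_.True := by simp only [_root_.Cfsg.Agent.H958.SixC.S3.eq_1]
  try have : _root_.True := by simp only [_root_.Cfsg.Agent.H958.SixC.rr.eq_1]
  try have : _root_.True := by simp only [_root_.Cfsg.Agent.H958.SixC.xx.eq_1]
  exact _root_.True.intro
end
end
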